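import Groth.Agent.L10.HDesc.Cochains
import Mathlib.AlgebraicTopology.SimplicialObject.ChainHomotopy
import Mathlib.CategoryTheory.Preadditive.Opposite

/-!
Cochains of simplicial objects with values in a contravariant functor to complexes.
-/

universe u v w

open CategoryTheory CategoryTheory.Limits Opposite Simplicial AlgebraicTopology

set_option backward.defeqAttrib.useBackward true
set_option backward.isDefEq.respectTransparency false
set_option backward.isDefEq.respectTransparency.types false
set_option autoImplicit false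

namespace Groth.L10.HDesc

variable {C : Type w} [Category.{v} C] (G : Cᵒᵖ ⥤ CochainComplex AddCommGrpCat.{u} ℤ)

/-- The cosimplicial complex of a simplicial object. -/
noncomputable abbrev gx (K : SimplicialObject C) : CosimplicialObject (CochainComplex AddCommGrpCat.{u} ℤ) :=
  K.rightOp ⋙ G

/-- The double complex, as a functor. -/
noncomputable def Gs : (SimplicialObject C)ᵒᵖ ⥤ DC.{u} where
  obj K := dcF.obj (gx G K.unop)
  map φ := dcF.map (Functor.whiskerRight (NatTrans.rightOp φ.unop) G)
  map_id K := (congrArg (fun z => dcF.map z) (NatTrans.ext (funext fun n => G.map_id _))).trans (dcF.map_id _)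
  map_comp φ ψ := (congrArg (fun z => dcF.map z) (NatTrans.ext (funext fun n => G.map_comp _ _))).trans (dcF.map_comp _ _)

theorem Gs_map_f {K L : SimplicialObject C} (φ : K ⟶ L) (n : ℕ) :
    ((Gs G).map φ.op).f n = G.map (φ.app (op ⦋n⦌)).op := rfl

/-- The total complex. -/
noncomputable abbrev Ts : (SimplicialObject C)ᵒᵖ ⥤ CochainComplex AddCommGrpCat.{u} ℤ := Gs G ⋙ totF

variable {K : SimplicialObject C} {X : C}

theorem aug_eq (η : K ⟶ (SimplicialObject.const C).obj X) :
    G.map (η.app (op ⦋0⦌)).op ≫ (gx G K).δ 0 = G.map (η.app (op ⦋0⦌)).op ≫ (gx G K).δ 1 := by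
  show G.map _ ≫ G.map (K.δ 0).op = G.map _ ≫ G.map (K.δ 1).op
  rw [← G.map_comp, ← G.map_comp, ← op_comp, ← op_comp]
  exact congrArg (fun z => G.map z.op) ((η.naturality (SimplexCategory.δ (0 : Fin 2)).op).trans
    (η.naturality (SimplexCategory.δ (1 : Fin 2)).op).symm)

/-- The augmentation of the total complex. -/
noncomputable abbrev aug (η : K ⟶ (SimplicialObject.const C).obj X) : G.obj (op X) ⟶ (Ts G).obj (op K) :=
  caug (gx G K) (G.map (η.app (op ⦋0⦌)).op) (aug_eq G η)

theorem aug_natural {K' : SimplicialObject C} {X' : C} (η : K ⟶ (SimplicialObject.const C).obj X)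
    (η' : K' ⟶ (SimplicialObject.const C).obj X') (φ : K' ⟶ K) (c : X' ⟶ X)
    (h : φ ≫ η = η' ≫ (SimplicialObject.const C).map c) :
    aug G η ≫ (Ts G).map φ.op = G.map c.op ≫ aug G η' :=
  caug_totMap (Functor.whiskerRight (NatTrans.rightOp φ) G) _ _ (aug_eq G η) (aug_eq G η') _ (by
    show G.map _ ≫ G.map (φ.app (op ⦋0⦌)).op = G.map c.op ≫ G.map _
    rw [← G.map_comp, ← G.map_comp, ← op_comp, ← op_comp]
    exact congrArg (fun z => G.map z.op) (congr_app h (op ⦋0⦌)))

theorem quasiIsoAt_Ts_map (hG : ∀ Y (k : ℤ), k < 0 → Subsingleton ((G.obj Y).X k)) {K' : SimplicialObject C} (φ : K' ⟶ K)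
    (N : ℕ) (h : ∀ i, i ≤ N → IsIso (φ.app (op ⦋i⦌))) (n : ℤ) (hn : n < N) : QuasiIsoAt ((Ts G).map φ.op) n :=
  quasiIsoAt_totMap_of_le ((Gs G).map φ.op) (fun _ k hk => hG _ k hk) (fun _ k hk => hG _ k hk) N (fun i hi => by
    have := h i hi
    rw [Gs_map_f]
    infer_instance) n hn

section Homotopy

variable {K' : SimplicialObject C} {f g : K ⟶ K'}

/-- The simplicial object in opposite complexes. -/
noncomputable abbrev opC : SimplicialObject C ⥤ SimplicialObject (CochainComplex AddCommGrpCat.{u} ℤ)ᵒᵖ :=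
  (SimplicialObject.whiskering C _).obj G.rightOp

theorem Gs_d_eq (L : SimplicialObject C) (n : ℕ) :
    ((Gs G).obj (op L)).d n (n + 1) = (((alternatingFaceMapComplex _).obj ((opC G).obj L)).d (n + 1) n).unop := by
  rw [alternatingFaceMapComplex_obj_d]
  refine (dcF_d (gx G L) n).trans ?_
  rw [AlternatingCofaceMapComplex.objD, AlternatingFaceMapComplex.objD, unop_sum]
  refine Finset.sum_congr rfl fun j _ => ?_
  rw [unop_zsmul]
  rfl

/-- A simplicial homotopy gives a homotopy of double complexes. -/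
noncomputable def homotopyGs (H : SimplicialObject.Homotopy f g) : Homotopy ((Gs G).map f.op) ((Gs G).map g.op) where
  hom i j := ((H.whiskerRight G.rightOp).toChainHomotopy.hom j i).unop
  zero i j h := by
    rw [(H.whiskerRight G.rightOp).toChainHomotopy.zero j i h]
    rfl
  comm n := by
    have hc := (H.whiskerRight G.rightOp).toChainHomotopy.comm n
    cases n with
    | zero =>
      rw [dNext_eq (i' := 1) (w := rfl), prevD_eq_zero _ _ (by simp), add_zero, Gs_d_eq]
      rw [dNext_eq_zero _ _ (by simp), prevD_eq (j' := 1) (w := rfl), zero_add] at hc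
      exact congrArg Quiver.Hom.unop hc
    | succ n =>
      rw [dNext_eq (i' := n + 1 + 1) (w := rfl), prevD_eq (j' := n) (w := rfl), Gs_d_eq, Gs_d_eq]
      rw [dNext_eq (i' := n) (w := rfl), prevD_eq (j' := n + 1 + 1) (w := rfl)] at hc
      refine (congrArg Quiver.Hom.unop hc).trans ?_
      rw [unop_add, unop_add, unop_comp, unop_comp]
      exact congrArg (· + _) (add_comm _ _)

/-- Mutually inverse maps up to simplicial homotopy. -/
theorem quasiIso_Ts_map {φ : K ⟶ K'} {ψ : K' ⟶ K} (h₁ : φ ≫ ψ = 𝟙 K)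
    (h₂ : Nonempty (SimplicialObject.Homotopy (ψ ≫ φ) (𝟙 K'))) : QuasiIso ((Ts G).map φ.op) := by
  refine quasiIso_totMap_of_homotopy (ψ := (Gs G).map ψ.op) ?_ ⟨Homotopy.ofEq ?_⟩
  · rw [← Functor.map_comp, ← op_comp, ← (Gs G).map_id, ← op_id]
    exact ⟨homotopyGs G h₂.some⟩
  · rw [← Functor.map_comp, ← op_comp, h₁, op_id, (Gs G).map_id]

end Homotopy

end Groth.L10.HDesc
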