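import Mathlib.CategoryTheory.Functor.KanExtension.Pointwise
import Mathlib.AlgebraicTopology.CechNerve
import Mathlib.AlgebraicTopology.SimplicialObject.Coskeletal

/-!
Čech nerves over a terminal object are coskeletal.
-/

universe u v w

open CategoryTheory CategoryTheory.Limits Opposite Simplicial SimplexCategory

set_option backward.defeqAttrib.useBackward true
set_option backward.isDefEq.respectTransparency false
set_option backward.isDefEq.respectTransparency.types false
set_option autoImplicit false

namespace Groth.L10.HDesc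

variable {C : Type w} [Category.{v} C] [HasFiniteProducts C] (x : C)

theorem cechTerminal_map_π {j m : SimplexCategory} (θ : j ⟶ m) (l : Fin (j.len + 1)) :
    (cechNerveTerminalFrom x).map θ.op ≫ Pi.π (fun _ : Fin (j.len + 1) => x) l =
      Pi.π (fun _ : Fin (m.len + 1) => x) (θ.toOrderHom l) :=
  Limits.Pi.lift_π _ l

theorem cechTerminal_hom_ext {m : SimplexCategory} {T : C} (a b : T ⟶ (cechNerveTerminalFrom x).obj (op m))
    (e : ∀ i : Fin (m.len + 1), a ≫ (cechNerveTerminalFrom x).map (SimplexCategory.const ⦋0⦌ m i).op =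
      b ≫ (cechNerveTerminalFrom x).map (SimplexCategory.const ⦋0⦌ m i).op) : a = b :=
  Limits.Pi.hom_ext _ _ fun i => by
    have h := congrArg (· ≫ Pi.π (fun _ : Fin ((⦋0⦌ : SimplexCategory).len + 1) => x) 0) (e i)
    simp only [Category.assoc, cechTerminal_map_π] at h
    exact h

/-- Levels are the limits of the truncation. -/
theorem isCoskeletal_cechNerveTerminalFrom (n : ℕ) : SimplicialObject.IsCoskeletal (cechNerveTerminalFrom x) n := by
  refine ⟨Functor.RightExtension.IsPointwiseRightKanExtension.isRightKanExtension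
    (E := SimplicialObject.Truncated.rightExtensionInclusion (cechNerveTerminalFrom x) n) ?_⟩
  rintro ⟨m⟩
  let z0 : SimplexCategory.Truncated n := ⟨⦋0⦌, Nat.zero_le n⟩
  let obj : Fin (m.len + 1) → StructuredArrow (op m) (SimplexCategory.Truncated.inclusion n).op := fun i =>
    StructuredArrow.mk (Y := op z0) (SimplexCategory.const ⦋0⦌ m i).op
  refine
    { lift := fun s => Limits.Pi.lift fun i =>
        s.π.app (obj i) ≫ Pi.π (fun _ : Fin ((⦋0⦌ : SimplexCategory).len + 1) => x) 0
      fac := fun s g => ?_
      uniq := fun s f hf => ?_ }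
  · obtain ⟨⟨j, hj⟩, θ, rfl⟩ := g.mk_surjective
    refine (congrArg (_ ≫ ·) (Category.comp_id _)).trans (Limits.Pi.hom_ext _ _ fun l => ?_)
    rw [Category.assoc]
    erw [cechTerminal_map_π]
    rw [Limits.Pi.lift_π]
    let φ : StructuredArrow.mk (Y := op (⟨j, hj⟩ : SimplexCategory.Truncated n)) θ ⟶ obj (θ.unop.toOrderHom l) :=
      StructuredArrow.homMk (SimplexCategory.Truncated.Hom.tr (SimplexCategory.const ⦋0⦌ j l) (Nat.zero_le n) hj).op
        (congrArg Quiver.Hom.op (SimplexCategory.const_comp _ θ.unop l))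
    refine (congrArg (· ≫ _) (s.w φ).symm).trans ((Category.assoc _ _ _).trans (congrArg (_ ≫ ·) ?_))
    exact cechTerminal_map_π x (SimplexCategory.const ⦋0⦌ j l) 0
  · refine cechTerminal_hom_ext x _ _ fun i => Limits.Pi.hom_ext _ _ fun l => ?_
    obtain rfl : l = 0 := Subsingleton.elim (α := Fin 1) l 0
    have h := hf (obj i)
    refine (congrArg (· ≫ _) ((congrArg (f ≫ ·) (Category.comp_id _).symm).trans h)).trans ?_
    rw [Category.assoc]
    erw [cechTerminal_map_π]
    rw [Limits.Pi.lift_π]
    rfl

end Groth.L10.HDesc
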