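import Groth.Agent.L10.HDesc.Sys
import Mathlib.Algebra.Category.Grp.Preadditive
import Mathlib.Algebra.Category.Grp.Colimits
import Mathlib.CategoryTheory.Preadditive.FunctorCategory
import Mathlib.Algebra.Homology.HomologicalComplex
import Mathlib.GroupTheory.QuotientGroup.Defs
import Mathlib.Topology.Sheaves.Flasque

/-!
The resolution by discontinuous sections, functorial in the space over the base.
-/

universe u

open CategoryTheory CategoryTheory.Limits Opposite TopologicalSpace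

set_option backward.defeqAttrib.useBackward true
set_option backward.isDefEq.respectTransparency false
set_option backward.isDefEq.respectTransparency.types false
set_option autoImplicit false

namespace Groth.L10.HDesc

variable {S : TopCat.{u}}

theorem eps_natural (P : Sys S) {a b : (OpO S)ᵒᵖ} (φ : a ⟶ b) (q : P.obj a) :
    (G0 P).map φ ((eps P).app a q) = (eps P).app b (P.map φ q) :=
  congr($((eps P).naturality φ) q).symm

/-- The range of germs in one degree. -/
noncomputable abbrev epsRange (P : Sys S) (a : (OpO S)ᵒᵖ) : AddSubgroup ((G0 P).obj a) := ((eps P).app a).hom.range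

/-- The quotient by germs. -/
noncomputable def nextP (P : Sys S) : Sys S where
  obj a := AddCommGrpCat.of ((G0 P).obj a ⧸ epsRange P a)
  map {a b} φ := AddCommGrpCat.ofHom (QuotientAddGroup.map (epsRange P a) (epsRange P b) ((G0 P).map φ).hom (by
    rintro s ⟨q, rfl⟩
    exact ⟨P.map φ q, (eps_natural P φ q).symm⟩))
  map_id a := AddCommGrpCat.hom_ext (QuotientAddGroup.addMonoidHom_ext _ (AddMonoidHom.ext fun s =>
    congrArg QuotientAddGroup.mk (congr($((G0 P).map_id a) s))))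
  map_comp φ ψ := AddCommGrpCat.hom_ext (QuotientAddGroup.addMonoidHom_ext _ (AddMonoidHom.ext fun s =>
    congrArg QuotientAddGroup.mk (congr($((G0 P).map_comp φ ψ) s))))

/-- The projection. -/
noncomputable def quotP (P : Sys S) : G0 P ⟶ nextP P where
  app a := AddCommGrpCat.ofHom (QuotientAddGroup.mk' (epsRange P a))
  naturality _ _ _ := AddCommGrpCat.hom_ext (AddMonoidHom.ext fun _ => rfl)

theorem eps_quotP (P : Sys S) (a : (OpO S)ᵒᵖ) (q : P.obj a) : (quotP P).app a ((eps P).app a q) = 0 :=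
  (QuotientAddGroup.eq_zero_iff _).2 ⟨q, rfl⟩

variable (Q : Sys S)

/-- The successive quotients. -/
noncomputable def Pn : ℕ → Sys S
  | 0 => Q
  | n + 1 => nextP (Pn n)

/-- The zero system. -/
def zSys (S : TopCat.{u}) : Sys S := (Functor.const _).obj (AddCommGrpCat.of PUnit.{u + 1})

/-- The terms of the resolution. -/
noncomputable def GX : ℤ → Sys S
  | Int.ofNat n => G0 (Pn Q n)
  | Int.negSucc _ => zSys S

/-- The differential. -/
noncomputable def dG : ∀ n : ℤ, GX Q n ⟶ GX Q (n + 1)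
  | Int.ofNat n => quotP (Pn Q n) ≫ eps (Pn Q (n + 1))
  | Int.negSucc _ => 0

theorem dG_dG (n : ℤ) : dG Q n ≫ dG Q (n + 1) = 0 := by
  cases n with
  | ofNat j =>
    refine NatTrans.ext (funext fun a => AddCommGrpCat.hom_ext (AddMonoidHom.ext fun s => ?_))
    show (eps (Pn Q (j + 1 + 1))).app a ((quotP (Pn Q (j + 1))).app a ((eps (Pn Q (j + 1))).app a
      ((quotP (Pn Q j)).app a s))) = 0
    rw [eps_quotP, map_zero]
  | negSucc j => exact zero_comp

theorem of_d' {V : Type*} [Category V] [HasZeroMorphisms V] (X : ℤ → V) (d : ∀ n, X n ⟶ X (n + 1))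
    (sq : ∀ n, d n ≫ d (n + 1) = 0) (n : ℤ) : (CochainComplex.of X d sq).d n (n + 1) = d n :=
  CochainComplex.of_d X d n

/-- The resolution, as a functor on pairs. -/
noncomputable def GS : (OpO S)ᵒᵖ ⥤ CochainComplex AddCommGrpCat.{u} ℤ where
  obj a := CochainComplex.of (fun n => (GX Q n).obj a) (fun n => (dG Q n).app a)
    (fun n => by rw [← NatTrans.comp_app, dG_dG]; rfl)
  map {a b} φ :=
    { f := fun n => (GX Q n).map φ
      comm' := fun n m (h : n + 1 = m) => by
        subst h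
        rw [of_d', of_d']
        exact (dG Q n).naturality φ }
  map_id a := HomologicalComplex.hom_ext _ _ fun n => (GX Q n).map_id a
  map_comp φ ψ := HomologicalComplex.hom_ext _ _ fun n => (GX Q n).map_comp φ ψ

theorem GS_d (a : (OpO S)ᵒᵖ) (n : ℤ) : ((GS Q).obj a).d n (n + 1) = (dG Q n).app a :=
  of_d' _ _ (fun n => by rw [← NatTrans.comp_app, dG_dG]; rfl) n

theorem GS_subsingleton (a : (OpO S)ᵒᵖ) {n : ℤ} (hn : n < 0) : Subsingleton (((GS Q).obj a).X n) := by
  cases n with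
  | ofNat j => exact absurd hn (by simp)
  | negSucc j => exact inferInstanceAs (Subsingleton PUnit)

theorem isSheafSys_GX (n : ℤ) : IsSheafSys (GX Q n) := by
  cases n with
  | ofNat j => exact isSheafSys_G0 _
  | negSucc j =>
    intro X
    rw [TopCat.Presheaf.isSheaf_iff_isSheafUniqueGluing]
    intro ι U sf _
    exact ⟨PUnit.unit, fun _ => @Subsingleton.elim PUnit.{u + 1} _ _ _, fun _ _ => @Subsingleton.elim PUnit.{u + 1} _ _ _⟩

/-- A term of the resolution on one space, as a sheaf. -/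
noncomputable def GSh (X : Over S) (n : ℤ) : CohTop.Ab X.left := ⟨res (GX Q n) X, isSheafSys_GX Q n X⟩

instance isFlasque_GSh (X : Over S) (n : ℤ) : TopCat.Sheaf.IsFlasque (GSh Q X n) := by
  refine ⟨fun {V W} i => ?_⟩
  rw [AddCommGrpCat.epi_iff_surjective]
  cases n with
  | ofNat j => exact G0_surjective _ i.unop.le
  | negSucc j => exact fun t => ⟨PUnit.unit, @Subsingleton.elim PUnit.{u + 1} _ _ _⟩

/-- The differential on one space. -/
noncomputable def GSd (X : Over S) (n : ℤ) : GSh Q X n ⟶ GSh Q X (n + 1) :=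
  ⟨Functor.whiskerLeft (inX X).op (dG Q n)⟩

theorem GC_sq (X : Over S) (n : ℤ) :
    GSd Q X n ≫ GSd Q X (n + 1) = 0 :=
  Sheaf.hom_ext (show Functor.whiskerLeft (inX X).op (dG Q n) ≫ Functor.whiskerLeft (inX X).op (dG Q (n + 1)) = 0 by
    rw [← Functor.whiskerLeft_comp, dG_dG]
    rfl)

/-- The resolution on one space. -/
noncomputable def GC (X : Over S) : CochainComplex (CohTop.Ab X.left) ℤ :=
  CochainComplex.of (GSh Q X) (GSd Q X)
    (GC_sq Q X)

theorem GC_d_app (X : Over S) (n : ℤ) (V : (Opens X.left)ᵒᵖ) :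
    ((GC Q X).d n (n + 1)).hom.app V = ((GS Q).obj ((inX X).op.obj V)).d n (n + 1) := by
  rw [GS_d]
  exact congrArg (fun φ : GSh Q X n ⟶ GSh Q X (n + 1) => φ.hom.app V) (of_d' (GSh Q X) _ (GC_sq Q X) n)

variable {Q}

theorem exists_mem_range_of_quot (P : Sys S) {X : Over S} {V : Opens X.left} (x : X.left) (hx : x ∈ V)
    (s : (G0 P).obj (op (⟨X, V⟩ : OpO S))) (hs : gm (nextP P) ⟨X, V⟩ x hx ((quotP P).app _ s) = 0) :
    ∃ (W : Opens X.left) (hW : W ≤ V), x ∈ W ∧ ∃ q : P.obj (op (⟨X, W⟩ : OpO S)),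
      (G0 P).map ((inX X).map (homOfLE hW)).op s = (eps P).app _ q := by
  obtain ⟨W, hxW, i₁, i₂, e⟩ := TopCat.Presheaf.germ_eq (C := AddCommGrpCat.{u}) (res (nextP P) X) x hx hx
    ((quotP P).app _ s) 0 (hs.trans (map_zero _).symm)
  rw [map_zero] at e
  refine ⟨W, i₁.le, hxW, ?_⟩
  obtain ⟨q, hq⟩ := (QuotientAddGroup.eq_zero_iff _).1
    (show (quotP P).app _ ((G0 P).map ((inX X).map i₁).op s) = 0 from
      (congr($((quotP P).naturality ((inX X).map i₁).op) s)).trans e)
  exact ⟨q, hq.symm⟩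

theorem gm_eq_zero_of_dG {j : ℕ} {X : Over S} {V : Opens X.left} (x : X.left) (hx : x ∈ V)
    (s : (G0 (Pn Q j)).obj (op (⟨X, V⟩ : OpO S))) (hs : (dG Q (Int.ofNat j)).app _ s = 0) :
    gm (nextP (Pn Q j)) ⟨X, V⟩ x hx ((quotP (Pn Q j)).app _ s) = 0 :=
  congr_fun hs ⟨x, hx⟩

theorem exists_local_primitive₀ {X : Over S} {V : Opens X.left} (x : X.left) (hx : x ∈ V)
    (s : (G0 Q).obj (op (⟨X, V⟩ : OpO S))) (hs : (dG Q 0).app _ s = 0) :
    ∃ (W : Opens X.left) (hW : W ≤ V), x ∈ W ∧ ∃ q : Q.obj (op (⟨X, W⟩ : OpO S)),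
      (G0 Q).map ((inX X).map (homOfLE hW)).op s = (eps Q).app _ q :=
  exists_mem_range_of_quot Q x hx s (gm_eq_zero_of_dG (j := 0) x hx s hs)

theorem exists_local_primitive {j : ℕ} {X : Over S} {V : Opens X.left} (x : X.left) (hx : x ∈ V)
    (s : (G0 (Pn Q (j + 1))).obj (op (⟨X, V⟩ : OpO S))) (hs : (dG Q (Int.ofNat (j + 1))).app _ s = 0) :
    ∃ (W : Opens X.left) (hW : W ≤ V), x ∈ W ∧ ∃ t : (G0 (Pn Q j)).obj (op (⟨X, W⟩ : OpO S)),
      (G0 (Pn Q (j + 1))).map ((inX X).map (homOfLE hW)).op s = (dG Q (Int.ofNat j)).app _ t := by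
  obtain ⟨W, hW, hxW, q, hq⟩ := exists_mem_range_of_quot (Pn Q (j + 1)) x hx s (gm_eq_zero_of_dG (j := j + 1) x hx s hs)
  obtain ⟨t, rfl⟩ := QuotientAddGroup.mk'_surjective (epsRange (Pn Q j) _) q
  exact ⟨W, hW, hxW, t, hq⟩

end Groth.L10.HDesc
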