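import Groth.Agent.L10.HDesc.Rows
import Groth.Agent.L10.HDesc.Godement
import Mathlib.AlgebraicTopology.AlternatingFaceMapComplex

/-!
Double complexes of cosimplicial complexes, and of simplicial objects in pairs.
-/

universe u

open CategoryTheory CategoryTheory.Limits Opposite Simplicial AlgebraicTopology TopologicalSpace

set_option backward.defeqAttrib.useBackward true
set_option backward.isDefEq.respectTransparency false
set_option backward.isDefEq.respectTransparency.types false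
set_option autoImplicit false

namespace Groth.L10.HDesc

/-- The double complex of a cosimplicial complex. -/
noncomputable abbrev dcF : CosimplicialObject (CochainComplex AddCommGrpCat.{u} ℤ) ⥤ DC.{u} :=
  alternatingCofaceMapComplex _

variable (X : CosimplicialObject (CochainComplex AddCommGrpCat.{u} ℤ))

theorem dcF_d (n : ℕ) : (dcF.obj X).d n (n + 1) = AlternatingCofaceMapComplex.objD X n :=
  CochainComplex.of_d (fun n => X.obj ⦋n⦌) (AlternatingCofaceMapComplex.objD X) n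

theorem dcF_d_zero : (dcF.obj X).d 0 1 = X.δ 0 - X.δ 1 := by
  rw [show (dcF.obj X).d 0 1 = (dcF.obj X).d 0 (0 + 1) from rfl, dcF_d, AlternatingCofaceMapComplex.objD,
    Fin.sum_univ_two, Fin.val_zero, pow_zero, one_zsmul, Fin.val_one, pow_one, neg_one_zsmul, sub_eq_add_neg]

/-- The inclusion of an equalizing augmentation. -/
noncomputable abbrev caug {A : CochainComplex AddCommGrpCat.{u} ℤ} (η : A ⟶ X.obj ⦋0⦌)
    (h : η ≫ X.δ 0 = η ≫ X.δ 1) : A ⟶ tot (dcF.obj X) :=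
  totAug (E := dcF.obj X) η ((congrArg (η ≫ ·) (dcF_d_zero X)).trans (by rw [Preadditive.comp_sub, h, sub_self]))

variable {X}

theorem caug_totMap {X' : CosimplicialObject (CochainComplex AddCommGrpCat.{u} ℤ)} (φ : X ⟶ X')
    {A B : CochainComplex AddCommGrpCat.{u} ℤ} (η : A ⟶ X.obj ⦋0⦌) (η' : B ⟶ X'.obj ⦋0⦌)
    (h : η ≫ X.δ 0 = η ≫ X.δ 1) (h' : η' ≫ X'.δ 0 = η' ≫ X'.δ 1) (c : A ⟶ B) (hc : η ≫ φ.app ⦋0⦌ = c ≫ η') :
    caug X η h ≫ totMap (dcF.map φ) = c ≫ caug X' η' h' :=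
  totAug_totMap (E := dcF.obj X) (F := dcF.obj X') (dcF.map φ) η η' _ _ c hc

theorem caug_proj₀ {A : CochainComplex AddCommGrpCat.{u} ℤ} (η : A ⟶ X.obj ⦋0⦌) (h : η ≫ X.δ 0 = η ≫ X.δ 1) :
    caug X η h ≫ proj₀ (dcF.obj X) = η :=
  totAug_proj₀ (E := dcF.obj X) η _

variable {S : TopCat.{u}} (Q : Sys S)

/-- The cosimplicial complex of a simplicial object in pairs. -/
noncomputable abbrev gX (P : SimplicialObject (OpO S)) : CosimplicialObject (CochainComplex AddCommGrpCat.{u} ℤ) :=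
  P.rightOp ⋙ GS Q

/-- Its functoriality. -/
noncomputable abbrev gMap {P P' : SimplicialObject (OpO S)} (φ : P' ⟶ P) : gX Q P ⟶ gX Q P' :=
  Functor.whiskerRight (NatTrans.rightOp φ) (GS Q)

variable (P : SimplicialObject (OpO S)) {a : OpO S} (e : P.obj (op ⦋0⦌) ⟶ a) (he : P.δ 0 ≫ e = P.δ 1 ≫ e)

theorem gAug_eq (he : P.δ 0 ≫ e = P.δ 1 ≫ e) :
    (GS Q).map e.op ≫ (gX Q P).δ 0 = (GS Q).map e.op ≫ (gX Q P).δ 1 := by
  show (GS Q).map e.op ≫ (GS Q).map (P.δ 0).op = (GS Q).map e.op ≫ (GS Q).map (P.δ 1).op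
  rw [← Functor.map_comp, ← Functor.map_comp, ← op_comp, ← op_comp, he]

/-- The augmentation of the total complex of an augmented simplicial object in pairs. -/
noncomputable abbrev gAug : (GS Q).obj (op a) ⟶ tot (dcF.obj (gX Q P)) :=
  caug (gX Q P) ((GS Q).map e.op) (gAug_eq Q P e he)

theorem gAug_natural {P' : SimplicialObject (OpO S)} (φ : P' ⟶ P) {a' : OpO S} (e' : P'.obj (op ⦋0⦌) ⟶ a')
    (he' : P'.δ 0 ≫ e' = P'.δ 1 ≫ e') (c : a' ⟶ a) (hc : φ.app (op ⦋0⦌) ≫ e = e' ≫ c) :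
    gAug Q P e he ≫ totMap (dcF.map (gMap Q φ)) = (GS Q).map c.op ≫ gAug Q P' e' he' :=
  caug_totMap (gMap Q φ) _ _ (gAug_eq Q P e he) (gAug_eq Q P' e' he') _ (by
    show (GS Q).map e.op ≫ (GS Q).map (φ.app (op ⦋0⦌)).op = (GS Q).map c.op ≫ (GS Q).map e'.op
    rw [← Functor.map_comp, ← Functor.map_comp, ← op_comp, ← op_comp, hc])

end Groth.L10.HDesc
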