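import Groth.Agent.L10.HDesc.Step
import Mathlib.AlgebraicTopology.SimplicialObject.Basic
import Mathlib.CategoryTheory.MorphismProperty.Limits
import Mathlib.CategoryTheory.Functor.KanExtension.Pointwise

/-!
Coskeleta by coordinates; the maps between successive coskeleta.
-/

universe u v w

open CategoryTheory CategoryTheory.Limits Opposite Simplicial SimplexCategory

set_option backward.defeqAttrib.useBackward true
set_option backward.isDefEq.respectTransparency false
set_option backward.isDefEq.respectTransparency.types false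
set_option autoImplicit false

namespace Groth.L10.HDesc

variable {C : Type w} [Category.{v} C]

/-- Coordinates of a coskeleton at the levels below a bound. -/
structure CoskData (K : SimplicialObject C) (M : ℕ) (B : SimplicialObject C) where
  /-- A coordinate. -/
  cp : ∀ {m j : SimplexCategory}, j.len < M → (j ⟶ m) → (B.obj (op m) ⟶ K.obj (op j))
  cp_map : ∀ {m m' j : SimplexCategory} (h : j.len < M) (g : m' ⟶ m) (θ : j ⟶ m'),
    B.map g.op ≫ cp h θ = cp h (θ ≫ g)
  cp_nat : ∀ {m j j' : SimplexCategory} (h : j.len < M) (h' : j'.len < M) (θ : j ⟶ m) (ψ : j' ⟶ j),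
    cp h θ ≫ K.map ψ.op = cp h' (ψ ≫ θ)
  hom_ext : ∀ {m : SimplexCategory} {T : C} (a b : T ⟶ B.obj (op m)),
    (∀ (j : SimplexCategory) (h : j.len < M) (θ : j ⟶ m), a ≫ cp h θ = b ≫ cp h θ) → a = b
  exists_lift : ∀ {m : SimplexCategory} {T : C} (z : ∀ j : SimplexCategory, j.len < M → (j ⟶ m) → (T ⟶ K.obj (op j))),
    (∀ (j j' : SimplexCategory) (h : j.len < M) (h' : j'.len < M) (θ : j ⟶ m) (ψ : j' ⟶ j),
      z j h θ ≫ K.map ψ.op = z j' h' (ψ ≫ θ)) →
    ∃ a : T ⟶ B.obj (op m), ∀ (j : SimplexCategory) (h : j.len < M) (θ : j ⟶ m), a ≫ cp h θ = z j h θ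

/-- Coordinates below a bound, with no universal property. -/
structure LowData (K : SimplicialObject C) (M : ℕ) (A : SimplicialObject C) where
  /-- A coordinate. -/
  cp : ∀ {m j : SimplexCategory}, j.len < M → (j ⟶ m) → (A.obj (op m) ⟶ K.obj (op j))
  cp_nat : ∀ {m j j' : SimplexCategory} (h : j.len < M) (h' : j'.len < M) (θ : j ⟶ m) (ψ : j' ⟶ j),
    cp h θ ≫ K.map ψ.op = cp h' (ψ ≫ θ)

/-- The underlying coordinates. -/
def CoskData.low {K : SimplicialObject C} {M : ℕ} {B : SimplicialObject C} (d : CoskData K M B) : LowData K M B where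
  cp := d.cp
  cp_nat := d.cp_nat

/-- The coskeleton below level zero. -/
noncomputable def coskDataZero (K : SimplicialObject C) {X₀ : C} (h₀ : IsTerminal X₀) :
    CoskData K 0 ((SimplicialObject.const C).obj X₀) where
  cp h _ := absurd h (Nat.not_lt_zero _)
  cp_map h _ _ := absurd h (Nat.not_lt_zero _)
  cp_nat h _ _ _ := absurd h (Nat.not_lt_zero _)
  hom_ext a b _ := h₀.hom_ext a b
  exists_lift _ _ := ⟨h₀.from _, fun _ h => absurd h (Nat.not_lt_zero _)⟩

section Mathlib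

variable [∀ (n : ℕ) (F : (SimplexCategory.Truncated n)ᵒᵖ ⥤ C),
  (SimplexCategory.Truncated.inclusion n).op.HasPointwiseRightKanExtension F] (K : SimplicialObject C) (n : ℕ)

/-- An object of a truncated category. -/
abbrev trObj (j : SimplexCategory) (h : j.len ≤ n) : SimplexCategory.Truncated n := ⟨j, h⟩

/-- The coskeleton of Mathlib. -/
noncomputable def coskDataOf : CoskData K (n + 1) ((SimplicialObject.cosk n).obj K) where
  cp {m j} h θ := ((SimplicialObject.cosk n).obj K).map θ.op ≫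
    ((SimplicialObject.coskAdj n).counit.app ((SimplicialObject.truncation n).obj K)).app
      (op (trObj n j (Nat.le_of_lt_succ h)))
  cp_map h g θ := by rw [op_comp, Functor.map_comp, Category.assoc]
  cp_nat {m j j'} h h' θ ψ := by
    rw [op_comp, Functor.map_comp, Category.assoc, Category.assoc]
    exact congrArg (_ ≫ ·) (((SimplicialObject.coskAdj n).counit.app ((SimplicialObject.truncation n).obj K)).naturality
      (SimplexCategory.Truncated.Hom.tr ψ (Nat.le_of_lt_succ h') (Nat.le_of_lt_succ h)).op).symm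
  hom_ext {m T} a b e := by
    let α := (SimplicialObject.coskAdj n).counit.app ((SimplicialObject.truncation n).obj K)
    refine ((Functor.isPointwiseRightKanExtensionOfIsRightKanExtension ((SimplicialObject.cosk n).obj K) α) (op m)).hom_ext
      fun g => ?_
    have := e g.right.unop.obj (Nat.lt_succ_of_le g.right.unop.property) g.hom.unop
    exact this
  exists_lift {m T} z hz := by
    let α := (SimplicialObject.coskAdj n).counit.app ((SimplicialObject.truncation n).obj K)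
    let hl := (Functor.isPointwiseRightKanExtensionOfIsRightKanExtension ((SimplicialObject.cosk n).obj K) α) (op m)
    let c : CategoryTheory.Limits.Cone (StructuredArrow.proj (op m) (SimplexCategory.Truncated.inclusion n).op ⋙
        (SimplicialObject.truncation n).obj K) :=
      { pt := T
        π :=
          { app := fun g => z g.right.unop.obj (Nat.lt_succ_of_le g.right.unop.property) g.hom.unop
            naturality := fun g g' φ => by
              refine (Category.id_comp _).trans ?_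
              refine Eq.trans ?_ (hz _ g'.right.unop.obj (Nat.lt_succ_of_le g.right.unop.property)
                (Nat.lt_succ_of_le g'.right.unop.property) g.hom.unop φ.right.unop.hom).symm
              exact congrArg (z _ _) (congrArg Quiver.Hom.unop (StructuredArrow.w φ)).symm } }
    refine ⟨hl.lift c, fun j h θ => ?_⟩
    exact hl.fac c (StructuredArrow.mk (Y := op (trObj n j (Nat.le_of_lt_succ h))) θ.op)

theorem unit_cp {m j : SimplexCategory} (h : j.len < n + 1) (θ : j ⟶ m) :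
    ((SimplicialObject.coskAdj n).unit.app K).app (op m) ≫ (coskDataOf K n).cp h θ = K.map θ.op := by
  refine ((Category.assoc _ _ _).symm.trans (congrArg (· ≫ _)
    (((SimplicialObject.coskAdj n).unit.app K).naturality θ.op).symm)).trans ((Category.assoc _ _ _).trans ?_)
  refine (congrArg (K.map θ.op ≫ ·) ?_).trans (Category.comp_id _)
  exact congr_app ((SimplicialObject.coskAdj n).left_triangle_components K) (op (trObj n j (Nat.le_of_lt_succ h)))

end Mathlib

section Coordinates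

variable {K : SimplicialObject C} {M : ℕ} {A B : SimplicialObject C}

/-- Maps into levels below the bound factor through them. -/
def Low (M : ℕ) {j m : SimplexCategory} (θ : j ⟶ m) : Prop :=
  ∃ (r : SimplexCategory) (_ : r.len < M) (η : j ⟶ r) (χ : r ⟶ m), η ≫ χ = θ

theorem Low.of_lt {j m : SimplexCategory} (h : j.len < M) (θ : j ⟶ m) : Low M θ := ⟨j, h, 𝟙 j, θ, Category.id_comp θ⟩

theorem Low.comp {j' j m : SimplexCategory} {θ : j ⟶ m} (h : Low M θ) (ψ : j' ⟶ j) : Low M (ψ ≫ θ) := by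
  obtain ⟨r, hr, η, χ, rfl⟩ := h
  exact ⟨r, hr, ψ ≫ η, χ, Category.assoc _ _ _⟩

theorem low_of_not_mono {j m : SimplexCategory} (hj : j.len ≤ M) (θ : j ⟶ m) (hm : ¬ Mono θ) : Low M θ := by
  refine ⟨image θ, lt_of_le_of_ne ((len_le_of_epi (factorThruImage θ)).trans hj) fun e => hm ?_,
    factorThruImage θ, image.ι θ, image.fac θ⟩
  have e' : image θ = j := SimplexCategory.ext (le_antisymm (len_le_of_epi (factorThruImage θ)) (hj.trans e.ge))
  have h := eq_id_of_epi (factorThruImage θ ≫ eqToHom e')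
  have : Mono (factorThruImage θ) := mono_of_mono_fac h
  rw [← image.fac θ]
  exact mono_comp _ _

theorem low_or_eq_id {j' j : SimplexCategory} (hj' : j'.len ≤ M) (hj : j.len ≤ M) (ψ : j' ⟶ j) :
    Low M ψ ∨ ∃ e : j' = j, ψ = eqToHom e := by
  rcases Nat.lt_or_eq_of_le hj' with h' | h'
  · exact Or.inl (Low.of_lt h' ψ)
  rcases Nat.lt_or_eq_of_le hj with h | h
  · exact Or.inl ⟨j, h, ψ, 𝟙 j, Category.comp_id ψ⟩
  obtain rfl : j' = j := SimplexCategory.ext (h'.trans h.symm)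
  by_cases hi : Mono ψ
  · exact Or.inr ⟨rfl, by rw [eqToHom_refl]; exact eq_id_of_mono ψ⟩
  · exact Or.inl (low_of_not_mono h'.le ψ hi)

theorem not_low_mono {j m : SimplexCategory} (θ : j ⟶ m) (hj : j.len = M) (h : Low M θ) : ¬ Mono θ := fun hm => by
  obtain ⟨r, hr, η, χ, rfl⟩ := h
  have := mono_of_mono η χ
  have := len_le_of_mono η
  omega

variable (dl : LowData K M A)

/-- The value at a map factoring through lower levels. -/
theorem low_unique {j m : SimplexCategory} {θ : j ⟶ m} {r₁ r₂ : SimplexCategory} (h₁ : r₁.len < M) (h₂ : r₂.len < M)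
    (η₁ : j ⟶ r₁) (χ₁ : r₁ ⟶ m) (η₂ : j ⟶ r₂) (χ₂ : r₂ ⟶ m) (e₁ : η₁ ≫ χ₁ = θ) (e₂ : η₂ ≫ χ₂ = θ) :
    dl.cp h₁ χ₁ ≫ K.map η₁.op = dl.cp h₂ χ₂ ≫ K.map η₂.op := by
  suffices key : ∀ {r : SimplexCategory} (h : r.len < M) (η : j ⟶ r) (χ : r ⟶ m), η ≫ χ = θ →
      ∃ hr : (image θ).len < M, dl.cp h χ ≫ K.map η.op = dl.cp hr (image.ι θ) ≫ K.map (factorThruImage θ).op by
    obtain ⟨_, h₁'⟩ := key h₁ η₁ χ₁ e₁
    obtain ⟨_, h₂'⟩ := key h₂ η₂ χ₂ e₂
    exact h₁'.trans h₂'.symm
  intro r h η χ e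
  have := isSplitEpi_of_epi (factorThruImage θ)
  let s := section_ (factorThruImage θ)
  have hs : s ≫ factorThruImage θ = 𝟙 _ := IsSplitEpi.id _
  let μ' := image.ι χ
  let ψ := s ≫ η ≫ factorThruImage χ
  have hψ : ψ ≫ μ' = image.ι θ := by
    rw [Category.assoc, Category.assoc, image.fac, e]
    exact (congrArg (s ≫ ·) (image.fac θ)).symm.trans ((Category.assoc _ _ _).symm.trans
      ((congrArg (· ≫ image.ι θ) hs).trans (Category.id_comp _)))
  have h' : (image χ).len < M := lt_of_le_of_lt (len_le_of_epi (factorThruImage χ)) h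
  have : Mono (ψ ≫ μ') := hψ ▸ inferInstance
  have := mono_of_mono ψ μ'
  have hr : (image θ).len < M := lt_of_le_of_lt (len_le_of_mono ψ) h'
  refine ⟨hr, ?_⟩
  have hc : dl.cp h χ = dl.cp h' μ' ≫ K.map (factorThruImage χ).op := by
    rw [dl.cp_nat h' h, image.fac]
  rw [hc, ← dl.cp_nat h' hr μ' ψ |>.trans (congrArg (dl.cp hr) hψ), Category.assoc, Category.assoc, ← K.map_comp,
    ← K.map_comp, ← op_comp, ← op_comp]
  refine congrArg (fun q : j ⟶ image χ => dl.cp h' μ' ≫ K.map q.op) ?_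
  rw [← cancel_mono μ', Category.assoc, image.fac, e, Category.assoc, hψ, image.fac]

variable (dA : CoskData K M A) (dB : CoskData K (M + 1) B)

/-- The forgetful map between coskeleta. -/
noncomputable def uMap : B ⟶ A where
  app m := (dA.exists_lift (m := m.unop) (fun _ h θ => dB.cp (Nat.lt_succ_of_lt h) θ)
    (fun _ _ h h' θ ψ => dB.cp_nat (Nat.lt_succ_of_lt h) (Nat.lt_succ_of_lt h') θ ψ)).choose
  naturality m m' g := dA.hom_ext (m := m'.unop) _ _ fun j h θ => by
    rw [Category.assoc, Category.assoc, (dA.exists_lift (m := m'.unop) (fun _ h θ => dB.cp (Nat.lt_succ_of_lt h) θ)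
        (fun _ _ h h' θ ψ => dB.cp_nat (Nat.lt_succ_of_lt h) (Nat.lt_succ_of_lt h') θ ψ)).choose_spec j h θ,
      show B.map g = B.map g.unop.op from rfl, dB.cp_map]
    refine Eq.symm ?_
    rw [show A.map g = A.map g.unop.op from rfl, dA.cp_map]
    exact (dA.exists_lift (m := m.unop) (fun _ h θ => dB.cp (Nat.lt_succ_of_lt h) θ)
      (fun _ _ h h' θ ψ => dB.cp_nat (Nat.lt_succ_of_lt h) (Nat.lt_succ_of_lt h') θ ψ)).choose_spec j h (θ ≫ g.unop)

theorem uMap_cp {m j : SimplexCategory} (h : j.len < M) (θ : j ⟶ m) :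
    (uMap dA dB).app (op m) ≫ dA.cp h θ = dB.cp (Nat.lt_succ_of_lt h) θ :=
  (dA.exists_lift (m := m) (fun _ h θ => dB.cp (Nat.lt_succ_of_lt h) θ)
    (fun _ _ h h' θ ψ => dB.cp_nat (Nat.lt_succ_of_lt h) (Nat.lt_succ_of_lt h') θ ψ)).choose_spec j h θ

theorem unit_uMap (eA : K ⟶ A) (eB : K ⟶ B)
    (hA : ∀ {m j : SimplexCategory} (h : j.len < M) (θ : j ⟶ m), eA.app (op m) ≫ dA.cp h θ = K.map θ.op)
    (hB : ∀ {m j : SimplexCategory} (h : j.len < M + 1) (θ : j ⟶ m), eB.app (op m) ≫ dB.cp h θ = K.map θ.op) :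
    eB ≫ uMap dA dB = eA :=
  NatTrans.ext (funext fun m => dA.hom_ext (m := m.unop) _ _ fun j h θ => by
    rw [NatTrans.comp_app, Category.assoc, uMap_cp, hA h θ]
    exact hB (Nat.lt_succ_of_lt h) θ)

/-- The unit at a level below the bound. -/
theorem isIso_unit {eB : K ⟶ B}
    (hB : ∀ {m j : SimplexCategory} (h : j.len < M + 1) (θ : j ⟶ m), eB.app (op m) ≫ dB.cp h θ = K.map θ.op)
    (m : SimplexCategory) (h : m.len < M + 1) : IsIso (eB.app (op m)) := by
  refine ⟨dB.cp h (𝟙 m), (hB h (𝟙 m)).trans (by rw [op_id, K.map_id]), dB.hom_ext _ _ fun j hj θ => ?_⟩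
  rw [Category.assoc, hB hj θ, dB.cp_nat h hj, Category.comp_id, Category.id_comp]

theorem δ_le_iff {k : ℕ} {i : Fin (k + 2)} {l : Fin (k + 1)} (h : i ≤ l.castSucc) (y : Fin (k + 2)) :
    ((i.castSucc.succAbove y : Fin (k + 3)) : ℕ) ≤ (l.succ : ℕ) ↔ (y : ℕ) ≤ (l : ℕ) := by
  simp only [Fin.succAbove, Fin.lt_def, Fin.le_def, Fin.val_castSucc, Fin.val_succ] at h ⊢
  split_ifs <;> simp only [Fin.val_castSucc, Fin.val_succ] <;> omega

theorem δ_mid_iff {k : ℕ} (l : Fin (k + 1)) (y : Fin (k + 2)) :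
    ((l.castSucc.succ.succAbove y : Fin (k + 3)) : ℕ) ≤ (l.succ : ℕ) ↔
      ((l.castSucc.succ.succAbove y : Fin (k + 3)) : ℕ) ≤ (l.castSucc : ℕ) := by
  simp only [Fin.succAbove, Fin.lt_def, Fin.val_castSucc, Fin.val_succ]
  split_ifs <;> simp only [Fin.val_castSucc, Fin.val_succ] <;> omega

theorem δ_gt_iff {k : ℕ} {i : Fin (k + 2)} {l : Fin (k + 1)} (h : l.castSucc < i) (y : Fin (k + 2)) :
    ((i.succ.succAbove y : Fin (k + 3)) : ℕ) ≤ (l.castSucc : ℕ) ↔ (y : ℕ) ≤ (l : ℕ) := by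
  simp only [Fin.succAbove, Fin.lt_def, Fin.val_castSucc, Fin.val_succ] at h ⊢
  split_ifs <;> simp only [Fin.val_castSucc, Fin.val_succ] <;> omega

theorem σ_le_iff {k : ℕ} {i l : Fin (k + 1)} (h : i ≤ l) (y : Fin (k + 3)) :
    ((Fin.predAbove i.castSucc y : Fin (k + 2)) : ℕ) ≤ (l : ℕ) ↔ (y : ℕ) ≤ (l.succ : ℕ) := by
  simp only [Fin.predAbove, Fin.lt_def, Fin.le_def, Fin.val_castSucc, Fin.val_succ] at h ⊢
  split_ifs <;> simp only [Fin.val_pred, Fin.coe_castPred] <;> omega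

theorem σ_gt_iff {k : ℕ} {i l : Fin (k + 1)} (h : l ≤ i) (y : Fin (k + 3)) :
    ((Fin.predAbove i.succ y : Fin (k + 2)) : ℕ) ≤ (l : ℕ) ↔ (y : ℕ) ≤ (l.castSucc : ℕ) := by
  simp only [Fin.predAbove, Fin.lt_def, Fin.le_def, Fin.val_castSucc, Fin.val_succ] at h ⊢
  split_ifs <;> simp only [Fin.val_pred, Fin.coe_castPred] <;> omega

include dB in
/-- Maps agreeing below the top level are homotopic. -/
theorem exists_homotopy {X : SimplicialObject C} (f g : X ⟶ B)
    (hlow : ∀ {m j : SimplexCategory} (h : j.len < M) (θ : j ⟶ m),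
      f.app (op m) ≫ dB.cp (Nat.lt_succ_of_lt h) θ = g.app (op m) ≫ dB.cp (Nat.lt_succ_of_lt h) θ) :
    ∃ H : SimplicialObject.Homotopy f g, ∀ (k : ℕ) (i : Fin (k + 1)) (j : SimplexCategory) (h : j.len < M + 1)
      (θ : j ⟶ ⦋k + 1⦌),
      H.h i ≫ dB.cp h θ = f.app (op ⦋k⦌) ≫ dB.cp h (θ ≫ SimplexCategory.σ i) ∨
        H.h i ≫ dB.cp h θ = g.app (op ⦋k⦌) ≫ dB.cp h (θ ≫ SimplexCategory.σ i) := by
  classical
  let fK : ∀ {j : SimplexCategory}, j.len < M + 1 → (X.obj (op j) ⟶ K.obj (op j)) := fun {j} h => f.app (op j) ≫ dB.cp h (𝟙 j)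
  let gK : ∀ {j : SimplexCategory}, j.len < M + 1 → (X.obj (op j) ⟶ K.obj (op j)) := fun {j} h => g.app (op j) ≫ dB.cp h (𝟙 j)
  have cpf : ∀ {m j : SimplexCategory} (h : j.len < M + 1) (θ : j ⟶ m),
      f.app (op m) ≫ dB.cp h θ = X.map θ.op ≫ fK h := fun {m j} h θ => by
    rw [f.naturality_assoc, dB.cp_map, Category.id_comp]
  have cpg : ∀ {m j : SimplexCategory} (h : j.len < M + 1) (θ : j ⟶ m),
      g.app (op m) ≫ dB.cp h θ = X.map θ.op ≫ gK h := fun {m j} h θ => by
    rw [g.naturality_assoc, dB.cp_map, Category.id_comp]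
  let sel : ∀ {j : SimplexCategory}, j.len < M + 1 → Prop → (X.obj (op j) ⟶ K.obj (op j)) := fun h P =>
    if P then fK h else gK h
  have agree : ∀ {j : SimplexCategory} (h : j.len < M + 1) (P : Prop), j.len < M → sel h P = fK h := fun {j} h P hj => by
    by_cases hP : P
    · exact if_pos hP
    · exact (if_neg hP).trans (hlow hj (𝟙 j)).symm
  have natf : ∀ {j j' : SimplexCategory} (h : j.len < M + 1) (h' : j'.len < M + 1) (ψ : j' ⟶ j),
      fK h ≫ K.map ψ.op = X.map ψ.op ≫ fK h' := fun {j j'} h h' ψ => by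
    rw [Category.assoc, dB.cp_nat h h', Category.comp_id, ← cpf h' ψ]
  have natg : ∀ {j j' : SimplexCategory} (h : j.len < M + 1) (h' : j'.len < M + 1) (ψ : j' ⟶ j),
      gK h ≫ K.map ψ.op = X.map ψ.op ≫ gK h' := fun {j j'} h h' ψ => by
    rw [Category.assoc, dB.cp_nat h h', Category.comp_id, ← cpg h' ψ]
  have hfac : ∀ {r j : SimplexCategory} (hr : r.len < M) (h : j.len < M + 1) (η : j ⟶ r),
      dB.cp h η = dB.cp (Nat.lt_succ_of_lt hr) (𝟙 r) ≫ K.map η.op := fun {r j} hr h η =>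
    ((dB.cp_nat _ h (𝟙 r) η).trans (by rw [Category.comp_id])).symm
  have selNat : ∀ {j j' : SimplexCategory} (h : j.len < M + 1) (h' : j'.len < M + 1) (ψ : j' ⟶ j) (P P' : Prop),
      (∀ e : j' = j, ψ = eqToHom e → (P' ↔ P)) → sel h P ≫ K.map ψ.op = X.map ψ.op ≫ sel h' P' := by
    intro j j' h h' ψ P P' hPP
    rcases low_or_eq_id (Nat.le_of_lt_succ h') (Nat.le_of_lt_succ h) ψ with hψ | ⟨rfl, rfl⟩
    · obtain ⟨r, hr, η, χ, rfl⟩ := hψ
      have e₁ : sel h P ≫ K.map (η ≫ χ).op = X.map (η ≫ χ).op ≫ fK h' := by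
        by_cases hP : P
        · rw [show sel h P = fK h from if_pos hP, natf]
        · rw [show sel h P = gK h from if_neg hP, natg h h', op_comp, X.map_comp, Category.assoc, Category.assoc]
          refine congrArg (_ ≫ ·) ?_
          rw [← cpg, ← cpf, hfac hr h' η,
            ← Category.assoc, ← Category.assoc, hlow hr]
      by_cases hP' : P'
      · rw [show sel h' P' = fK h' from if_pos hP', e₁]
      · rw [show sel h' P' = gK h' from if_neg hP', e₁, op_comp, X.map_comp, Category.assoc, Category.assoc]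
        refine congrArg (_ ≫ ·) ?_
        rw [← cpg, ← cpf, hfac hr h' η,
          ← Category.assoc, ← Category.assoc, hlow hr]
    · rw [eqToHom_refl, op_id, K.map_id, X.map_id, Category.comp_id, Category.id_comp]
      exact congrArg (fun P => sel h P) (propext (hPP rfl rfl).symm)
  let cond : ∀ {k : ℕ} (_ : Fin (k + 1)) {j : SimplexCategory}, (j ⟶ ⦋k + 1⦌) → Prop := fun {k} i {j} θ =>
    ∀ x : Fin (j.len + 1), (θ.toOrderHom x : ℕ) ≤ i
  let z : ∀ {k : ℕ} (_ : Fin (k + 1)) (j : SimplexCategory), j.len < M + 1 → (j ⟶ ⦋k + 1⦌) →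
      (X.obj (op ⦋k⦌) ⟶ K.obj (op j)) := fun {k} i j h θ => X.map (θ ≫ SimplexCategory.σ i).op ≫ sel h (cond i θ)
  have hz : ∀ {k : ℕ} (i : Fin (k + 1)) (j j' : SimplexCategory) (h : j.len < M + 1) (h' : j'.len < M + 1)
      (θ : j ⟶ ⦋k + 1⦌) (ψ : j' ⟶ j), z i j h θ ≫ K.map ψ.op = z i j' h' (ψ ≫ θ) := fun i j j' h h' θ ψ => by
    simp only [z]
    rw [Category.assoc, selNat h h' ψ _ (cond i (ψ ≫ θ)) (fun e he => by subst e; rw [he, eqToHom_refl, Category.id_comp]),
      ← Category.assoc, ← X.map_comp, ← op_comp, Category.assoc]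
  let hh : ∀ {k : ℕ} (i : Fin (k + 1)), X.obj (op ⦋k⦌) ⟶ B.obj (op ⦋k + 1⦌) := fun i =>
    (dB.exists_lift (z i) (hz i)).choose
  have hcp : ∀ {k : ℕ} (i : Fin (k + 1)) {j : SimplexCategory} (h : j.len < M + 1) (θ : j ⟶ ⦋k + 1⦌),
      hh i ≫ dB.cp h θ = X.map (θ ≫ SimplexCategory.σ i).op ≫ sel h (cond i θ) := fun i j h θ =>
    (dB.exists_lift (z i) (hz i)).choose_spec j h θ
  have cmp : ∀ {k : ℕ} {j : SimplexCategory} (h : j.len < M + 1) {φ φ' : j ⟶ ⦋k⦌} {P P' : Prop},
      φ = φ' → (P ↔ P') → X.map φ.op ≫ sel h P = X.map φ'.op ≫ sel h P' := by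
    intro k j h φ φ' P P' e e'
    rw [e, propext e']
  refine ⟨{
    h := @hh
    h_zero_comp_δ_zero := fun k => dB.hom_ext _ _ fun j h θ => ?_
    h_last_comp_δ_last := fun k => dB.hom_ext _ _ fun j h θ => ?_
    h_succ_comp_δ_castSucc_of_lt := fun {k} i l hil => dB.hom_ext _ _ fun j h θ => ?_
    h_succ_comp_δ_castSucc_succ := fun {k} l => dB.hom_ext _ _ fun j h θ => ?_
    h_castSucc_comp_δ_succ_of_lt := fun {k} i l hil => dB.hom_ext _ _ fun j h θ => ?_
    h_comp_σ_castSucc_of_le := fun {k} i l hil => dB.hom_ext _ _ fun j h θ => ?_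
    h_comp_σ_succ_of_lt := fun {k} i l hil => dB.hom_ext _ _ fun j h θ => ?_ }, fun k i j h θ => ?_⟩
  all_goals
    try simp only [SimplicialObject.δ, SimplicialObject.σ]
  · rw [Category.assoc, dB.cp_map, hcp, cpg h θ,
      show sel h (cond (0 : Fin (k + 1)) (θ ≫ SimplexCategory.δ 0)) = gK h from if_neg fun hc => by
        have := hc 0
        simp [SimplexCategory.δ] at this,
      Category.assoc θ, SimplexCategory.δ_comp_σ_self' (j := (0 : Fin (k + 2))) (i := (0 : Fin (k + 1))) rfl,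
      Category.comp_id]
  · rw [Category.assoc, dB.cp_map, hcp, cpf h θ,
      show sel h (cond (Fin.last k) (θ ≫ SimplexCategory.δ (Fin.last (k + 1)))) = fK h from if_pos fun x => by
        simp [SimplexCategory.δ, Fin.succAbove_last]
        exact Nat.le_of_lt_succ (θ.toOrderHom x).isLt,
      Category.assoc θ, SimplexCategory.δ_comp_σ_succ' (by simp), Category.comp_id]
  · simp only [Category.assoc, dB.cp_map, hcp]
    rw [← Category.assoc (X.map _), ← X.map_comp, ← op_comp]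
    refine cmp h ?_ (forall_congr' fun x => ?_)
    · rw [Category.assoc, SimplexCategory.δ_comp_σ_of_le hil]
    · simp only [SimplexCategory.δ, comp_toOrderHom, mkHom, Hom.toOrderHom_mk, OrderHom.comp_coe, Function.comp_apply]
      exact δ_le_iff hil _
  · simp only [Category.assoc, dB.cp_map, hcp]
    refine cmp h ?_ (forall_congr' fun x => ?_)
    · rw [SimplexCategory.δ_comp_σ_self' (j := l.castSucc.succ) (i := l.succ) (Fin.ext rfl),
        SimplexCategory.δ_comp_σ_succ' (j := l.castSucc.succ) (i := l.castSucc) rfl]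
    · simp only [SimplexCategory.δ, comp_toOrderHom, mkHom, Hom.toOrderHom_mk, OrderHom.comp_coe, Function.comp_apply]
      exact δ_mid_iff l _
  · simp only [Category.assoc, dB.cp_map, hcp]
    rw [← Category.assoc (X.map _), ← X.map_comp, ← op_comp]
    refine cmp h ?_ (forall_congr' fun x => ?_)
    · rw [Category.assoc, SimplexCategory.δ_comp_σ_of_gt hil]
    · simp only [SimplexCategory.δ, comp_toOrderHom, mkHom, Hom.toOrderHom_mk, OrderHom.comp_coe, Function.comp_apply]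
      exact δ_gt_iff hil _
  · simp only [Category.assoc, dB.cp_map, hcp]
    rw [← Category.assoc (X.map _), ← X.map_comp, ← op_comp]
    refine cmp h ?_ (forall_congr' fun x => ?_)
    · rw [Category.assoc, SimplexCategory.σ_comp_σ hil]
    · simp only [SimplexCategory.σ, comp_toOrderHom, mkHom, Hom.toOrderHom_mk, OrderHom.comp_coe, Function.comp_apply]
      exact σ_le_iff hil _
  · simp only [Category.assoc, dB.cp_map, hcp]
    rw [← Category.assoc (X.map _), ← X.map_comp, ← op_comp]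
    refine cmp h ?_ (forall_congr' fun x => ?_)
    · rw [Category.assoc, SimplexCategory.σ_comp_σ hil]
    · simp only [SimplexCategory.σ, comp_toOrderHom, mkHom, Hom.toOrderHom_mk, OrderHom.comp_coe, Function.comp_apply]
      exact σ_gt_iff hil _
  · by_cases hc : cond i θ
    · exact Or.inl ((hcp i h θ).trans ((congrArg (_ ≫ ·) (if_pos hc)).trans (cpf h _).symm))
    · exact Or.inr ((hcp i h θ).trans ((congrArg (_ ≫ ·) (if_neg hc)).trans (cpg h _).symm))

include dA dB in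
/-- Maps agreeing below the top level are homotopic over the lower coskeleton. -/
theorem homotopyLift_uMap [HasFiniteWidePullbacks C] : HomotopyLift (uMap dA dB) := by
  intro X f g hfg
  obtain ⟨H, hH⟩ := exists_homotopy dB f g (fun {m j} h θ => by
    rw [← uMap_cp dA dB h θ, ← Category.assoc, ← Category.assoc]
    exact congrArg (· ≫ dA.cp h θ) (congr_app hfg (op m)))
  refine ⟨H, fun k i => dA.hom_ext _ _ fun j h θ => ?_⟩
  have e : f.app (op ⦋k⦌) ≫ dB.cp (Nat.lt_succ_of_lt h) (θ ≫ SimplexCategory.σ i) =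
      g.app (op ⦋k⦌) ≫ dB.cp (Nat.lt_succ_of_lt h) (θ ≫ SimplexCategory.σ i) := by
    rw [← uMap_cp dA dB h, ← Category.assoc, ← Category.assoc]
    exact congrArg (· ≫ dA.cp h _) (congr_app hfg (op ⦋k⦌))
  rw [Category.assoc, uMap_cp, SimplicialObject.Homotopy.refl_h, SimplicialObject.σ, NatTrans.comp_app]
  simp only [Category.assoc, uMap_cp]
  rw [f.naturality_assoc, dB.cp_map]
  exact (hH k i j (Nat.lt_succ_of_lt h) θ).elim id (fun h' => h'.trans e.symm)

/-- A family indexed by the maps from the top level. -/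
theorem exists_top_lift' {m : SimplexCategory} {T : C} (t : T ⟶ A.obj (op m))
    (q : ∀ θ : (⦋M⦌ : SimplexCategory) ⟶ m, Mono θ → (T ⟶ K.obj (op ⦋M⦌)))
    (hq : ∀ (θ : (⦋M⦌ : SimplexCategory) ⟶ m) (hθ : Mono θ) (j : SimplexCategory) (h : j.len < M)
      (ψ : j ⟶ ⦋M⦌), q θ hθ ≫ K.map ψ.op = t ≫ dl.cp h (ψ ≫ θ)) :
    ∃ b : T ⟶ B.obj (op m),
      (∀ (j : SimplexCategory) (h : j.len < M) (θ : j ⟶ m), b ≫ dB.cp (Nat.lt_succ_of_lt h) θ = t ≫ dl.cp h θ) ∧
      ∀ (θ : (⦋M⦌ : SimplexCategory) ⟶ m) (hθ : Mono θ), b ≫ dB.cp (Nat.lt_succ_self M) θ = q θ hθ := by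
  classical
  let P : ∀ (j : SimplexCategory), (j ⟶ m) → (T ⟶ K.obj (op j)) → Prop := fun j θ z =>
    (∀ (r : SimplexCategory) (hr : r.len < M) (η : j ⟶ r) (χ : r ⟶ m), η ≫ χ = θ → z = t ≫ dl.cp hr χ ≫ K.map η.op) ∧
      (∀ (e : j = ⦋M⦌) (hθ : Mono (eqToHom e.symm ≫ θ)), z = q (eqToHom e.symm ≫ θ) hθ ≫ K.map (eqToHom e).op)
  have hex : ∀ (j : SimplexCategory), j.len < M + 1 → ∀ θ : j ⟶ m, ∃ z, P j θ z := fun j hj θ => by
    by_cases hθ : Low M θ
    · obtain ⟨r, hr, η, χ, e⟩ := hθ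
      refine ⟨t ≫ dl.cp hr χ ≫ K.map η.op, fun r' hr' η' χ' e' => congrArg (t ≫ ·) (low_unique dl hr hr' η χ η' χ' e e'),
        fun e' hm => ?_⟩
      subst e'
      rw [eqToHom_refl, Category.id_comp] at hm
      exact absurd hm (not_low_mono θ rfl ⟨r, hr, η, χ, e⟩)
    · have hj' : j.len = M := le_antisymm (Nat.le_of_lt_succ hj) (not_lt.1 fun h => hθ (Low.of_lt h θ))
      obtain rfl : j = ⦋M⦌ := SimplexCategory.ext hj'
      have hm : Mono θ := by_contra fun hm => hθ (low_of_not_mono (by simp) θ hm)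
      exact ⟨q θ hm, fun r hr η χ e => absurd ⟨r, hr, η, χ, e⟩ hθ,
        fun e hm' => by simp only [eqToHom_refl, Category.id_comp, op_id, CategoryTheory.Functor.map_id, Category.comp_id]⟩
  choose z hz using hex
  have natz : ∀ (j j' : SimplexCategory) (h : j.len < M + 1) (h' : j'.len < M + 1) (θ : j ⟶ m) (ψ : j' ⟶ j),
      z j h θ ≫ K.map ψ.op = z j' h' (ψ ≫ θ) := fun j j' h h' θ ψ => by
    rcases low_or_eq_id (Nat.le_of_lt_succ h') (Nat.le_of_lt_succ h) ψ with ⟨r, hr, η, χ, rfl⟩ | ⟨rfl, rfl⟩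
    swap
    · simp only [eqToHom_refl, Category.id_comp, op_id, CategoryTheory.Functor.map_id, Category.comp_id]
    rw [(hz j' h' ((η ≫ χ) ≫ θ)).1 r hr η (χ ≫ θ) (Category.assoc _ _ _).symm, op_comp, K.map_comp, ← Category.assoc,
      ← Category.assoc t]
    refine congrArg (· ≫ K.map η.op) ?_
    by_cases hθ : Low M θ
    · obtain ⟨r', hr', η', χ', e⟩ := hθ
      rw [(hz j h θ).1 r' hr' η' χ' e, Category.assoc, Category.assoc, ← K.map_comp, ← op_comp,
        dl.cp_nat hr' hr χ' (χ ≫ η'), Category.assoc, e]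
    · have hj' : j.len = M := le_antisymm (Nat.le_of_lt_succ h) (not_lt.1 fun hl => hθ (Low.of_lt hl θ))
      obtain rfl : j = ⦋M⦌ := SimplexCategory.ext hj'
      have hm : Mono θ := by_contra fun hm => hθ (low_of_not_mono (by simp) θ hm)
      have hm' : Mono (eqToHom rfl ≫ θ) := by rwa [eqToHom_refl, Category.id_comp]
      rw [(hz _ h θ).2 rfl hm']
      simp only [eqToHom_refl, Category.id_comp, op_id, CategoryTheory.Functor.map_id, Category.comp_id]
      exact hq θ hm r hr χ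
  obtain ⟨b, hb⟩ := dB.exists_lift (fun j h θ => z j h θ) natz
  refine ⟨b, fun j h θ => ?_, fun θ hθ => ?_⟩
  · rw [hb, (hz j _ θ).1 j h (𝟙 j) θ (Category.id_comp θ), op_id, K.map_id, Category.comp_id]
  · have hθ' : Mono (eqToHom rfl ≫ θ) := by rwa [eqToHom_refl, Category.id_comp]
    rw [hb, (hz _ _ θ).2 rfl hθ']
    simp only [eqToHom_refl, Category.id_comp, op_id, CategoryTheory.Functor.map_id, Category.comp_id]

theorem exists_top_lift {m : SimplexCategory} {T : C} (t : T ⟶ A.obj (op m))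
    (q : ∀ θ : (⦋M⦌ : SimplexCategory) ⟶ m, Mono θ → (T ⟶ K.obj (op ⦋M⦌)))
    (hq : ∀ (θ : (⦋M⦌ : SimplexCategory) ⟶ m) (hθ : Mono θ) (j : SimplexCategory) (h : j.len < M)
      (ψ : j ⟶ ⦋M⦌), q θ hθ ≫ K.map ψ.op = t ≫ dA.cp h (ψ ≫ θ)) :
    ∃ b : T ⟶ B.obj (op m), b ≫ (uMap dA dB).app (op m) = t ∧
      ∀ (θ : (⦋M⦌ : SimplexCategory) ⟶ m) (hθ : Mono θ), b ≫ dB.cp (Nat.lt_succ_self M) θ = q θ hθ := by
  obtain ⟨b, hb, hb'⟩ := exists_top_lift' dA.low dB t q hq
  refine ⟨b, dA.hom_ext _ _ fun j h θ => ?_, hb'⟩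
  rw [Category.assoc, uMap_cp]
  exact hb j h θ

theorem top_ext {m : SimplexCategory} {T : C} (a b : T ⟶ B.obj (op m))
    (h₁ : a ≫ (uMap dA dB).app (op m) = b ≫ (uMap dA dB).app (op m))
    (h₂ : ∀ θ : (⦋M⦌ : SimplexCategory) ⟶ m, Mono θ → a ≫ dB.cp (Nat.lt_succ_self M) θ = b ≫ dB.cp (Nat.lt_succ_self M) θ) :
    a = b := dB.hom_ext _ _ fun j h θ => by
  have hlow : ∀ {r : SimplexCategory} (hr : r.len < M) (χ : r ⟶ m),
      a ≫ dB.cp (Nat.lt_succ_of_lt hr) χ = b ≫ dB.cp (Nat.lt_succ_of_lt hr) χ := fun hr χ => by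
    rw [← uMap_cp dA dB hr χ, ← Category.assoc, h₁, Category.assoc]
  by_cases hθ : Low M θ
  · obtain ⟨r, hr, η, χ, rfl⟩ := hθ
    rw [← dB.cp_nat (Nat.lt_succ_of_lt hr) h χ η, ← Category.assoc, hlow hr χ, Category.assoc]
  · have hj' : j.len = M := le_antisymm (Nat.le_of_lt_succ h) (not_lt.1 fun hl => hθ (Low.of_lt hl θ))
    obtain rfl : j = ⦋M⦌ := SimplexCategory.ext hj'
    exact h₂ θ (by_contra fun hm => hθ (low_of_not_mono (by simp) θ hm))

/-- The unit at the top level is a comparison with the lower coskeleton. -/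
theorem property_uMap [HasFiniteWidePullbacks C] [HasPullbacks C] (P : MorphismProperty C) [P.IsStableUnderBaseChange]
    [P.IsMultiplicative] [P.RespectsIso] (eA : K ⟶ A)
    (hA : ∀ {m j : SimplexCategory} (h : j.len < M) (θ : j ⟶ m), eA.app (op m) ≫ dA.cp h θ = K.map θ.op)
    (hv : P (eA.app (op ⦋M⦌))) (m : SimplexCategoryᵒᵖ) : P ((uMap dA dB).app m) := by
  obtain ⟨m⟩ := m
  let v := eA.app (op ⦋M⦌)
  let I := {θ : (⦋M⦌ : SimplexCategory) ⟶ m // Mono θ}
  have : Finite I := inferInstance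
  obtain ⟨k, ⟨e⟩⟩ := Finite.exists_equiv_fin I
  have fibre : ∀ (k : ℕ) (a : Fin k → (A.obj (op m) ⟶ A.obj (op ⦋M⦌))),
      ∃ (R : C) (p : R ⟶ A.obj (op m)) (q : Fin k → (R ⟶ K.obj (op ⦋M⦌))), P p ∧ (∀ i, q i ≫ v = p ≫ a i) ∧
        (∀ (T : C) (t : T ⟶ A.obj (op m)) (r : Fin k → (T ⟶ K.obj (op ⦋M⦌))), (∀ i, r i ≫ v = t ≫ a i) →
          ∃ b : T ⟶ R, b ≫ p = t ∧ ∀ i, b ≫ q i = r i) ∧
        (∀ (T : C) (b b' : T ⟶ R), b ≫ p = b' ≫ p → (∀ i, b ≫ q i = b' ≫ q i) → b = b') := by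
    intro k
    induction k with
    | zero =>
      exact fun a => ⟨A.obj (op m), 𝟙 _, finZeroElim, P.id_mem _, fun i => i.elim0,
        fun T t r _ => ⟨t, Category.comp_id t, fun i => i.elim0⟩,
        fun T b b' h _ => by simpa using h⟩
    | succ k ih =>
      intro a
      obtain ⟨R, p, q, hp, hpq, hl, he⟩ := ih (fun i => a i.succ)
      refine ⟨pullback v (p ≫ a 0), pullback.snd _ _ ≫ p, Fin.cons (pullback.fst _ _) (fun i => pullback.snd _ _ ≫ q i),
        P.comp_mem _ _ (P.pullback_snd _ _ hv) hp, fun i => ?_, fun T t r hr => ?_, fun T b b' h₁ h₂ => ?_⟩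
      · refine Fin.cases ?_ (fun i => ?_) i
        · rw [Fin.cons_zero, pullback.condition, Category.assoc]
        · rw [Fin.cons_succ, Category.assoc, Category.assoc, hpq]
      · obtain ⟨b, hb, hb'⟩ := hl T t (fun i => r i.succ) (fun i => hr i.succ)
        refine ⟨pullback.lift (r 0) b (by rw [hr 0, ← Category.assoc, hb]), by rw [pullback.lift_snd_assoc, hb], fun i => ?_⟩
        refine Fin.cases ?_ (fun i => ?_) i
        · rw [Fin.cons_zero, pullback.lift_fst]
        · rw [Fin.cons_succ, pullback.lift_snd_assoc, hb']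
      · refine pullback.hom_ext ?_ (he T _ _ ?_ fun i => ?_)
        · simpa using h₂ 0
        · simpa using h₁
        · simpa using h₂ i.succ
  have key : ∀ {T : C} (r : T ⟶ K.obj (op ⦋M⦌)) (t : T ⟶ A.obj (op m)) (θ : (⦋M⦌ : SimplexCategory) ⟶ m),
      r ≫ v = t ≫ A.map θ.op ↔
        ∀ (j : SimplexCategory) (h : j.len < M) (ψ : j ⟶ ⦋M⦌), r ≫ K.map ψ.op = t ≫ dA.cp h (ψ ≫ θ) := by
    intro T r t θ
    constructor
    · intro hr j h ψ
      rw [← hA h ψ, ← Category.assoc, hr, Category.assoc, dA.cp_map]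
    · intro hr
      refine dA.hom_ext _ _ fun j h ψ => ?_
      rw [Category.assoc, Category.assoc, hA h ψ, dA.cp_map, hr j h ψ]
  obtain ⟨R, p, q, hp, hpq, hl, he⟩ := fibre k (fun i => A.map (e.symm i).1.op)
  obtain ⟨c, hc, hc'⟩ := hl (B.obj (op m)) ((uMap dA dB).app (op m)) (fun i => dB.cp (Nat.lt_succ_self M) (e.symm i).1)
    (fun i => (key _ _ _).2 fun j h ψ => (dB.cp_nat _ (Nat.lt_succ_of_lt h) _ ψ).trans (uMap_cp dA dB h _).symm)
  obtain ⟨d, hd, hd'⟩ := exists_top_lift dA dB p (fun θ hθ => q (e ⟨θ, hθ⟩)) (fun θ hθ => (key _ _ θ).1 (by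
    rw [hpq]
    exact congrArg (fun i : I => p ≫ A.map i.1.op) (e.symm_apply_apply _)))
  have hcd : c ≫ d = 𝟙 _ := top_ext dA dB _ _ (by rw [Category.assoc, hd, hc, Category.id_comp]) fun θ hθ => by
    rw [Category.assoc, hd' θ hθ, hc', Category.id_comp]
    exact congrArg (fun i : I => dB.cp (Nat.lt_succ_self M) i.1) (e.symm_apply_apply _)
  have hdc : d ≫ c = 𝟙 _ := he R _ _ (by rw [Category.assoc, hc, hd, Category.id_comp]) fun i => by
    rw [Category.assoc, hc', hd' _ (e.symm i).2, Category.id_comp]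
    exact congrArg q (e.apply_symm_apply i)
  rw [← hc]
  have : IsIso c := ⟨d, hcd, hdc⟩
  exact (P.cancel_left_of_respectsIso c p).2 hp

end Coordinates

end Groth.L10.HDesc
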