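import Groth.Agent.L10.HDesc.Cosk

/-!
Maps of coskeletal simplicial objects which are isomorphisms in low degrees.
-/

universe u v w

open CategoryTheory CategoryTheory.Limits Opposite Simplicial SimplexCategory

set_option backward.defeqAttrib.useBackward true
set_option backward.isDefEq.respectTransparency false
set_option backward.isDefEq.respectTransparency.types false
set_option autoImplicit false

namespace Groth.L10.HDesc

variable {C : Type w} [Category.{v} C]

/-- A coskeletal simplicial object in coordinates. -/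
structure SelfCosk (X : SimplicialObject C) (n : ℕ) where
  /-- The coordinates. -/
  data : CoskData X (n + 1) X
  cp_eq : ∀ {m j : SimplexCategory} (h : j.len < n + 1) (θ : j ⟶ m), data.cp h θ = X.map θ.op

/-- An object equal to its coskeleton. -/
noncomputable def selfCoskOf [∀ (n : ℕ) (F : (SimplexCategory.Truncated n)ᵒᵖ ⥤ C),
    (SimplexCategory.Truncated.inclusion n).op.HasPointwiseRightKanExtension F] (X : SimplicialObject C) (n : ℕ)
    (h : IsIso ((SimplicialObject.coskAdj n).unit.app X)) : SelfCosk X n where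
  data :=
    { cp := fun {m j} _ θ => X.map θ.op
      cp_map := fun _ g θ => by rw [← X.map_comp, ← op_comp]
      cp_nat := fun _ _ θ ψ => by rw [← X.map_comp, ← op_comp]
      hom_ext := fun {m T} a b e => by
        rw [← cancel_mono (((SimplicialObject.coskAdj n).unit.app X).app (op m))]
        refine (coskDataOf X n).hom_ext _ _ fun j hj θ => ?_
        rw [Category.assoc, Category.assoc, unit_cp]
        exact e j hj θ
      exists_lift := fun {m T} z hz => by
        obtain ⟨a, ha⟩ := (coskDataOf X n).exists_lift z hz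
        refine ⟨a ≫ inv (((SimplicialObject.coskAdj n).unit.app X).app (op m)), fun j hj θ => ?_⟩
        rw [← unit_cp X n hj θ, Category.assoc, IsIso.inv_hom_id_assoc]
        exact ha j hj θ }
  cp_eq _ _ := rfl

variable {A B : SimplicialObject C} {u : B ⟶ A} {n : ℕ} (sA : SelfCosk A n) (sB : SelfCosk B n)
  (h1 : ∀ i : ℕ, i < n → IsIso (u.app (op ⦋i⦌)))

include h1 in
theorem isIso_app {j : SimplexCategory} (h : j.len < n) : IsIso (u.app (op j)) := h1 j.len h

include sA sB h1 in
/-- Maps agreeing over the target are homotopic over it. -/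
theorem homotopyLift_of_selfCosk [HasFiniteWidePullbacks C] : HomotopyLift u := by
  intro X f g hfg
  have hlow : ∀ {m j : SimplexCategory} (h : j.len < n) (θ : j ⟶ m),
      f.app (op m) ≫ sB.data.cp (Nat.lt_succ_of_lt h) θ = g.app (op m) ≫ sB.data.cp (Nat.lt_succ_of_lt h) θ := fun {m j} h θ => by
    have := isIso_app h1 h
    rw [sB.cp_eq, ← cancel_mono (u.app (op j)), Category.assoc, Category.assoc, u.naturality, ← Category.assoc,
      ← Category.assoc]
    exact congrArg (· ≫ A.map θ.op) (congr_app hfg (op m))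
  obtain ⟨H, hH⟩ := exists_homotopy sB.data f g hlow
  refine ⟨H, fun k i => sA.data.hom_ext _ _ fun j h θ => ?_⟩
  have e : ∀ (φ : j ⟶ ⦋k⦌), g.app (op ⦋k⦌) ≫ sB.data.cp h φ ≫ u.app (op j) = f.app (op ⦋k⦌) ≫ sB.data.cp h φ ≫ u.app (op j) :=
    fun φ => by
      rw [sB.cp_eq, u.naturality, ← Category.assoc, ← Category.assoc]
      exact congrArg (· ≫ A.map φ.op) (congr_app hfg (op ⦋k⦌)).symm
  have key : H.h i ≫ sB.data.cp h θ ≫ u.app (op j) = f.app (op ⦋k⦌) ≫ sB.data.cp h (θ ≫ σ i) ≫ u.app (op j) := by
    rcases hH k i j h θ with hc | hc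
    · rw [← Category.assoc, hc, Category.assoc]
    · rw [← Category.assoc, hc, Category.assoc, e]
  rw [sA.cp_eq, Category.assoc, ← u.naturality]
  refine (congrArg (H.h i ≫ ·) (congrArg (· ≫ _) (sB.cp_eq h θ).symm)).trans (key.trans ?_)
  rw [sB.cp_eq, u.naturality, SimplicialObject.Homotopy.refl_h, SimplicialObject.σ, NatTrans.comp_app]
  simp only [Category.assoc]
  rw [f.naturality_assoc, ← u.naturality, ← u.naturality, ← Category.assoc (B.map _), ← B.map_comp, ← op_comp]

include sA sB h1 in
/-- A property stable under base change and composition spreads from the top level to all levels. -/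
theorem property_of_selfCosk [HasPullbacks C] (P : MorphismProperty C) [P.IsStableUnderBaseChange]
    [P.IsMultiplicative] [P.RespectsIso] (hv : P (u.app (op ⦋n⦌))) (m : SimplexCategoryᵒᵖ) : P (u.app m) := by
  obtain ⟨m⟩ := m
  classical
  let v := u.app (op ⦋n⦌)
  let I := {θ : (⦋n⦌ : SimplexCategory) ⟶ m // Mono θ}
  have : Finite I := inferInstance
  obtain ⟨k, ⟨e⟩⟩ := Finite.exists_equiv_fin I
  have fibre : ∀ (k : ℕ) (a : Fin k → (A.obj (op m) ⟶ A.obj (op ⦋n⦌))),
      ∃ (R : C) (p : R ⟶ A.obj (op m)) (q : Fin k → (R ⟶ B.obj (op ⦋n⦌))), P p ∧ (∀ i, q i ≫ v = p ≫ a i) ∧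
        (∀ (T : C) (t : T ⟶ A.obj (op m)) (r : Fin k → (T ⟶ B.obj (op ⦋n⦌))), (∀ i, r i ≫ v = t ≫ a i) →
          ∃ b : T ⟶ R, b ≫ p = t ∧ ∀ i, b ≫ q i = r i) ∧
        (∀ (T : C) (b b' : T ⟶ R), b ≫ p = b' ≫ p → (∀ i, b ≫ q i = b' ≫ q i) → b = b') := by
    intro k
    induction k with
    | zero =>
      exact fun a => ⟨A.obj (op m), 𝟙 _, finZeroElim, P.id_mem _, fun i => i.elim0,
        fun T t r _ => ⟨t, Category.comp_id t, fun i => i.elim0⟩,
        fun T b b' h _ => by simpa using h⟩
    | succ k ih =>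
      intro a
      obtain ⟨R, p, q, hp, hpq, hl, he⟩ := ih (fun i => a i.succ)
      refine ⟨pullback v (p ≫ a 0), pullback.snd _ _ ≫ p, Fin.cons (pullback.fst _ _) (fun i => pullback.snd _ _ ≫ q i),
        P.comp_mem _ _ (P.pullback_snd _ _ hv) hp, fun i => ?_, fun T t r hr => ?_, fun T b b' h₁ h₂ => ?_⟩
      · refine Fin.cases ?_ (fun i => ?_) i
        · rw [Fin.cons_zero, pullback.condition, Category.assoc]
        · rw [Fin.cons_succ, Category.assoc, Category.assoc, hpq]
      · obtain ⟨b, hb, hb'⟩ := hl T t (fun i => r i.succ) (fun i => hr i.succ)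
        refine ⟨pullback.lift (r 0) b (by rw [hr 0, ← Category.assoc, hb]), by rw [pullback.lift_snd_assoc, hb], fun i => ?_⟩
        refine Fin.cases ?_ (fun i => ?_) i
        · rw [Fin.cons_zero, pullback.lift_fst]
        · rw [Fin.cons_succ, pullback.lift_snd_assoc, hb']
      · refine pullback.hom_ext ?_ (he T _ _ ?_ fun i => ?_)
        · simpa using h₂ 0
        · simpa using h₁
        · simpa using h₂ i.succ
  obtain ⟨R, p, q, hp, hpq, hl, he⟩ := fibre k (fun i => A.map (e.symm i).1.op)
  let dl : LowData B n A :=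
    { cp := fun {m j} h θ => haveI := isIso_app h1 h; A.map θ.op ≫ inv (u.app (op j))
      cp_nat := fun {m j j'} h h' θ ψ => by
        have := isIso_app h1 h
        have := isIso_app h1 h'
        rw [← cancel_mono (u.app (op j')), Category.assoc, Category.assoc, Category.assoc, u.naturality,
          IsIso.inv_hom_id_assoc, IsIso.inv_hom_id, Category.comp_id, ← A.map_comp, ← op_comp] }
  have hdl : ∀ {m j : SimplexCategory} (h : j.len < n) (θ : j ⟶ m), dl.cp h θ ≫ u.app (op j) = A.map θ.op := fun {m j} h θ => by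
    have := isIso_app h1 h
    exact (Category.assoc _ _ _).trans ((congrArg (_ ≫ ·) (IsIso.inv_hom_id _)).trans (Category.comp_id _))
  obtain ⟨c, hc, hc'⟩ := hl (B.obj (op m)) (u.app (op m)) (fun i => B.map (e.symm i).1.op) (fun i => u.naturality _)
  obtain ⟨d, hd, hd'⟩ := exists_top_lift' dl sB.data p (fun θ hθ => q (e ⟨θ, hθ⟩)) (fun θ hθ j h ψ => by
    have := isIso_app h1 h
    rw [← cancel_mono (u.app (op j)), Category.assoc, Category.assoc, hdl, u.naturality, op_comp, A.map_comp,
      ← Category.assoc, ← Category.assoc, hpq]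
    exact congrArg (fun i : I => (p ≫ A.map i.1.op) ≫ A.map ψ.op) (e.symm_apply_apply _))
  have top : ∀ (θ : (⦋n⦌ : SimplexCategory) ⟶ m) (hθ : Mono θ), d ≫ B.map θ.op = q (e ⟨θ, hθ⟩) := fun θ hθ =>
    (congrArg (d ≫ ·) (sB.cp_eq (Nat.lt_succ_self n) θ).symm).trans (hd' θ hθ)
  have hdu : d ≫ u.app (op m) = p := by
    refine sA.data.hom_ext _ _ fun j h θ => ?_
    rw [sA.cp_eq, Category.assoc, ← u.naturality]
    by_cases hl : Low n θ
    · obtain ⟨r, hr, η, χ, rfl⟩ := hl
      rw [op_comp, A.map_comp, B.map_comp, Category.assoc, u.naturality, ← hdl hr χ, ← Category.assoc, ← Category.assoc,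
        ← sB.cp_eq (Nat.lt_succ_of_lt hr) χ, hd r hr χ, Category.assoc, Category.assoc]
      simp only [Category.assoc]
    · have hj : j.len = n := le_antisymm (Nat.le_of_lt_succ h) (not_lt.1 fun hlt => hl (Low.of_lt hlt θ))
      obtain rfl : j = ⦋n⦌ := SimplexCategory.ext hj
      have hm : Mono θ := by_contra fun hm => hl (low_of_not_mono (by simp) θ hm)
      rw [← Category.assoc, top θ hm, hpq]
      exact congrArg (fun i : I => p ≫ A.map i.1.op) (e.symm_apply_apply _)
  have hcd : c ≫ d = 𝟙 _ := by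
    refine sB.data.hom_ext _ _ fun j h θ => ?_
    rw [Category.id_comp, Category.assoc]
    by_cases hl : Low n θ
    · obtain ⟨r, hr, η, χ, rfl⟩ := hl
      have := isIso_app h1 hr
      rw [← sB.data.cp_nat (Nat.lt_succ_of_lt hr) h χ η, ← Category.assoc d, hd r hr χ, ← Category.assoc,
        ← Category.assoc c, hc]
      refine congrArg (· ≫ B.map η.op) ?_
      rw [sB.cp_eq, ← cancel_mono (u.app (op r)), Category.assoc, hdl, u.naturality]
    · have hj : j.len = n := le_antisymm (Nat.le_of_lt_succ h) (not_lt.1 fun hlt => hl (Low.of_lt hlt θ))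
      obtain rfl : j = ⦋n⦌ := SimplexCategory.ext hj
      have hm : Mono θ := by_contra fun hm => hl (low_of_not_mono (by simp) θ hm)
      rw [sB.cp_eq, top θ hm, hc']
      exact congrArg (fun i : I => B.map i.1.op) (e.symm_apply_apply _)
  have hdc : d ≫ c = 𝟙 _ := he R _ _ (by rw [Category.assoc, hc, hdu, Category.id_comp]) fun i => by
    rw [Category.assoc, hc', top _ (e.symm i).2, Category.id_comp]
    exact congrArg q (e.apply_symm_apply i)
  rw [← hc]
  have : IsIso c := ⟨d, hcd, hdc⟩
  exact (P.cancel_left_of_respectsIso c p).2 hp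

end Groth.L10.HDesc
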