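import Groth.Agent.L09.DerivedCrit

/-!
Transposition of maps out of complexes concentrated in degree zero.
-/

universe v v' u u'

open CategoryTheory CategoryTheory.Limits

set_option backward.defeqAttrib.useBackward true
set_option backward.isDefEq.respectTransparency false
set_option autoImplicit false

namespace Groth.L10.HDesc

variable {B : Type u} [Category.{v} B] [Abelian B] {P : Type u'} [Category.{v'} P] [Abelian P]
  {F : B ⥤ P} {R : P ⥤ B} [F.Additive] [R.Additive] (adj : F ⊣ R)

theorem tr'_comp {L : CochainComplex B ℤ} {M J : CochainComplex P ℤ}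
    (x : L ⟶ (R.mapHomologicalComplex _).obj M) (φ : M ⟶ J) :
    L09.DerivedCrit.tr' adj (x ≫ (R.mapHomologicalComplex _).map φ) = L09.DerivedCrit.tr' adj x ≫ φ :=
  HomologicalComplex.hom_ext _ _ fun n => by
    show F.map (x.f n ≫ R.map (φ.f n)) ≫ adj.counit.app (J.X n) = (F.map (x.f n) ≫ adj.counit.app (M.X n)) ≫ φ.f n
    rw [F.map_comp, Category.assoc, Category.assoc]
    exact congrArg (_ ≫ ·) (adj.counit.naturality (φ.f n))

/-- The transpose in degree zero. -/
theorem tr'_single_f {L : B} {M : CochainComplex P ℤ}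
    (x : (CochainComplex.singleFunctor B 0).obj L ⟶ (R.mapHomologicalComplex _).obj M) :
    (((HomologicalComplex.singleMapHomologicalComplex F (ComplexShape.up ℤ) 0).app L).inv ≫
        L09.DerivedCrit.tr' adj x).f 0 =
      (HomologicalComplex.singleObjXSelf (ComplexShape.up ℤ) 0 (F.obj L)).hom ≫
        (adj.homEquiv _ _).symm ((HomologicalComplex.singleObjXSelf (ComplexShape.up ℤ) 0 L).inv ≫ x.f 0) := by
  show ((HomologicalComplex.singleMapHomologicalComplex F (ComplexShape.up ℤ) 0).inv.app L).f 0 ≫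
    (F.map (x.f 0) ≫ adj.counit.app (M.X 0)) = _
  rw [HomologicalComplex.singleMapHomologicalComplex_inv_app_self, adj.homEquiv_counit, F.map_comp, Category.assoc,
    Category.assoc]

/-- The cycles in degree zero of a quasi-isomorphism of complexes in nonnegative degrees. -/
theorem isIso_cyclesMap {K L : CochainComplex B ℤ} (t : K ⟶ L) [QuasiIso t] [K.IsStrictlyGE 0] [L.IsStrictlyGE 0] :
    IsIso (HomologicalComplex.cyclesMap t 0) := by
  have h1 : IsIso (K.homologyπ 0) := K.isIso_homologyπ (-1) 0 (by simp)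
    ((K.isZero_of_isStrictlyGE 0 (-1) (by omega)).eq_of_src _ _)
  have h2 : IsIso (L.homologyπ 0) := L.isIso_homologyπ (-1) 0 (by simp)
    ((L.isZero_of_isStrictlyGE 0 (-1) (by omega)).eq_of_src _ _)
  have h3 : IsIso (HomologicalComplex.homologyMap t 0) := inferInstance
  have h4 := HomologicalComplex.homologyπ_naturality t 0
  rw [← IsIso.comp_inv_eq] at h4
  rw [← h4]
  infer_instance

variable (R) [PreservesFiniteLimits R]

/-- A quasi-isomorphism from a single complex to the image of a resolution identifies the object in degree zero. -/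
theorem isIso_of_quasiIso_single {A : B} {C : P} {J : CochainComplex P ℤ} [J.IsStrictlyGE 0]
    (g : (CochainComplex.singleFunctor P 0).obj C ⟶ J) [QuasiIso g]
    (f : (CochainComplex.singleFunctor B 0).obj A ⟶ (R.mapHomologicalComplex _).obj J) [QuasiIso f] (c : A ⟶ R.obj C)
    (h : (HomologicalComplex.singleObjXSelf (ComplexShape.up ℤ) 0 A).inv ≫ f.f 0 =
      c ≫ R.map ((HomologicalComplex.singleObjXSelf (ComplexShape.up ℤ) 0 C).inv ≫ g.f 0)) :
    IsIso c := by
  let K : CochainComplex B ℤ := (R.mapHomologicalComplex _).obj J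
  let S₀ := (CochainComplex.singleFunctor B 0).obj A
  let s := (CochainComplex.singleFunctor P 0).obj C
  have := isIso_cyclesMap g
  have := isIso_cyclesMap f
  have hi : IsIso (s.iCycles 0) := s.isIso_iCycles 0 1 (by simp)
    ((HomologicalComplex.isZero_single_obj_X (ComplexShape.up ℤ) 0 C 1 (by omega)).eq_of_tgt _ _)
  have hi' : IsIso (S₀.iCycles 0) := S₀.isIso_iCycles 0 1 (by simp)
    ((HomologicalComplex.isZero_single_obj_X (ComplexShape.up ℤ) 0 A 1 (by omega)).eq_of_tgt _ _)
  let l₁ := KernelFork.mapIsLimit _ (J.cyclesIsKernel 0 1 (by simp)) R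
  let l₂ := K.cyclesIsKernel 0 1 (by simp)
  let α : R.obj (J.cycles 0) ≅ K.cycles 0 := IsLimit.conePointUniqueUpToIso l₁ l₂
  have hα : α.hom ≫ K.iCycles 0 = R.map (J.iCycles 0) :=
    IsLimit.conePointUniqueUpToIso_hom_comp l₁ l₂ WalkingParallelPair.zero
  let x : A ≅ S₀.cycles 0 :=
    (HomologicalComplex.singleObjXSelf (ComplexShape.up ℤ) 0 A).symm ≪≫ (asIso (S₀.iCycles 0)).symm
  let y : C ≅ J.cycles 0 :=
    ((HomologicalComplex.singleObjXSelf (ComplexShape.up ℤ) 0 C).symm ≪≫ (asIso (s.iCycles 0)).symm) ≪≫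
      asIso (HomologicalComplex.cyclesMap g 0)
  have e : c ≫ R.map y.hom ≫ α.hom = x.hom ≫ HomologicalComplex.cyclesMap f 0 := by
    rw [← cancel_mono (K.iCycles 0)]
    simp only [Category.assoc]
    rw [hα, ← Functor.map_comp, HomologicalComplex.cyclesMap_i]
    dsimp [x, y]
    simp only [Category.assoc, HomologicalComplex.cyclesMap_i]
    erw [IsIso.inv_hom_id_assoc, IsIso.inv_hom_id_assoc]
    exact h.symm
  have : IsIso (c ≫ R.map y.hom ≫ α.hom) := by
    rw [e]
    infer_instance
  exact IsIso.of_isIso_comp_right c (R.map y.hom ≫ α.hom)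

end Groth.L10.HDesc
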