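import Groth.Agent.L10.HDesc.Square
import Groth.Agent.L17.GrothSS
import Groth.Agent.L09.SpaceCrit
import Groth.Agent.L10.HDesc.SingleLemmas

/-!
Cohomological descent is descent of the sections of the resolution by discontinuous sections.
-/

universe u

open CategoryTheory CategoryTheory.Limits Opposite Simplicial TopologicalSpace AlgebraicTopology
open Pseudofunctor.CoGrothendieck
open Groth.L09.SpaceSite Groth.L09

set_option backward.defeqAttrib.useBackward true
set_option backward.isDefEq.respectTransparency false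
set_option backward.isDefEq.respectTransparency.types false
set_option autoImplicit false

namespace Groth.L10.HDesc

open Groth.L10.Descent (Tot toBot inP)
open Groth.L10.Proper (base preP objU lv proj)

variable {S : TopCat.{u}} {Y : (WithInitial SimplexCategory)ᵒᵖ ⥤ TopCat.{u}} {hb : base Y ⟶ S}
  {Q : Sys S} (hQ : IsSheafSys Q) (hC : Cart Q)

variable (Y hb) in
/-- The inverse image of the base system into the system on the total site. -/
noncomputable abbrev extMap : (SpaceCrit.pull Y).obj (QSh hQ (btO Y hb)) ⟶ SQ Y hb hQ :=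
  ((SpaceCrit.adj Y).homEquiv _ _).symm (botMap Y hb hQ)

theorem homEquiv_extMap {N : Sheaf (JP Y) AddCommGrpCat.{u}} (f : SQ Y hb hQ ⟶ N) :
    (SpaceCrit.adj Y).homEquiv _ _ (extMap Y hb hQ ≫ f) = botMap Y hb hQ ≫ (SpaceCrit.push Y).map f := by
  rw [Adjunction.homEquiv_naturality_right, Equiv.apply_symm_apply]

theorem unit_extMap :
    (SpaceCrit.adj Y).unit.app (QSh hQ (btO Y hb)) ≫ (SpaceCrit.push Y).map (extMap Y hb hQ) = botMap Y hb hQ :=
  ((SpaceCrit.adj Y).homEquiv_unit _ _ _).symm.trans (Equiv.apply_symm_apply _ _)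

include hC in
theorem isIso_extMap : IsIso (extMap Y hb hQ) := by
  obtain ⟨r, hr⟩ := exists_ext Y hb hQ hC ((SpaceCrit.adj Y).homEquiv _ _ (𝟙 ((SpaceCrit.pull Y).obj (QSh hQ (btO Y hb)))))
  have h₁ : extMap Y hb hQ ≫ r = 𝟙 _ :=
    ((SpaceCrit.adj Y).homEquiv _ _).injective ((homEquiv_extMap hQ r).trans hr)
  refine ⟨r, h₁, ext_unique Y hb hQ hC ?_⟩
  rw [← homEquiv_extMap, ← homEquiv_extMap, ← Category.assoc, h₁, Category.id_comp, Category.comp_id]

variable {J : CochainComplex (Sheaf (JP Y) AddCommGrpCat.{u}) ℤ} (φ : Mcx Y hb Q ⟶ J)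

/-- The comparison out of the inverse image of the single complex. -/
noncomputable abbrev preTr : ((SpaceCrit.pull Y).mapHomologicalComplex (ComplexShape.up ℤ)).obj
    ((CochainComplex.singleFunctor (CohTop.Ab (base Y)) 0).obj (QSh hQ (btO Y hb))) ⟶ J :=
  DerivedCrit.tr' (SpaceCrit.adj Y) (iotaG Q hQ (btO Y hb) ≫ kappa φ)

include hC in
theorem quasiIso_preTr [QuasiIso φ] : QuasiIso (preTr hQ φ) := by
  have := isIso_extMap (Y := Y) (hb := hb) hQ hC
  let a := DerivedCrit.tr' (SpaceCrit.adj Y) (iotaG Q hQ (btO Y hb) ≫ chi Y hb Q)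
  have e : preTr hQ φ = a ≫ φ :=
    (congrArg (DerivedCrit.tr' (SpaceCrit.adj Y)) (Category.assoc _ _ _).symm).trans (tr'_comp _ _ φ)
  let w := (HomologicalComplex.singleMapHomologicalComplex (SpaceCrit.pull Y) (ComplexShape.up ℤ) 0).app (QSh hQ (btO Y hb))
  have h : w.inv ≫ a = (CochainComplex.singleFunctor (Sheaf (JP Y) AddCommGrpCat.{u}) 0).map (extMap Y hb hQ) ≫ jota Y hb Q hQ := by
    refine HomologicalComplex.from_single_hom_ext ((tr'_single_f (SpaceCrit.adj Y) _).trans ?_)
    have e0 : (HomologicalComplex.singleObjXSelf (ComplexShape.up ℤ) 0 (QSh hQ (btO Y hb))).inv ≫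
        (iotaG Q hQ (btO Y hb) ≫ chi Y hb Q).f 0 =
        botMap Y hb hQ ≫ (SpaceCrit.push Y).map (SQmap Y hb hQ (isSheafSys_GX Q 0) (eps Q)) := by
      rw [HomologicalComplex.comp_f, iotaG, HomologicalComplex.mkHomFromSingle_f, Category.assoc]
      exact (Iso.inv_hom_id_assoc _ _).trans (botMap_natural Y hb hQ (isSheafSys_GX Q 0) (eps Q)).symm
    rw [e0, ← homEquiv_extMap]
    erw [Equiv.symm_apply_apply]
    rw [HomologicalComplex.comp_f]
    erw [HomologicalComplex.single_map_f_self]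
    rw [jota, HomologicalComplex.mkHomFromSingle_f, Category.assoc, Category.assoc]
    exact congrArg (_ ≫ ·) (congrArg (_ ≫ ·) (Iso.inv_hom_id_assoc _ _).symm)
  have := quasiIso_jota Y hb Q hQ
  have : QuasiIso a := by
    rw [← quasiIso_iff_comp_left w.inv a, h]
    infer_instance
  rw [e]
  infer_instance

theorem tr_preTr : DerivedCrit.tr (SpaceCrit.adj Y) (preTr hQ φ) = iotaG Q hQ (btO Y hb) ≫ kappa φ :=
  DerivedCrit.tr_tr' _ _

theorem injective_rightAdjoint {C D : Type*} [Category C] [Category D] {F : C ⥤ D} {G : D ⥤ C} (adj : F ⊣ G)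
    (h : PreservesFiniteLimits F) (N : D) [Injective N] : Injective (G.obj N) :=
  Injective.injective_of_adjoint adj N

theorem injective_push (N : Sheaf (JP Y) AddCommGrpCat.{u}) [Injective N] : Injective ((SpaceCrit.push Y).obj N) :=
  injective_rightAdjoint (SpaceCrit.adj Y) (SpaceCrit.preservesFiniteLimits_pull Y) N

theorem quasiIso_sec_kappa [J.IsStrictlyGE 0] [∀ n, Injective (J.X n)] [QuasiIso (kappa φ)] (U : Opens (base Y)) :
    QuasiIso (((secF (base Y) U).mapHomologicalComplex (ComplexShape.up ℤ)).map (kappa φ)) :=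
  quasiIso_sections (kappa φ) 0 (fun n => isFlasque_GSh Q (btO Y hb) n) (fun n =>
    have : Injective ((SpaceCrit.push Y).obj (J.X n)) := injective_push (J.X n)
    TopCoh.isFlasque_of_injective (X := base Y) ((SpaceCrit.push Y).obj (J.X n))) U

include hQ hC in
/-- Cohomological descent gives descent of sections. -/
theorem quasiIso_gAug_of_isCohDescentTop (h : FibDesc.IsCohDescentTop Y) (U : Opens (base Y)) :
    QuasiIso (gAug Q (famP Y hb U) (augU Y hb (lv 0) U) (famP_eq Y hb U)) := by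
  obtain ⟨⟨J₀, _⟩, hJ, ⟨φ⟩, hφ⟩ := CochainComplex.Plus.exists_quasiIso_injective
    (C := Sheaf (JP Y) AddCommGrpCat.{u}) ⟨Mcx Y hb Q, ⟨0, inferInstance⟩⟩ 0
  let J : CochainComplex (Sheaf (JP Y) AddCommGrpCat.{u}) ℤ :=
    ((InjectiveObject.ι _).mapHomologicalComplex (ComplexShape.up ℤ)).obj J₀
  have : ∀ k, Injective (J.X k) := fun k => (J₀.X k).property
  have : J.IsStrictlyGE 0 := inferInstance
  let φ' : Mcx Y hb Q ⟶ J := φ
  have : QuasiIso φ' := hφ
  have := quasiIso_preTr hQ hC φ'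
  have htr : QuasiIso (DerivedCrit.tr (SpaceCrit.adj Y) (preTr hQ φ')) :=
    SpaceCrit.computes_of_isCohDescentTop Y h 0 _ J (preTr hQ φ')
  rw [tr_preTr] at htr
  have := quasiIso_iotaG hQ (btO Y hb)
  have := (quasiIso_iff_comp_left (iotaG Q hQ (btO Y hb)) (kappa φ')).1 htr
  exact (quasiIso_gAug_iff φ' U).2 (quasiIso_sec_kappa φ' U)

include hQ hC in
/-- Descent of sections gives the two halves of descent for the sheaf of the system. -/
theorem unit_and_acyclic (h : ∀ U, QuasiIso (gAug Q (famP Y hb U) (augU Y hb (lv 0) U) (famP_eq Y hb U))) :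
    IsIso ((SpaceCrit.adj Y).unit.app (QSh hQ (btO Y hb))) ∧
      L17.GrothSS.RAcyclic (SpaceCrit.push Y) ((SpaceCrit.pull Y).obj (QSh hQ (btO Y hb))) := by
  let R := injectiveResolution (SQ Y hb hQ)
  let J := R.cochainComplex
  let _ := HasDerivedCategory.standard (Sheaf (JP Y) AddCommGrpCat.{u})
  have := quasiIso_jota Y hb Q hQ
  have : J.IsKInjective := CochainComplex.isKInjective_of_injective J 0
  obtain ⟨φ, hφ⟩ := DerivedCrit.exists_Q_map_eq (inv (DerivedCategory.Q.map (jota Y hb Q hQ)) ≫ DerivedCategory.Q.map R.ι')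
  have : QuasiIso φ := by
    rw [← DerivedCategory.isIso_Q_map_iff_quasiIso, hφ]
    infer_instance
  have hκ : QuasiIso (kappa φ) := quasiIso_of_sections _ fun U => (quasiIso_gAug_iff φ U).1 (h U)
  have := quasiIso_iotaG hQ (btO Y hb)
  let f := iotaG Q hQ (btO Y hb) ≫ kappa φ
  let K := ((SpaceCrit.push Y).mapHomologicalComplex (ComplexShape.up ℤ)).obj J
  have hf : QuasiIso f := inferInstanceAs (QuasiIso (iotaG Q hQ (btO Y hb) ≫ kappa φ))
  have : PreservesLimitsOfSize.{0, 0} (SpaceCrit.push Y) := (SpaceCrit.adj Y).rightAdjoint_preservesLimits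
  have : PreservesFiniteLimits (SpaceCrit.push Y) := PreservesLimitsOfSize.preservesFiniteLimits _
  have hb' : IsIso (botMap Y hb hQ) := by
    let g : (CochainComplex.singleFunctor (Sheaf (JP Y) AddCommGrpCat.{u}) 0).obj (SQ Y hb hQ) ⟶ J := jota Y hb Q hQ ≫ φ
    have : QuasiIso g := inferInstanceAs (QuasiIso (jota Y hb Q hQ ≫ φ))
    refine isIso_of_quasiIso_single (SpaceCrit.push Y) g f (botMap Y hb hQ) ?_
    simp only [f, g, HomologicalComplex.comp_f, iotaG, jota, HomologicalComplex.mkHomFromSingle_f, Category.assoc]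
    erw [Iso.inv_hom_id_assoc, Iso.inv_hom_id_assoc, Functor.map_comp]
    exact ((Category.assoc _ _ _).symm.trans (congrArg (· ≫ _) (botMap_natural Y hb hQ (isSheafSys_GX Q 0) (eps Q)).symm)).trans
      (Category.assoc _ _ _)
  have := isIso_extMap (Y := Y) (hb := hb) hQ hC
  refine ⟨?_, fun q hq => ?_⟩
  · have := unit_extMap (Y := Y) (hb := hb) hQ
    rw [← IsIso.eq_comp_inv] at this
    rw [this]
    infer_instance
  · refine IsZero.of_iso ?_ (((SpaceCrit.push Y).rightDerived q).mapIso (asIso (extMap Y hb hQ)))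
    refine IsZero.of_iso ?_ (L17.GrothSS.homologyMapCochainIso (SpaceCrit.push Y) R q).symm
    have : IsIso (HomologicalComplex.homologyMap f (q : ℤ)) := (quasiIsoAt_iff_isIso_homologyMap f (q : ℤ)).1 (hf.quasiIsoAt _)
    refine IsZero.of_iso ?_ (asIso (HomologicalComplex.homologyMap f (q : ℤ))).symm
    exact (HomologicalComplex.exactAt_iff_isZero_homology _ _).1 (HomologicalComplex.exactAt_single_obj _ _ _ _ (by omega))

/-- Descent for all sheaves from the acyclicity of their inverse images. -/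
theorem isCohDescentTop_of_unit (h : ∀ L : CohTop.Ab (base Y), IsIso ((SpaceCrit.adj Y).unit.app L) ∧
    L17.GrothSS.RAcyclic (SpaceCrit.push Y) ((SpaceCrit.pull Y).obj L)) : FibDesc.IsCohDescentTop Y := by
  refine SpaceCrit.isCohDescentTop_of_computes Y ?_
  intro n L _ J _ _ e _
  let _ := HasDerivedCategory.standard (Sheaf (JP Y) AddCommGrpCat.{u})
  have : PreservesLimitsOfSize.{0, 0} (SpaceCrit.push Y) := (SpaceCrit.adj Y).rightAdjoint_preservesLimits
  have : PreservesFiniteLimits (SpaceCrit.push Y) := PreservesLimitsOfSize.preservesFiniteLimits _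
  have : QuasiIso (((SpaceCrit.push Y).mapHomologicalComplex (ComplexShape.up ℤ)).map e) :=
    L17.GrothSS.quasiIso_map (SpaceCrit.push Y) e n n (fun k => (h (L.X k)).2) (fun k q hq => by
      obtain ⟨q, rfl⟩ := Nat.exists_eq_succ_of_ne_zero hq.ne'
      exact (SpaceCrit.push Y).isZero_rightDerived_obj_injective_succ q _)
  have : ∀ k, IsIso ((DerivedCrit.unitC (SpaceCrit.adj Y) L).f k) := fun k => (h (L.X k)).1
  have : IsIso (DerivedCrit.unitC (SpaceCrit.adj Y) L) := HomologicalComplex.Hom.isIso_of_components _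
  exact inferInstanceAs (QuasiIso (DerivedCrit.unitC (SpaceCrit.adj Y) L ≫ _))

/-- Descent of sections for systems giving all sheaves on the base gives descent. -/
theorem isCohDescentTop_of_gAug (hall : ∀ L : CohTop.Ab (base Y), ∃ (Q' : Sys S) (hQ' : IsSheafSys Q'),
    Cart Q' ∧ Nonempty (QSh hQ' (btO Y hb) ≅ L) ∧
      ∀ U, QuasiIso (gAug Q' (famP Y hb U) (augU Y hb (lv 0) U) (famP_eq Y hb U))) :
    FibDesc.IsCohDescentTop Y := by
  refine isCohDescentTop_of_unit fun L => ?_
  obtain ⟨Q', hQ', hC', ⟨i⟩, hq⟩ := hall L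
  obtain ⟨h₁, h₂⟩ := unit_and_acyclic hQ' hC' hq
  refine ⟨?_, fun q hq => IsZero.of_iso (h₂ q hq)
    (((SpaceCrit.push Y).rightDerived q).mapIso ((SpaceCrit.pull Y).mapIso i.symm))⟩
  have := (Iso.eq_inv_comp i).2 ((SpaceCrit.adj Y).unit.naturality i.hom)
  rw [this]
  infer_instance

end Groth.L10.HDesc
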