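import Groth.Agent.L10.HDesc.Resolution
import Groth.Agent.L10.Proper.Trace
import Groth.Agent.L10.Proper.Stalk

/-!
Systems on pairs give sheaves on the total site of an augmented simplicial space; their universal property.
-/

universe u

open CategoryTheory CategoryTheory.Limits Opposite Simplicial TopologicalSpace
open Pseudofunctor.CoGrothendieck
open Groth.L09.SpaceSite Groth.L09

set_option backward.defeqAttrib.useBackward true
set_option backward.isDefEq.respectTransparency false
set_option backward.isDefEq.respectTransparency.types false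
set_option autoImplicit false

namespace Groth.L10.HDesc

open Groth.L10.Descent (Tot toBot inP)
open Groth.L10.Proper (base preP objU lv proj IsDesc germ stalkComp stalkComp_germ)

/-- Systems whose stalks do not depend on the space. -/
def Cart {S : TopCat.{u}} (Q : Sys S) : Prop :=
  ∀ (X X' : Over S) (f : X ⟶ X') (x : X.left), Function.Bijective (stalkMap Q f x)

variable {S : TopCat.{u}} (Y : (WithInitial SimplexCategory)ᵒᵖ ⥤ TopCat.{u}) (hb : base Y ⟶ S)

/-- The family, over the base. -/
noncomputable def liftTo : (WithInitial SimplexCategory)ᵒᵖ ⥤ Over S where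
  obj i := Over.mk (Y.map (toBot i) ≫ hb)
  map {i k} f := Over.homMk (Y.map f) (by
    show Y.map f ≫ Y.map (toBot k) ≫ hb = Y.map (toBot i) ≫ hb
    rw [← Category.assoc, ← Y.map_comp, (subsingleton_toBot _).elim (f ≫ toBot k) (toBot i)])
  map_id i := Over.OverMorphism.ext (Y.map_id i)
  map_comp f g := Over.OverMorphism.ext (Y.map_comp f g)

/-- One level over the base. -/
noncomputable abbrev lvO (i : SimplexCategoryᵒᵖ) : Over S := (liftTo Y hb).obj ((FibDesc.toAug SimplexCategory).obj i)

/-- The base over the base. -/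
noncomputable abbrev btO : Over S := (liftTo Y hb).obj (FibDesc.bot SimplexCategory)

/-- From the total category to pairs. -/
noncomputable def toOp : Tot Y ⥤ OpO S where
  obj X := ⟨lvO Y hb X.base, obP X⟩
  map {X Z} a := mkHom (a := ⟨lvO Y hb X.base, obP X⟩) (b := ⟨lvO Y hb Z.base, obP Z⟩)
    ((liftTo Y hb).map ((FibDesc.toAug SimplexCategory).map a.base)) (homP_le a)
  map_id X := hom_ext' (((liftTo Y hb).congr_map ((FibDesc.toAug SimplexCategory).map_id X.base)).trans
    ((liftTo Y hb).map_id _))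
  map_comp a b := hom_ext' (((liftTo Y hb).congr_map ((FibDesc.toAug SimplexCategory).map_comp a.base b.base)).trans
    ((liftTo Y hb).map_comp _ _))

/-- The augmentation of one level over the base. -/
noncomputable def augO (i : SimplexCategoryᵒᵖ) : lvO Y hb i ⟶ btO Y hb :=
  (liftTo Y hb).map (toBot ((FibDesc.toAug SimplexCategory).obj i))

/-- The augmentation on the preimage of an open. -/
noncomputable def augU (i : SimplexCategoryᵒᵖ) (U : Opens (base Y)) :
    (toOp Y hb).obj ((objU Y U).obj i) ⟶ (⟨btO Y hb, U⟩ : OpO S) :=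
  mkHom (augO Y hb i) (fun _ h => h)

theorem toOp_augU {i : SimplexCategoryᵒᵖ} {X : Tot Y} {U : Opens (base Y)} (a : X ⟶ (objU Y U).obj i) :
    ((toOp Y hb).map a ≫ augU Y hb i U).f = augO Y hb X.base := by
  show (liftTo Y hb).map _ ≫ (liftTo Y hb).map _ = (liftTo Y hb).map _
  rw [← Functor.map_comp]
  exact congrArg (fun z => (liftTo Y hb).map z) ((subsingleton_toBot _).elim _ _)

variable {Y hb}

/-- The fibre inclusion and the inclusion of one space. -/
noncomputable def inPIso (i : SimplexCategoryᵒᵖ) : inP Y i ⋙ toOp Y hb ≅ inX (lvO Y hb i) :=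
  NatIso.ofComponents (fun _ => Iso.refl _) (fun {V W} a => hom_ext' (by
    show (liftTo Y hb).map ((FibDesc.toAug SimplexCategory).map (𝟙 i)) ≫ 𝟙 _ = 𝟙 _ ≫ 𝟙 _
    rw [CategoryTheory.Functor.map_id, CategoryTheory.Functor.map_id]))

variable (Y hb)

theorem isSheaf_toOp {P : Sys S} (hP : IsSheafSys P) : Presheaf.IsSheaf (JP Y) ((toOp Y hb).op ⋙ P) := by
  rw [Presheaf.isSheaf_iff_isSheaf_forget (JP Y) _ (CategoryTheory.forget AddCommGrpCat.{u}),
    isSheaf_iff_isSheaf_of_type, FibSiteTop.isSheaf_iff_restr (isPreFibSite_part Y)]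
  intro i
  refine Presieve.isSheaf_iso _ (Functor.isoWhiskerRight (Functor.isoWhiskerRight (NatIso.op (inPIso i)) P)
    (CategoryTheory.forget AddCommGrpCat.{u})) ?_
  exact (isSheaf_iff_isSheaf_of_type _ _).1
    ((Presheaf.isSheaf_iff_isSheaf_forget _ _ (CategoryTheory.forget AddCommGrpCat.{u})).1 (hP (lvO Y hb i)))

/-- The sheaf on the total site. -/
noncomputable def SQ {P : Sys S} (hP : IsSheafSys P) : Sheaf (JP Y) AddCommGrpCat.{u} :=
  ⟨(toOp Y hb).op ⋙ P, isSheaf_toOp Y hb hP⟩

/-- Functoriality. -/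
noncomputable def SQmap {P P' : Sys S} (hP : IsSheafSys P) (hP' : IsSheafSys P') (η : P ⟶ P') :
    SQ Y hb hP ⟶ SQ Y hb hP' := ⟨Functor.whiskerLeft (toOp Y hb).op η⟩

/-- The levels. -/
noncomputable def levIso {P : Sys S} (hP : IsSheafSys P) (i : SimplexCategoryᵒᵖ) :
    (Proper.lev' Y i).obj (SQ Y hb hP) ≅ QSh hP (lvO Y hb i) :=
  (fullyFaithfulSheafToPresheaf (Opens.grothendieckTopology (Y.obj ((FibDesc.toAug SimplexCategory).obj i)))
    AddCommGrpCat.{u}).preimageIso (X := (Proper.lev' Y i).obj (SQ Y hb hP)) (Y := QSh hP (lvO Y hb i))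
    (Functor.isoWhiskerRight (NatIso.op (inPIso (hb := hb) i).symm) P)

theorem map_augU {P : Sys S} {i : SimplexCategoryᵒᵖ} {X : Tot Y} {U : Opens (base Y)} (a : X ⟶ (objU Y U).obj i)
    (φ : (toOp Y hb).obj X ⟶ (⟨btO Y hb, U⟩ : OpO S)) (hφ : OpHom.f φ = augO Y hb X.base)
    (t : P.obj (op (⟨btO Y hb, U⟩ : OpO S))) :
    P.map ((toOp Y hb).map a).op (P.map (augU Y hb i U).op t) = P.map φ.op t := by
  rw [show φ = (toOp Y hb).map a ≫ augU Y hb i U from hom_ext' (hφ.trans (toOp_augU Y hb a).symm)]
  exact congr($((P.map_comp _ _).symm) t)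

theorem isDesc_augU {P : Sys S} (hP : IsSheafSys P) (U : Opens (base Y)) (t : P.obj (op (⟨btO Y hb, U⟩ : OpO S))) :
    IsDesc Y (SQ Y hb hP) U (P.map (augU Y hb (lv 0) U).op t) :=
  (map_augU Y hb ((objU Y U).map (SimplexCategory.δ (0 : Fin 2)).op) (augU Y hb (lv 1) U) rfl t).trans
    (map_augU Y hb ((objU Y U).map (SimplexCategory.δ (1 : Fin 2)).op) (augU Y hb (lv 1) U) rfl t).symm

/-- The section of the direct image given by a section on the base. -/
noncomputable def botFun {P : Sys S} (hP : IsSheafSys P) (U : Opens (base Y))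
    (t : P.obj (op (⟨btO Y hb, U⟩ : OpO S))) : ((SpaceCrit.push Y).obj (SQ Y hb hP)).obj.obj (op U) :=
  (Proper.exists_of_isDesc (SQ Y hb hP) U _ (isDesc_augU Y hb hP U t)).choose

theorem proj_botFun {P : Sys S} (hP : IsSheafSys P) (U : Opens (base Y))
    (t : P.obj (op (⟨btO Y hb, U⟩ : OpO S))) :
    proj Y (SQ Y hb hP) U (botFun Y hb hP U t) = P.map (augU Y hb (lv 0) U).op t :=
  (Proper.exists_of_isDesc (SQ Y hb hP) U _ (isDesc_augU Y hb hP U t)).choose_spec

/-- From the base to the direct image. -/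
noncomputable def botMap {P : Sys S} (hP : IsSheafSys P) :
    QSh hP (btO Y hb) ⟶ (SpaceCrit.push Y).obj (SQ Y hb hP) :=
  ObjectProperty.homMk
    { app := fun U => AddCommGrpCat.ofHom (AddMonoidHom.mk' (botFun Y hb hP U.unop) (fun t t' =>
        Proper.proj_injective _ _ ((proj_botFun Y hb hP _ _).trans ((map_add _ t t').trans (by
          rw [map_add, proj_botFun, proj_botFun]
          rfl)))))
      naturality := fun U V f => AddCommGrpCat.hom_ext (AddMonoidHom.ext fun t => Proper.proj_injective _ _ (by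
        refine (proj_botFun Y hb hP V.unop _).trans ?_
        refine Eq.trans ?_ (Proper.proj_res (Y := Y) (SQ Y hb hP) (le_of f.unop) (botFun Y hb hP U.unop t)).symm
        rw [proj_botFun]
        refine Eq.trans ?_ (map_augU Y hb (Proper.objULe Y (le_of f.unop) (lv 0))
          (mkHom (a := (toOp Y hb).obj ((objU Y V.unop).obj (lv 0))) (b := ⟨btO Y hb, U.unop⟩) (augO Y hb (lv 0))
            (fun z hz => le_of f.unop hz)) rfl t).symm
        refine (congr($((P.map_comp _ _).symm) t)).trans (congrArg (fun z => P.map z t) (Quiver.Hom.unop_inj (hom_ext' ?_)))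
        exact Category.comp_id _)) }

theorem botMap_natural {P P' : Sys S} (hP : IsSheafSys P) (hP' : IsSheafSys P') (η : P ⟶ P') :
    botMap Y hb hP ≫ (SpaceCrit.push Y).map (SQmap Y hb hP hP' η) =
      (⟨Functor.whiskerLeft (inX (btO Y hb)).op η⟩ : QSh hP (btO Y hb) ⟶ QSh hP' (btO Y hb)) ≫ botMap Y hb hP' :=
  Sheaf.hom_ext (NatTrans.ext (funext fun U => AddCommGrpCat.hom_ext (AddMonoidHom.ext fun t =>
    Proper.proj_injective _ _ (by
      refine ((Proper.proj_natural Y (SQmap Y hb hP hP' η) U.unop _).trans ?_).trans (proj_botFun Y hb hP' U.unop _).symm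
      show η.app _ (proj Y (SQ Y hb hP) U.unop (botFun Y hb hP U.unop t)) = _
      rw [proj_botFun]
      exact congr($(η.naturality (augU Y hb (lv 0) U.unop).op) t)))))

/-- The pullback to one level. -/
noncomputable def levU {P : Sys S} (hP : IsSheafSys P) (i : SimplexCategoryᵒᵖ) :
    QSh hP (btO Y hb) ⟶ (CohTop.push (augO Y hb i).left).obj (QSh hP (lvO Y hb i)) :=
  ⟨pullNat P (augO Y hb i)⟩

theorem isPullUnit_levU {P : Sys S} (hP : IsSheafSys P) (hC : Cart P) (i : SimplexCategoryᵒᵖ) :
    Proper.IsPullUnit (augO Y hb i).left (levU Y hb hP i) := fun x => hC _ _ (augO Y hb i) x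

section PullUnit

variable {X X' : TopCat.{u}} {f : X ⟶ X'} {G : CohTop.Ab X'} {G' : CohTop.Ab X} {v : G ⟶ (CohTop.push f).obj G'}

theorem isIso_adjunct_of_isPullUnit (hv : Proper.IsPullUnit f v) :
    IsIso (((TopCat.Sheaf.pullbackPushforwardAdjunction AddCommGrpCat.{u} f).homEquiv _ _).symm v) := by
  let adj := TopCat.Sheaf.pullbackPushforwardAdjunction AddCommGrpCat.{u} f
  let c := (adj.homEquiv _ _).symm v
  have hc : adj.unit.app G ≫ (CohTop.push f).map c = v :=
    (adj.homEquiv_unit _ _ c).symm.trans ((adj.homEquiv _ _).apply_symm_apply v)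
  suffices ∀ x : X, IsIso ((TopCat.Presheaf.stalkFunctor AddCommGrpCat.{u} x).map c.hom) from
    TopCat.Presheaf.isIso_of_stalkFunctor_map_iso (X := X) (C := AddCommGrpCat.{u})
      (F := (CohTop.pull f).obj G) (G := G') c
  intro x
  rw [ConcreteCategory.isIso_iff_bijective]
  refine (Function.Bijective.of_comp_iff _ (Proper.isPullUnit_unit f G x)).1 ?_
  refine Eq.mpr (congrArg Function.Bijective (funext fun z => ?_)) (hv x)
  obtain ⟨U, hU, t, rfl⟩ := Proper.exists_germ G (f x) z
  show _ = stalkComp f v x _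
  rw [Function.comp_apply]
  erw [stalkComp_germ, stalkComp_germ]
  erw [TopCat.Presheaf.stalkFunctor_map_germ_apply]
  exact congrArg (germ G' (U := (Opens.map f).obj U) x hU) congr(($hc).hom.app (op U) t)

theorem exists_desc_of_isPullUnit (hv : Proper.IsPullUnit f v) {N : CohTop.Ab X} (φ : G ⟶ (CohTop.push f).obj N) :
    ∃ ψ : G' ⟶ N, v ≫ (CohTop.push f).map ψ = φ := by
  let adj := TopCat.Sheaf.pullbackPushforwardAdjunction AddCommGrpCat.{u} f
  have := isIso_adjunct_of_isPullUnit hv
  refine ⟨inv ((adj.homEquiv _ _).symm v) ≫ (adj.homEquiv _ _).symm φ, (adj.homEquiv _ _).symm.injective ?_⟩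
  rw [adj.homEquiv_naturality_right_symm, IsIso.hom_inv_id_assoc]

theorem eq_of_isPullUnit (hv : Proper.IsPullUnit f v) {N : CohTop.Ab X} {a b : G' ⟶ N}
    (h : v ≫ (CohTop.push f).map a = v ≫ (CohTop.push f).map b) : a = b := by
  let adj := TopCat.Sheaf.pullbackPushforwardAdjunction AddCommGrpCat.{u} f
  have := isIso_adjunct_of_isPullUnit hv
  have := congrArg (adj.homEquiv _ _).symm h
  rw [adj.homEquiv_naturality_right_symm, adj.homEquiv_naturality_right_symm] at this
  exact (cancel_epi _).1 this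

end PullUnit

variable {Q : Sys S} (hQ : IsSheafSys Q) (hC : Cart Q)

/-- The section given on one level by a map to a direct image. -/
noncomputable def atLevel {N : Sheaf (JP Y) AddCommGrpCat.{u}} (φ : QSh hQ (btO Y hb) ⟶ (SpaceCrit.push Y).obj N)
    (i : SimplexCategoryᵒᵖ) : QSh hQ (btO Y hb) ⟶ (CohTop.push (augO Y hb i).left).obj ((Proper.lev' Y i).obj N) :=
  ObjectProperty.homMk
    { app := fun U => φ.hom.app U ≫ AddCommGrpCat.ofHom
        ((N.obj.map (Proper.vert (X := (objU Y U.unop).obj i) le_rfl 0).op).hom.comp (proj Y N U.unop).hom)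
      naturality := fun U V f => AddCommGrpCat.hom_ext (AddMonoidHom.ext fun t => by
        show N.obj.map _ (proj Y N V.unop (φ.hom.app V ((QSh hQ (btO Y hb)).obj.map f t))) =
          N.obj.map ((inP Y i).map ((Opens.map (Y.map (toBot _))).map f.unop)).op (N.obj.map _ (proj Y N U.unop (φ.hom.app U t)))
        rw [NatTrans.naturality_apply φ.hom f t]
        refine (congrArg _ (Proper.proj_res (Y := Y) N (le_of f.unop) (φ.hom.app U t))).trans ?_
        refine (Proper.map_map Y N _ _ _).trans ((Proper.map_congr Y N ?_ _).trans (Proper.map_map Y N _ _ _).symm)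
        exact (Category.comp_id _).trans (Category.id_comp _).symm) }

theorem atLevel_apply {N : Sheaf (JP Y) AddCommGrpCat.{u}} (φ : QSh hQ (btO Y hb) ⟶ (SpaceCrit.push Y).obj N)
    (i : SimplexCategoryᵒᵖ) (U : Opens (base Y)) (t : Q.obj (op (⟨btO Y hb, U⟩ : OpO S))) :
    (atLevel Y hb hQ φ i).hom.app (op U) t =
      N.obj.map (Proper.vert (X := (objU Y U).obj i) le_rfl 0).op (proj Y N U (φ.hom.app (op U) t)) := rfl

include hC in
/-- The sheaf of a system is generated by the base. -/
theorem exists_ext {N : Sheaf (JP Y) AddCommGrpCat.{u}} (φ : QSh hQ (btO Y hb) ⟶ (SpaceCrit.push Y).obj N) :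
    ∃ ψ : SQ Y hb hQ ⟶ N, botMap Y hb hQ ≫ (SpaceCrit.push Y).map ψ = φ := by
  choose c hc using fun i => exists_desc_of_isPullUnit (isPullUnit_levU Y hb hQ hC i) (atLevel Y hb hQ φ i)
  have hc' : ∀ (i : SimplexCategoryᵒᵖ) (U : Opens (base Y)) (t : Q.obj (op (⟨btO Y hb, U⟩ : OpO S))),
      (c i).hom.app (op (preP Y i U)) (Q.map (augU Y hb i U).op t) =
        N.obj.map (Proper.vert (X := (objU Y U).obj i) le_rfl 0).op (proj Y N U (φ.hom.app (op U) t)) := fun i U t =>
    (congr(($(hc i)).hom.app (op U) t)).trans (atLevel_apply Y hb hQ φ i U t)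
  let ψ : (toOp Y hb).op ⋙ Q ⟶ N.obj :=
    { app := fun X => (c X.unop.base).hom.app (op (obP X.unop))
      naturality := fun Z X a => AddCommGrpCat.hom_ext (AddMonoidHom.ext fun s => by
        obtain ⟨a, rfl⟩ : ∃ a', a = Quiver.Hom.op a' := ⟨a.unop, rfl⟩
        let i := X.unop.base
        let k := Z.unop.base
        let f := (FibDesc.toAug SimplexCategory).map a.base
        let A : QSh hQ (lvO Y hb k) ⟶ (CohTop.push (Y.map f)).obj ((Proper.lev' Y i).obj N) :=
          (⟨pullNat Q ((liftTo Y hb).map f)⟩ :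
            QSh hQ (lvO Y hb k) ⟶ (CohTop.push (Y.map f)).obj (QSh hQ (lvO Y hb i))) ≫ (CohTop.push (Y.map f)).map (c i)
        let R : (Proper.lev' Y k).obj N ⟶ (CohTop.push (Y.map f)).obj ((Proper.lev' Y i).obj N) :=
          ObjectProperty.homMk
            { app := fun V => N.obj.map (homP (X := mkP i ((Opens.map (Y.map f)).obj V.unop)) (Z := mkP k V.unop) a.base le_rfl).op
              naturality := fun V W g => AddCommGrpCat.hom_ext (AddMonoidHom.ext fun s =>
                (Proper.map_map Y N _ _ s).trans ((Proper.map_congr Y N ((Category.comp_id _).trans (Category.id_comp _).symm) s).trans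
                  (Proper.map_map Y N _ _ s).symm)) }
        have hAB : A = c k ≫ R := eq_of_isPullUnit (isPullUnit_levU Y hb hQ hC k) (Sheaf.hom_ext (NatTrans.ext (funext fun U =>
          AddCommGrpCat.hom_ext (AddMonoidHom.ext fun t => by
            show (c i).hom.app (op ((Opens.map (Y.map f)).obj (preP Y k U.unop)))
                (Q.map (mkHom (a := ⟨lvO Y hb i, (Opens.map (Y.map f)).obj (preP Y k U.unop)⟩)
                  (b := ⟨lvO Y hb k, preP Y k U.unop⟩) ((liftTo Y hb).map f) le_rfl).op (Q.map (augU Y hb k U.unop).op t)) =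
              N.obj.map (homP (X := mkP i ((Opens.map (Y.map f)).obj (preP Y k U.unop))) (Z := mkP k (preP Y k U.unop)) a.base le_rfl).op
                ((c k).hom.app (op (preP Y k U.unop)) (Q.map (augU Y hb k U.unop).op t))
            rw [hc' k U.unop t]
            have hle : (Opens.map (Y.map f)).obj (preP Y k U.unop) ≤ preP Y i U.unop := fun z hz => by
              have h1 : Y.map (toBot _) (Y.map f z) ∈ U.unop := hz
              show Y.map (toBot _) z ∈ U.unop
              rw [(subsingleton_toBot _).elim (toBot _) (f ≫ toBot _), Functor.map_comp]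
              exact h1
            have hq : Q.map (mkHom (a := ⟨lvO Y hb i, (Opens.map (Y.map f)).obj (preP Y k U.unop)⟩)
                  (b := ⟨lvO Y hb k, preP Y k U.unop⟩) ((liftTo Y hb).map f) le_rfl).op (Q.map (augU Y hb k U.unop).op t) =
                Q.map ((inX (lvO Y hb i)).map (homOfLE hle)).op (Q.map (augU Y hb i U.unop).op t) := by
              refine (congr($((Q.map_comp _ _).symm) t)).trans ((congrArg (fun z => Q.map z t)
                (Quiver.Hom.unop_inj (hom_ext' ?_))).trans (congr($(Q.map_comp _ _) t)))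
              show (liftTo Y hb).map f ≫ (liftTo Y hb).map _ = 𝟙 _ ≫ (liftTo Y hb).map _
              rw [Category.id_comp, ← Functor.map_comp]
              exact congrArg (fun z => (liftTo Y hb).map z) ((subsingleton_toBot _).elim _ _)
            rw [hq]
            refine (NatTrans.naturality_apply (c i).hom (homOfLE hle).op _).trans ?_
            refine (congrArg (((Proper.lev' Y i).obj N).obj.map (homOfLE hle).op) (hc' i U.unop t)).trans ?_
            refine (Proper.map_map Y N _ _ _).trans (Eq.trans ?_ (Proper.map_map Y N _ _ _).symm)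
            refine Eq.trans ((Proper.isDesc_proj N U.unop (φ.hom.app U t)).vert_eq (X := mkP i ((Opens.map (Y.map f)).obj (preP Y k U.unop))) hle 0
              (a.base.unop.toOrderHom 0) |> fun e => (Proper.map_congr Y N (Category.id_comp _) _).trans e) ?_
            exact Proper.map_congr Y N (Quiver.Hom.unop_inj (SimplexCategory.Hom.ext _ _ (OrderHom.ext _ _ (funext fun _ => rfl)))) _))))
        let V' := (Opens.map (Y.map f)).obj (obP Z.unop)
        have hle : obP X.unop ≤ V' := homP_le a
        have h1 : ((toOp Y hb).op ⋙ Q).map a.op s = Q.map ((inX (lvO Y hb i)).map (homOfLE hle)).op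
            (Q.map (mkHom (a := ⟨lvO Y hb i, V'⟩) (b := ⟨lvO Y hb k, obP Z.unop⟩) ((liftTo Y hb).map f) le_rfl).op s) := by
          refine (congrArg (fun z => Q.map z s) (Quiver.Hom.unop_inj (hom_ext' ?_))).trans (congr($(Q.map_comp _ _) s))
          exact (Category.id_comp _).symm
        show (c i).hom.app (op (obP X.unop)) (((toOp Y hb).op ⋙ Q).map a.op s) = N.obj.map a.op ((c k).hom.app (op (obP Z.unop)) s)
        rw [h1]
        refine (NatTrans.naturality_apply (c i).hom (homOfLE hle).op _).trans ?_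
        refine (congrArg (((Proper.lev' Y i).obj N).obj.map (homOfLE hle).op) (congr(($hAB).hom.app (op (obP Z.unop)) s))).trans ?_
        exact (Proper.map_map Y N _ _ _).trans (Proper.map_congr Y N (Category.id_comp _) _)) }
  refine ⟨⟨ψ⟩, Sheaf.hom_ext (NatTrans.ext (funext fun U => AddCommGrpCat.hom_ext (AddMonoidHom.ext fun t =>
    Proper.proj_injective N U.unop ?_)))⟩
  refine (Proper.proj_natural Y (⟨ψ⟩ : SQ Y hb hQ ⟶ N) U.unop _).symm.symm.trans ?_
  show (c (lv 0)).hom.app (op (preP Y (lv 0) U.unop)) (proj Y (SQ Y hb hQ) U.unop (botFun Y hb hQ U.unop t)) = _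
  rw [proj_botFun, hc' (lv 0) U.unop t]
  refine (Proper.map_congr Y N (b := 𝟙 _) ?_ _).trans congr($(N.obj.map_id _) (proj Y N U.unop (φ.hom.app U t)))
  exact Quiver.Hom.unop_inj (SimplexCategory.Hom.ext _ _ (OrderHom.ext _ _ (funext fun _ => Subsingleton.elim (α := Fin 1) _ _)))

include hC in
/-- Maps out of the sheaf of a system are determined on the base. -/
theorem ext_unique {N : Sheaf (JP Y) AddCommGrpCat.{u}} {ψ ψ' : SQ Y hb hQ ⟶ N}
    (h : botMap Y hb hQ ≫ (SpaceCrit.push Y).map ψ = botMap Y hb hQ ≫ (SpaceCrit.push Y).map ψ') : ψ = ψ' := by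
  have h0 : ∀ (U : Opens (base Y)) (t : Q.obj (op (⟨btO Y hb, U⟩ : OpO S))),
      ψ.hom.app (op ((objU Y U).obj (lv 0))) (Q.map (augU Y hb (lv 0) U).op t) =
        ψ'.hom.app (op ((objU Y U).obj (lv 0))) (Q.map (augU Y hb (lv 0) U).op t) := fun U t => by
    have := congr(proj Y N U (($h).hom.app (op U) t))
    rw [← proj_botFun Y hb hQ U t]
    exact ((Proper.proj_natural Y ψ U _).symm.trans this).trans (Proper.proj_natural Y ψ' U _)
  suffices ∀ i, (levIso Y hb hQ i).inv ≫ (Proper.lev' Y i).map ψ = (levIso Y hb hQ i).inv ≫ (Proper.lev' Y i).map ψ' by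
    refine Sheaf.hom_ext (NatTrans.ext (funext fun X => ?_))
    exact congr(($((cancel_epi _).1 (this X.unop.base))).hom.app (op (obP X.unop)))
  intro i
  refine eq_of_isPullUnit (isPullUnit_levU Y hb hQ hC i) (Sheaf.hom_ext (NatTrans.ext (funext fun U =>
    AddCommGrpCat.hom_ext (AddMonoidHom.ext fun t => ?_))))
  have hid : ∀ (z : Q.obj (op (⟨lvO Y hb i, preP Y i U.unop⟩ : OpO S))),
      (levIso Y hb hQ i).inv.hom.app (op (preP Y i U.unop)) z = z := fun z => congr($(Q.map_id _) z)
  show ψ.hom.app (op ((objU Y U.unop).obj i)) ((levIso Y hb hQ i).inv.hom.app (op (preP Y i U.unop)) (Q.map (augU Y hb i U.unop).op t)) =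
    ψ'.hom.app (op ((objU Y U.unop).obj i)) ((levIso Y hb hQ i).inv.hom.app (op (preP Y i U.unop)) (Q.map (augU Y hb i U.unop).op t))
  rw [hid, ← map_augU Y hb (Proper.vert (X := (objU Y U.unop).obj i) le_rfl 0) (augU Y hb i U.unop) rfl t]
  exact (NatTrans.naturality_apply ψ.hom _ _).trans ((congrArg _ (h0 U.unop t)).trans (NatTrans.naturality_apply ψ'.hom _ _).symm)

end Groth.L10.HDesc
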