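import Groth.Agent.L10.HDesc.Step
import Mathlib.CategoryTheory.Preadditive.Yoneda.Basic
import Mathlib.CategoryTheory.Preadditive.Injective.Basic
import Mathlib.Algebra.Homology.ShortComplex.Exact
import Mathlib.Algebra.Homology.QuasiIso

/-!
Chains tested against injective objects.
-/

universe u v w v' w'

open CategoryTheory CategoryTheory.Limits Opposite Simplicial AlgebraicTopology

set_option backward.defeqAttrib.useBackward true
set_option backward.isDefEq.respectTransparency false
set_option backward.isDefEq.respectTransparency.types false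
set_option autoImplicit false

namespace Groth.L10.HDesc

/-- The terms of a complex concentrated in degree zero. -/
def oneX (M : AddCommGrpCat.{u}) : ℤ → AddCommGrpCat.{u}
  | Int.ofNat 0 => M
  | Int.ofNat (_ + 1) => AddCommGrpCat.of PUnit.{u + 1}
  | Int.negSucc _ => AddCommGrpCat.of PUnit.{u + 1}

theorem subsingleton_oneX (M : AddCommGrpCat.{u}) {k : ℤ} (hk : k ≠ 0) : Subsingleton (oneX M k) :=
  match k, hk with
  | Int.ofNat 0, h => absurd rfl h
  | Int.ofNat (_ + 1), _ => inferInstanceAs (Subsingleton PUnit)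
  | Int.negSucc _, _ => inferInstanceAs (Subsingleton PUnit)

/-- A map concentrated in degree zero. -/
def oneMap {M M' : AddCommGrpCat.{u}} (f : M ⟶ M') : ∀ k, oneX M k ⟶ oneX M' k
  | Int.ofNat 0 => f
  | Int.ofNat (_ + 1) => 𝟙 _
  | Int.negSucc _ => 𝟙 _

/-- Complexes concentrated in degree zero. -/
noncomputable def oneF : AddCommGrpCat.{u} ⥤ CochainComplex AddCommGrpCat.{u} ℤ where
  obj M := { X := oneX M, d := fun _ _ => 0, shape := fun _ _ _ => rfl, d_comp_d' := fun _ _ _ _ _ => comp_zero }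
  map f := { f := oneMap f, comm' := fun _ _ _ => comp_zero.trans zero_comp.symm }
  map_id M := HomologicalComplex.hom_ext _ _ fun k => by
    rcases k with ((_ | _) | _) <;> rfl
  map_comp f g := HomologicalComplex.hom_ext _ _ fun k => by
    rcases k with ((_ | _) | _)
    · rfl
    · exact (Category.id_comp _).symm
    · exact (Category.id_comp _).symm

variable {A : Type w'} [Category.{u} A] [Abelian A] {E : Type w} [Category.{v} E] (Z : E ⥤ A) (I : A)

/-- Maps into a fixed object, in degree zero. -/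
noncomputable abbrev GI : Eᵒᵖ ⥤ CochainComplex AddCommGrpCat.{u} ℤ := (Z.op ⋙ preadditiveYoneda.obj I) ⋙ oneF

theorem GI_subsingleton (X : Eᵒᵖ) (k : ℤ) (hk : k ≠ 0) : Subsingleton (((GI Z I).obj X).X k) := subsingleton_oneX _ hk

/-- The chains. -/
noncomputable abbrev chZ (K : SimplicialObject E) : ChainComplex A ℕ := (alternatingFaceMapComplex A).obj (K ⋙ Z)

/-- An element of degree zero as a map. -/
abbrev toHom {X : E} (x : ((GI Z I).obj (op X)).X 0) : Z.obj X ⟶ I := x

/-- A map as an element of degree zero. -/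
abbrev ofHom {X : E} (x : Z.obj X ⟶ I) : ((GI Z I).obj (op X)).X 0 := x

theorem GI_map_apply {X Y : E} (f : X ⟶ Y) (x : Z.obj Y ⟶ I) :
    toHom Z I (((GI Z I).map f.op).f 0 (ofHom Z I x)) = Z.map f ≫ x := rfl

theorem dcF_d_apply (K : SimplicialObject E) (i : ℕ) (x : Z.obj (K.obj (op ⦋i⦌)) ⟶ I) :
    toHom Z I (((dcF.obj (gx (GI Z I) K)).d i (i + 1)).f 0 (ofHom Z I x)) = (chZ Z K).d (i + 1) i ≫ x := by
  rw [dcF_d, alternatingFaceMapComplex_obj_d, AlternatingFaceMapComplex.objD, Preadditive.sum_comp]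
  let ev : ((gx (GI Z I) K).obj ⦋i⦌ ⟶ (gx (GI Z I) K).obj ⦋i + 1⦌) →+ (Z.obj (K.obj (op ⦋i + 1⦌)) ⟶ I) :=
    AddMonoidHom.mk' (fun t => t.f 0 (ofHom Z I x)) (fun a b => rfl)
  refine (map_sum ev _ _).trans (Finset.sum_congr rfl fun j _ => ?_)
  rw [map_zsmul, Preadditive.zsmul_comp]
  rfl

/-- An exact augmented chain complex. -/
structure ExactAug {K : SimplicialObject E} {X : E} (η : K ⟶ (SimplicialObject.const E).obj X) : Prop where
  zero : (chZ Z K).d 1 0 ≫ Z.map (η.app (op ⦋0⦌)) = 0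
  epi : Epi (Z.map (η.app (op ⦋0⦌)))
  exact₀ : (ShortComplex.mk _ _ zero).Exact
  exact₁ : ∀ i, (ShortComplex.mk ((chZ Z K).d (i + 1 + 1) (i + 1)) ((chZ Z K).d (i + 1) i)
    ((chZ Z K).d_comp_d _ _ _)).Exact

theorem ExactAug.quasiIso_aug {K : SimplicialObject E} {X : E} {η : K ⟶ (SimplicialObject.const E).obj X}
    (h : ExactAug Z η) [Injective I] : QuasiIso (aug (GI Z I) η) := by
  refine RowExact.quasiIso_totAug (E := dcF.obj (gx (GI Z I) K)) (η := (GI Z I).map (η.app (op ⦋0⦌)).op)
    { zero := (congrArg (((GI Z I).map (η.app (op ⦋0⦌)).op) ≫ ·) (dcF_d_zero (gx (GI Z I) K))).trans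
        (by rw [Preadditive.comp_sub, aug_eq, sub_self])
      inj := fun k => ?_
      exact₀ := fun k z hz => ?_
      exact₁ := fun i k z hz => ?_ } 0 (fun i k hk => GI_subsingleton Z I _ k (by omega))
  · by_cases hk : k = 0
    · subst hk
      intro a b hab
      have := h.epi
      exact (cancel_epi (Z.map (η.app (op ⦋0⦌)))).1 (show Z.map _ ≫ toHom Z I a = Z.map _ ≫ toHom Z I b from hab)
    · exact fun a b _ => Subsingleton.elim (h := GI_subsingleton Z I (op X) k hk) a b
  · by_cases hk : k = 0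
    · subst hk
      have h0 : (chZ Z K).d 1 0 ≫ toHom Z I z = 0 := (dcF_d_apply Z I K 0 z).symm.trans hz
      have := h.epi
      obtain ⟨a, ha⟩ := CokernelCofork.IsColimit.desc' h.exact₀.gIsCokernel (toHom Z I z) h0
      exact ⟨ofHom Z I a, ha⟩
    · exact ⟨0, Subsingleton.elim (h := GI_subsingleton Z I (op (K.obj (op ⦋0⦌))) k hk) _ _⟩
  · by_cases hk : k = 0
    · subst hk
      have h0 : (chZ Z K).d (i + 1 + 1) (i + 1) ≫ toHom Z I z = 0 := (dcF_d_apply Z I K (i + 1) z).symm.trans hz
      exact ⟨ofHom Z I ((h.exact₁ i).descToInjective (toHom Z I z) h0),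
        (dcF_d_apply Z I K i _).trans ((h.exact₁ i).comp_descToInjective (toHom Z I z) h0)⟩
    · exact ⟨0, Subsingleton.elim (h := GI_subsingleton Z I (op (K.obj (op ⦋i + 1⦌))) k hk) _ _⟩

section Bridge

variable {Z I} {K L : SimplicialObject E} (φ : L ⟶ K)

/-- The map of chains. -/
noncomputable abbrev chMap : chZ Z L ⟶ chZ Z K := (alternatingFaceMapComplex A).map (Functor.whiskerRight φ Z)

variable (Z I) in
/-- A map out of chains in degree `n`, as a family. -/
noncomputable def single (M : SimplicialObject E) (n : ℕ) (x : Z.obj (M.obj (op ⦋n⦌)) ⟶ I) :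
    (tot (dcF.obj (gx (GI Z I) M))).X n :=
  (⟨sing (dcF.obj (gx (GI Z I) M)) n 0 (ofHom Z I x), sing_mem n 0 _ (add_zero _)⟩ : TX (dcF.obj (gx (GI Z I) M)) (n : ℤ))

/-- The component in degree zero. -/
noncomputable abbrev comp {M : SimplicialObject E} (n : ℕ) {l : ℤ} (x : (tot (dcF.obj (gx (GI Z I) M))).X l) :
    Z.obj (M.obj (op ⦋n⦌)) ⟶ I := toHom Z I ((x : TX (dcF.obj (gx (GI Z I) M)) l).1 n 0)

theorem comp_single (M : SimplicialObject E) (n : ℕ) (x : Z.obj (M.obj (op ⦋n⦌)) ⟶ I) :
    comp n (single Z I M n x) = x := by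
  show (sing (dcF.obj (gx (GI Z I) M)) n 0 (ofHom Z I x) n 0 : Z.obj (M.obj (op ⦋n⦌)) ⟶ I) = x
  rw [sing, Pi.single_eq_same, Pi.single_eq_same]

theorem ext_comp {M : SimplicialObject E} {l : ℤ} (n : ℕ) (hl : (n : ℤ) = l)
    {x y : (tot (dcF.obj (gx (GI Z I) M))).X l} (h : comp n x = comp n y) : x = y :=
  Subtype.ext (funext fun i => funext fun k => by
    by_cases hk : k = 0
    · subst hk
      by_cases hi : i = n
      · subst hi
        exact h
      · exact ((x : TX (dcF.obj (gx (GI Z I) M)) l).2 i 0 (by omega)).trans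
          ((y : TX (dcF.obj (gx (GI Z I) M)) l).2 i 0 (by omega)).symm
    · exact Subsingleton.elim (h := GI_subsingleton Z I (op (M.obj (op ⦋i⦌))) k hk) _ _)

theorem comp_d {M : SimplicialObject E} (n : ℕ) {l l' : ℤ} (hl : l + 1 = l') (x : (tot (dcF.obj (gx (GI Z I) M))).X l) :
    comp (n + 1) ((tot (dcF.obj (gx (GI Z I) M))).d l l' x) = (chZ Z M).d (n + 1) n ≫ comp n x := by
  refine Eq.trans ?_ (dcF_d_apply Z I M n (comp n x))
  refine (congrArg (fun z : All (dcF.obj (gx (GI Z I) M)) => toHom Z I (z (n + 1) 0)) (tot_d_val _ hl x)).trans ?_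
  show toHom Z I (D _ (x : TX (dcF.obj (gx (GI Z I) M)) l).1 (n + 1) 0) = _
  rw [D_succ_apply]
  rw [Subsingleton.elim (h := GI_subsingleton Z I (op (M.obj (op ⦋n + 1⦌))) (0 - 1) (by omega)) ((x : TX (dcF.obj (gx (GI Z I) M)) l).1 (n + 1) (0 - 1)) 0, map_zero, smul_zero, zero_add]

theorem comp_Ts_map (n : ℕ) {l : ℤ} (x : (tot (dcF.obj (gx (GI Z I) K))).X l) :
    comp n (((Ts (GI Z I)).map φ.op).f l x) = (chMap φ).f n ≫ comp n x := rfl

variable [EnoughInjectives A]

variable (Z) in
/-- Quasi-isomorphisms after mapping into every injective give quasi-isomorphisms of chains. -/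
theorem quasiIso_chMap_of_Ts (h : ∀ (I : A), Injective I → QuasiIso ((Ts (GI Z I)).map φ.op)) :
    QuasiIso (chMap (Z := Z) φ) := by
  refine (quasiIso_iff _).2 fun n => ?_
  rw [quasiIsoAt_iff_isIso_homologyMap]
  let c := chMap (Z := Z) φ
  let KZ := chZ Z K
  let LZ := chZ Z L
  have ext : ∀ {M : ChainComplex A ℕ} {J : A} [Injective J] (f : M.homology n ⟶ J),
      ∃ g : M.X n ⟶ J, M.d (n + 1) n ≫ g = 0 ∧ M.iCycles n ≫ g = M.homologyπ n ≫ f := fun {M J} _ f => by
    refine ⟨M.pOpcycles n ≫ Injective.factorThru f (M.homologyι n), by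
      rw [HomologicalComplex.d_pOpcycles_assoc, zero_comp], ?_⟩
    rw [← M.homology_π_ι_assoc, Injective.comp_factorThru]
  have cyc : ∀ {M : ChainComplex A ℕ} {J : A} (m : ℕ) (b : M.X m ⟶ J), n = m + 1 → M.iCycles n ≫ M.d n m ≫ b = 0 :=
    fun {M J} m b _ => by rw [HomologicalComplex.iCycles_d_assoc, zero_comp]
  have hnat : HomologicalComplex.cyclesMap c n ≫ KZ.iCycles n = LZ.iCycles n ≫ c.f n := HomologicalComplex.cyclesMap_i _ _
  have hπ : LZ.homologyπ n ≫ HomologicalComplex.homologyMap c n = HomologicalComplex.cyclesMap c n ≫ KZ.homologyπ n :=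
    HomologicalComplex.homologyπ_naturality _ _
  have hmono : Mono (HomologicalComplex.homologyMap c n) := by
    let ι := Injective.ι (LZ.homology n)
    obtain ⟨g, hg, hg'⟩ := ext ι
    have hq := h (Injective.under (LZ.homology n)) inferInstance
    obtain ⟨hS, -⟩ := (quasiIsoAt_iff_hIso ((Ts (GI Z (Injective.under (LZ.homology n)))).map φ.op) (n : ℤ)).1 inferInstance
    obtain ⟨x, hx, b, hb⟩ := hS (single Z _ L n g) (ext_comp (n + 1) (by push_cast; rfl)
      ((comp_d n rfl _).trans ((congrArg (LZ.d (n + 1) n ≫ ·) (comp_single L n g)).trans (hg.trans rfl))))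
      ((n : ℤ) - 1) (sub_add_cancel _ 1)
    have hxc : KZ.d (n + 1) n ≫ comp n x = 0 := (comp_d n rfl x).symm.trans (congrArg (comp (n + 1)) hx)
    have e : LZ.iCycles n ≫ g = LZ.iCycles n ≫ c.f n ≫ comp n x := by
      have := (comp_single L n g).symm.trans (congrArg (comp n) hb)
      refine (congrArg (LZ.iCycles n ≫ ·) this).trans ?_
      show LZ.iCycles n ≫ (comp n (((Ts (GI Z _)).map φ.op).f n x) + comp n ((tot _).d ((n : ℤ) - 1) n b)) = _
      rw [Preadditive.comp_add, comp_Ts_map, add_eq_left]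
      rcases n with - | m
      · rw [Subsingleton.elim (h := tot_subsingleton (fun i k hk => GI_subsingleton Z _ _ k (by omega)) _ (by omega)) b 0,
          map_zero]
        exact comp_zero
      · rw [comp_d m (by omega) b]
        exact cyc m _ rfl
    suffices hfac : HomologicalComplex.homologyMap c n ≫
        (KZ.homologyι n ≫ KZ.descOpcycles (comp n x) (n + 1) (by simp) hxc) = ι from mono_of_mono_fac hfac
    rw [← cancel_epi (LZ.homologyπ n), ← hg', e, ← Category.assoc (LZ.homologyπ n), hπ, Category.assoc,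
      KZ.homology_π_ι_assoc, HomologicalComplex.p_descOpcycles, ← Category.assoc, hnat, Category.assoc]
  have hepi : Epi (HomologicalComplex.homologyMap c n) := by
    refine Preadditive.epi_of_cancel_zero _ fun {P} t ht => ?_
    rw [← cancel_mono (Injective.ι P), zero_comp]
    obtain ⟨g, hg, hg'⟩ := ext (t ≫ Injective.ι P)
    have hgL : LZ.iCycles n ≫ c.f n ≫ g = 0 := by
      rw [← Category.assoc, ← hnat, Category.assoc, hg', ← Category.assoc, ← hπ, Category.assoc, ← Category.assoc _ t,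
        ht, zero_comp, comp_zero]
    have hq := h (Injective.under P) inferInstance
    obtain ⟨-, hI⟩ := (quasiIsoAt_iff_hIso ((Ts (GI Z (Injective.under P))).map φ.op) (n : ℤ)).1 inferInstance
    suffices hfin : KZ.iCycles n ≫ g = 0 by
      rw [← cancel_epi (KZ.homologyπ n), ← hg', hfin, comp_zero]
    have hcyc : (tot (dcF.obj (gx (GI Z (Injective.under P)) K))).d n (n + 1) (single Z _ K n g) = 0 :=
      ext_comp (n + 1) (by push_cast; rfl)
        ((comp_d n rfl _).trans ((congrArg (KZ.d (n + 1) n ≫ ·) (comp_single K n g)).trans (hg.trans rfl)))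
    rcases n with - | m
    · have := LZ.isIso_iCycles 0 0 (by simp) (LZ.shape _ _ (by simp))
      have h0 : c.f 0 ≫ g = 0 := by rw [← cancel_epi (LZ.iCycles 0), hgL, comp_zero]
      obtain ⟨a, ha⟩ := hI _ hcyc (((0 : ℕ) : ℤ) - 1) 0 (sub_add_cancel _ 1) (by
        rw [map_zero]
        exact ext_comp 0 rfl ((comp_Ts_map φ 0 _).trans ((congrArg (c.f 0 ≫ ·) (comp_single K 0 g)).trans (h0.trans rfl))))
      have hg0 : g = 0 := by
        rw [← comp_single (I := Injective.under P) K 0 g, ha,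
          Subsingleton.elim (h := tot_subsingleton (fun i k hk => GI_subsingleton Z _ _ k (by omega)) _ (by omega)) a 0,
          map_zero]
        rfl
      rw [hg0, comp_zero]
    · have hex : (ShortComplex.mk (LZ.iCycles (m + 1)) (LZ.d (m + 1) m) (LZ.iCycles_d _ _)).Exact :=
        ShortComplex.exact_of_f_is_kernel _ (LZ.cyclesIsKernel (m + 1) m (by simp))
      have hb := hex.comp_descToInjective (c.f (m + 1) ≫ g) hgL
      have hm : ((m + 1 : ℕ) : ℤ) - 1 = (m : ℤ) := by omega
      obtain ⟨a, ha⟩ := hI _ hcyc (m : ℤ) (single Z _ L m (hex.descToInjective (c.f (m + 1) ≫ g) hgL)) (by omega)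
        (ext_comp (m + 1) rfl (by
          refine (comp_Ts_map φ (m + 1) _).trans ((congrArg (c.f (m + 1) ≫ ·) (comp_single K (m + 1) g)).trans ?_)
          refine Eq.trans ?_ (comp_d (M := L) m (by omega : (m : ℤ) + 1 = ((m + 1 : ℕ) : ℤ)) _).symm
          exact hb.symm.trans (congrArg (LZ.d (m + 1) m ≫ ·) (comp_single L m _).symm)))
      rw [← comp_single (I := Injective.under P) K (m + 1) g, ha]
      exact (congrArg (KZ.iCycles (m + 1) ≫ ·) (comp_d (M := K) m (by omega : (m : ℤ) + 1 = ((m + 1 : ℕ) : ℤ)) a)).trans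
        (cyc m _ rfl)
  exact isIso_of_mono_of_epi _

end Bridge

end Groth.L10.HDesc
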