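import Groth.Agent.L10.HDesc.CoskMap
import Groth.Agent.L10.HDesc.HomDual
import Groth.Agent.L10.NerveExact
import Mathlib.CategoryTheory.Limits.Preserves.Shapes.Pullbacks

/-!
Free abelian sheaves of a map of coskeletal simplicial objects.
-/

universe u w

open CategoryTheory CategoryTheory.Limits Opposite Simplicial AlgebraicTopology

set_option backward.defeqAttrib.useBackward true
set_option backward.isDefEq.respectTransparency false
set_option backward.isDefEq.respectTransparency.types false
set_option autoImplicit false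

namespace Groth.L10.HDesc

open Groth.L10.SiteFr (fr rep repMap repEquiv repEquiv_comp repEquiv_map)

variable {C : Type u} [SmallCategory C] {J : GrothendieckTopology C}

/-- Epimorphisms of sheaves of sets are stable under base change. -/
theorem epi_of_isPullback {P X Y Z : Sheaf J (Type u)} {fst : P ⟶ X} {snd : P ⟶ Y} {f : X ⟶ Z} {g : Y ⟶ Z}
    (sq : IsPullback fst snd f g) (h : Epi f) : Epi snd := by
  rw [← Sheaf.isLocallySurjective_iff_epi] at h ⊢
  refine ⟨fun {U} y => J.superset_covering (fun V a ha => ?_) (h.imageSieve_mem (g.hom.app (op U) y))⟩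
  obtain ⟨x, hx⟩ := ha
  let b : rep J V ⟶ Y := repMap J a ≫ (repEquiv U Y).symm y
  have hb : repEquiv V Y b = Y.obj.map a.op y :=
    (repEquiv_map a _).trans (congrArg (Y.obj.map a.op) ((repEquiv U Y).apply_symm_apply y))
  have e : (repEquiv V X).symm x ≫ f = b ≫ g := (repEquiv V Z).injective (by
    rw [repEquiv_comp, repEquiv_comp, Equiv.apply_symm_apply, hb]
    exact hx.trans (congr($(g.hom.naturality a.op) y)).symm)
  exact ⟨repEquiv V P (sq.lift _ b e), ((repEquiv_comp _ snd).symm.trans
    (congrArg (repEquiv V Y) (sq.lift_snd _ b e))).trans hb⟩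

variable {E : Type w} [Category.{u} E] [HasFiniteWidePullbacks E] [HasPullbacks E] (a : E ⥤ Sheaf J (Type u))
  [PreservesFiniteLimits a]

/-- Maps which become epimorphisms of sheaves. -/
def EpiIn : MorphismProperty E := fun _ _ f => Epi (a.map f)

instance : (EpiIn a).IsStableUnderBaseChange where
  of_isPullback {_ _ _ _ _ _ _ _} sq hg := epi_of_isPullback (sq.map a) hg

instance : (EpiIn a).IsMultiplicative where
  id_mem X := by
    show Epi (a.map (𝟙 X))
    rw [a.map_id]
    infer_instance
  comp_mem f g hf hg := by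
    show Epi (a.map (f ≫ g))
    rw [a.map_comp]
    exact epi_comp' hf hg

/-- The comparison with the Čech nerve of the image. -/
noncomputable def cechCompare {X Y : E} (f : X ⟶ Y) :
    (Arrow.mk f).cechNerve ⋙ a ⟶ (Arrow.mk (a.map f)).cechNerve where
  app i := WidePullback.lift (a.map (WidePullback.base _)) (fun j => a.map (WidePullback.π (fun _ => (Arrow.mk f).hom) j))
    (fun j => (a.map_comp _ _).symm.trans (congrArg (fun z => a.map z) (WidePullback.π_arrow (fun _ => (Arrow.mk f).hom) j)))
  naturality i k g := by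
    refine WidePullback.hom_ext _ _ _ (fun j => ?_) ?_
    · rw [Category.assoc, Category.assoc]
      erw [WidePullback.lift_π, WidePullback.lift_π, WidePullback.lift_π]
      exact (a.map_comp _ _).symm.trans (congrArg (fun z => a.map z) (WidePullback.lift_π _ _ _ _ _))
    · rw [Category.assoc, Category.assoc]
      erw [WidePullback.lift_base, WidePullback.lift_base, WidePullback.lift_base]
      exact (a.map_comp _ _).symm.trans (congrArg (fun z => a.map z) (WidePullback.lift_base _ _ _ _))

theorem isIso_cechCompare {X Y : E} (f : X ⟶ Y) : IsIso (cechCompare a f) := by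
  have : ∀ i, IsIso ((cechCompare a f).app i) := fun i => by
    let ι := Fin (i.unop.len + 1)
    let F := WidePullbackShape.wideCospan Y (fun _ : ι => X) (fun _ => f)
    let F' := WidePullbackShape.wideCospan (a.obj Y) (fun _ : ι => a.obj X) (fun _ => a.map f)
    let e : F ⋙ a ≅ F' := WidePullbackShape.diagramIsoWideCospan _
    let hl := isLimitOfPreserves a (limit.isLimit F)
    let hl' := IsLimit.postcomposeHomEquiv e _ |>.symm hl
    have : (cechCompare a f).app i = (hl'.conePointUniqueUpToIso (limit.isLimit F')).hom := by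
      refine limit.hom_ext fun j => ?_
      refine Eq.trans ?_ (IsLimit.conePointUniqueUpToIso_hom_comp hl' (limit.isLimit F') j).symm
      rcases j with - | j
      · refine (WidePullback.lift_base _ _ _ _).trans ?_
        simp [e, F, F', WidePullbackShape.diagramIsoWideCospan]
        rfl
      · refine (WidePullback.lift_π _ _ _ _ j).trans ?_
        simp [e, F, F', WidePullbackShape.diagramIsoWideCospan]
        rfl
    rw [this]
    infer_instance
  exact NatIso.isIso_of_isIso_app _

/-- The free abelian sheaves. -/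
noncomputable abbrev frA : E ⥤ Sheaf J AddCommGrpCat.{u} := a ⋙ fr J

theorem exactAug_cech {X Y : E} (f : X ⟶ Y) (hf : Epi (a.map f)) :
    ExactAug (frA a) (Arrow.mk f).augmentedCechNerve.hom := by
  have := isIso_cechCompare a f
  let e : chZ (frA a) (Arrow.mk f).cechNerve ≅ (alternatingFaceMapComplex _).obj ((Arrow.mk (a.map f)).cechNerve ⋙ fr J) :=
    (alternatingFaceMapComplex _).mapIso (Functor.isoWhiskerRight (asIso (cechCompare a f)) (fr J))
  let φ := (frA a).map ((Arrow.mk f).augmentedCechNerve.hom.app (op ⦋0⦌))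
  have hφ : e.hom.f 0 ≫ (fr J).map (Nerve.bs (a.map f) 0) = φ :=
    ((fr J).map_comp _ _).symm.trans (congrArg (fun z => (fr J).map z) (WidePullback.lift_base _ _ _ _))
  have hd : ∀ n, ((alternatingFaceMapComplex _).obj ((Arrow.mk (a.map f)).cechNerve ⋙ fr J)).d (n + 1) n = Nerve.d (a.map f) n :=
    fun n => alternatingFaceMapComplex_obj_d _ n
  have hcomm : ∀ n, e.hom.f (n + 1) ≫ Nerve.d (a.map f) n = (chZ (frA a) (Arrow.mk f).cechNerve).d (n + 1) n ≫ e.hom.f n :=
    fun n => by rw [← hd]; exact e.hom.comm _ _
  have zero : (chZ (frA a) (Arrow.mk f).cechNerve).d 1 0 ≫ φ = 0 := by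
    rw [← hφ, ← Category.assoc, ← hcomm 0, Category.assoc, Nerve.d_comp_ε, comp_zero]
  refine ⟨zero, ?_, ?_, fun i => ?_⟩
  · have := hf
    have := Nerve.epi_ε (a.map f)
    have : Epi (e.hom.f 0) := inferInstance
    show Epi φ
    rw [← hφ]
    exact epi_comp _ _
  · refine (ShortComplex.exact_iff_of_iso (ShortComplex.isoMk (S₁ := ShortComplex.mk _ φ zero) (S₂ := ShortComplex.mk (Nerve.d (a.map f) 0)
      ((fr J).map (Nerve.bs (a.map f) 0)) (Nerve.d_comp_ε _)) ((HomologicalComplex.eval _ _ 1).mapIso e)
      ((HomologicalComplex.eval _ _ 0).mapIso e) (Iso.refl _) (hcomm 0) (hφ.trans (Category.comp_id _).symm))).2 ?_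
    exact Nerve.exact_ε (a.map f)
  · refine (ShortComplex.exact_iff_of_iso (ShortComplex.isoMk (S₂ := ShortComplex.mk (Nerve.d (a.map f) (i + 1))
      (Nerve.d (a.map f) i) (Nerve.d_comp_d _ i)) ((HomologicalComplex.eval _ _ (i + 1 + 1)).mapIso e)
      ((HomologicalComplex.eval _ _ (i + 1)).mapIso e) ((HomologicalComplex.eval _ _ i).mapIso e) (hcomm (i + 1)) (hcomm i))).2 ?_
    exact Nerve.exact_d (a.map f) i

variable {L K : SimplicialObject E} (f : L ⟶ K) {n : ℕ} (sK : SelfCosk K n) (sL : SelfCosk L n)
  (h1 : ∀ i : ℕ, i < n → IsIso (f.app (op ⦋i⦌))) (h2 : Epi (a.map (f.app (op ⦋n⦌))))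

include sK sL h1 h2 in
theorem epi_app (m : SimplexCategoryᵒᵖ) : Epi (a.map (f.app m)) :=
  property_of_selfCosk sK sL h1 (EpiIn a) h2 m

include sK sL h1 h2 in
/-- A map which is an isomorphism below the level of coskeletality and an epimorphism at that level is a
quasi-isomorphism on free abelian sheaves. -/
theorem quasiIso_free : QuasiIso (chMap (Z := frA a) f) :=
  quasiIso_chMap_of_Ts (frA a) f fun I _ => quasiIso_Ts_map_of_levelwise (GI (frA a) I)
    (fun X k hk => GI_subsingleton _ I X k hk.ne) (homotopyLift_of_selfCosk sK sL h1)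
    (fun m => (exactAug_cech a (f.app m) (epi_app a f sK sL h1 h2 m)).quasiIso_aug (frA a) I)

end Groth.L10.HDesc
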