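import Groth.Agent.L10.HDesc.Rows
import Mathlib.Algebra.Homology.HomologicalBicomplex

/-!
Exchanging the two outer indices of a triple complex.
-/

universe u

open CategoryTheory Limits

set_option backward.isDefEq.respectTransparency false
set_option autoImplicit false

namespace Groth.L10.HDesc

/-- Triple complexes. -/
abbrev TC : Type (u + 1) := CochainComplex DC.{u} ℕ

/-- The double complex of total complexes. -/
noncomputable abbrev collapse (W : TC.{u}) : DC.{u} := (totF.mapHomologicalComplex _).obj W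

/-- The exchanged triple complex. -/
noncomputable abbrev tflip (W : TC.{u}) : TC.{u} := HomologicalComplex₂.flip W

variable (W : TC.{u})

/-- The sign of an exchange. -/
abbrev fs (p m : ℕ) : ℤ := (-1) ^ (p * m)

/-- The value of an exchanged family. -/
noncomputable def fubVal (x : All (collapse W)) (m : ℕ) (n'' : ℤ) : All ((tflip W).X m) :=
  fun p k => if (p : ℤ) + k = n'' then fs p m • (x p ((m : ℤ) + k) : TX (W.X p) ((m : ℤ) + k)).1 m k else 0

theorem fubVal_mem (x : All (collapse W)) (m : ℕ) (n'' : ℤ) : fubVal W x m n'' ∈ TX ((tflip W).X m) n'' :=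
  fun _ _ h => if_neg h

theorem fubVal_pos (x : All (collapse W)) (m : ℕ) {n'' : ℤ} (p : ℕ) (k : ℤ) (h : (p : ℤ) + k = n'') :
    fubVal W x m n'' p k = fs p m • (x p ((m : ℤ) + k) : TX (W.X p) ((m : ℤ) + k)).1 m k := if_pos h

theorem fubVal_neg (x : All (collapse W)) (m : ℕ) {n'' : ℤ} (p : ℕ) (k : ℤ) (h : ¬ (p : ℤ) + k = n'') :
    fubVal W x m n'' p k = 0 := if_neg h

/-- Exchange on families. -/
noncomputable def fubAll : All (collapse W) →+ All (collapse (tflip W)) :=
  AddMonoidHom.mk' (fun x m n'' => (⟨fubVal W x m n'', fubVal_mem W x m n''⟩ : TX ((tflip W).X m) n''))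
    (fun x y => funext fun m => funext fun n'' => Subtype.ext (funext fun p => funext fun k => by
      show fubVal W (x + y) m n'' p k = fubVal W x m n'' p k + fubVal W y m n'' p k
      by_cases h : (p : ℤ) + k = n''
      · rw [fubVal_pos W _ m p k h, fubVal_pos W _ m p k h, fubVal_pos W _ m p k h, ← smul_add]
        rfl
      · rw [fubVal, fubVal, fubVal, if_neg h, if_neg h, if_neg h, add_zero]))

theorem fubAll_val (x : All (collapse W)) (m : ℕ) (n'' : ℤ) :
    (fubAll W x m n'' : TX ((tflip W).X m) n'').1 = fubVal W x m n'' := rfl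

theorem fubAll_mem {x : All (collapse W)} {n : ℤ} (hx : x ∈ TX (collapse W) n) :
    fubAll W x ∈ TX (collapse (tflip W)) n := fun m n'' h => Subtype.ext (funext fun p => funext fun k => by
  show fubVal W x m n'' p k = 0
  by_cases hpk : (p : ℤ) + k = n''
  · rw [fubVal_pos W x m p k hpk, hx p ((m : ℤ) + k) (by omega)]
    exact smul_zero _
  · exact if_neg hpk)

theorem fs_succ_left (p m : ℕ) : fs (p + 1) m = sgn m * fs p m := by rw [fs, fs, sgn, add_mul, one_mul, pow_add, mul_comm]

theorem fs_succ_right (p m : ℕ) : fs p (m + 1) = sgn p * fs p m := by rw [fs, fs, sgn, mul_add, mul_one, pow_add, mul_comm]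

theorem collapse_d (p : ℕ) (l : ℤ) (y : TX (W.X p) (l - 1)) (m : ℕ) (k : ℤ) :
    (((collapse W).X p).d (l - 1) l y : TX (W.X p) l).1 m k =
      sgn m • ((W.X p).X m).d (k - 1) k (y.1 m (k - 1)) + ((W.X p).d (m - 1) m).f k (y.1 (m - 1) k) :=
  (congr_fun (congr_fun (tot_d_val (W.X p) (sub_add_cancel l 1) y) m) k).trans (D_apply _ _ _ _)

theorem collapse_f (p p' : ℕ) (l : ℤ) (y : TX (W.X p) l) (m : ℕ) (k : ℤ) :
    (((collapse W).d p p').f l y : TX (W.X p') l).1 m k = (((W.d p p').f m).f k) (y.1 m k) := rfl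

theorem value_cast (x : All (collapse W)) (p m : ℕ) (k : ℤ) {l l' : ℤ} (h : l = l') :
    (x p l : TX (W.X p) l).1 m k = (x p l' : TX (W.X p) l').1 m k := by
  subst h
  rfl

theorem fubAll_D (x : All (collapse W)) :
    fubAll W (D (collapse W) x) = D (collapse (tflip W)) (fubAll W x) :=
  funext fun m => funext fun n'' => Subtype.ext (funext fun p => funext fun k => by
    show fubVal W (D (collapse W) x) m n'' p k = (D (collapse (tflip W)) (fubAll W x) m n'' : TX ((tflip W).X m) n'').1 p k
    rw [D_apply]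
    show _ = sgn m • (((collapse (tflip W)).X m).d (n'' - 1) n'' (fubAll W x m (n'' - 1)) : TX ((tflip W).X m) n'').1 p k +
      (((collapse (tflip W)).d (m - 1) m).f n'' (fubAll W x (m - 1) n'') : TX ((tflip W).X m) n'').1 p k
    rw [collapse_d (tflip W), collapse_f (tflip W), fubAll_val, fubAll_val]
    by_cases hpk : (p : ℤ) + k = n''
    swap
    · rw [fubVal_neg W _ m p k hpk, fubVal_neg W x (m - 1) p k hpk, fubVal_neg W x m p (k - 1) (by omega), map_zero,
        smul_zero, map_zero, zero_add, add_zero]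
      cases p with
      | zero =>
        have e : (((tflip W).X m).d (0 - 1) 0) = 0 := ((tflip W).X m).shape _ _ (by simp)
        rw [e]
        simp
      | succ p =>
        rw [fubVal_neg W x m (p + 1 - 1) k (by omega), map_zero, smul_zero]
    rw [fubVal_pos W _ m p k hpk, D_apply]
    show fs p m • (sgn p • (((collapse W).X p).d ((m : ℤ) + k - 1) ((m : ℤ) + k) (x p ((m : ℤ) + k - 1)) :
          TX (W.X p) ((m : ℤ) + k)).1 m k +
        (((collapse W).d (p - 1) p).f ((m : ℤ) + k) (x (p - 1) ((m : ℤ) + k)) : TX (W.X p) ((m : ℤ) + k)).1 m k) = _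
    rw [collapse_d W, collapse_f W, smul_add, smul_add, smul_add, smul_add, fubVal_pos W x m p (k - 1) (by omega),
      value_cast W x p m (k - 1) (show (m : ℤ) + k - 1 = (m : ℤ) + (k - 1) by omega)]
    have e₂ : fs p m • sgn p • ((W.X p).d (m - 1) m).f k ((x p ((m : ℤ) + k - 1) : TX (W.X p) _).1 (m - 1) k) =
        ((W.X p).d (m - 1) m).f k (fubVal W x (m - 1) n'' p k) := by
      cases m with
      | zero => rw [dh_zero, dh_zero, smul_zero, smul_zero]
      | succ m =>
        rw [show m + 1 - 1 = m from rfl, fubVal_pos W x m p k hpk, map_zsmul, smul_smul, fs_succ_right,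
          mul_comm (sgn p) (fs p m), mul_assoc, sgn_mul_sgn, mul_one,
          value_cast W x p m k (show ((m + 1 : ℕ) : ℤ) + k - 1 = (m : ℤ) + k by push_cast; omega)]
    have e₃ : fs p m • ((W.d (p - 1) p).f m).f k ((x (p - 1) ((m : ℤ) + k) : TX (W.X (p - 1)) _).1 m k) =
        sgn m • ((W.d (p - 1) p).f m).f k (fubVal W x m (n'' - 1) (p - 1) k) := by
      cases p with
      | zero =>
        rw [show W.d (0 - 1) 0 = 0 from W.shape _ _ (by simp)]
        simp
      | succ p =>
        rw [show p + 1 - 1 = p from rfl, fubVal_pos W x m p k (by omega), map_zsmul, smul_smul, fs_succ_left]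
    rw [e₂, e₃]
    rw [map_zsmul]
    rw [add_right_comm, smul_smul, smul_smul, smul_smul,
      show fs p m * sgn p * sgn m = sgn m * sgn p * fs p m by ring, mul_smul (sgn m * sgn p) (fs p m)]
    rfl)

/-- The exchange of indices. -/
noncomputable def fub : tot (collapse W) ⟶ tot (collapse (tflip W)) where
  f n := AddCommGrpCat.ofHom (((fubAll W).comp (TX (collapse W) n).subtype).codRestrict _ fun x => fubAll_mem W x.2)
  comm' n l h := AddCommGrpCat.hom_ext (AddMonoidHom.ext fun x => Subtype.ext (by
    show ((tot (collapse (tflip W))).d n l _ : TX _ l).1 = fubAll W ((tot (collapse W)).d n l x : TX _ l).1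
    rw [tot_d_val _ h, tot_d_val _ h]
    exact (fubAll_D W _).symm))

theorem fubAll_fubAll {n : ℤ} {x : All (collapse W)} (hx : x ∈ TX (collapse W) n) :
    fubAll (tflip W) (fubAll W x) = x := funext fun p => funext fun n' => Subtype.ext (funext fun m => funext fun k => by
  show fubVal (tflip W) (fubAll W x) p n' m k = (x p n' : TX (W.X p) n').1 m k
  by_cases h : (m : ℤ) + k = n'
  · rw [fubVal_pos (tflip W) _ p m k h, fubAll_val, fubVal_pos W x m p k rfl, value_cast W x p m k h, smul_smul]
    have : fs m p * fs p m = 1 := by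
      rw [fs, fs, mul_comm m p, ← mul_pow]
      simp
    rw [this, one_zsmul]
  · rw [fubVal, if_neg h, (x p n' : TX (W.X p) n').2 m k h])

/-- It is a quasi-isomorphism. -/
theorem quasiIso_fub : QuasiIso (fub W) := by
  refine quasiIso_of_inverse _ (fub (tflip W)) (fun n j _ x _ => ⟨0, ?_⟩) (fun n j _ y _ => ⟨0, ?_⟩)
  · rw [map_zero]
    exact (Subtype.ext (fubAll_fubAll W (x : TX (collapse W) n).2)).trans (add_zero x).symm
  · rw [map_zero]
    exact (Subtype.ext (fubAll_fubAll (tflip W) (y : TX (collapse (tflip W)) n).2)).trans (add_zero y).symm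

theorem fub_val (n : ℤ) (x : (tot (collapse W)).X n) :
    ((fub W).f n x : TX (collapse (tflip W)) n).1 = fubAll W (x : TX (collapse W) n).1 := rfl

end Groth.L10.HDesc
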