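import Groth.Agent.L10.HDesc.Tot
import Mathlib.Algebra.Homology.QuasiIso
import Mathlib.Algebra.Homology.ShortComplex.Ab
import Mathlib.Algebra.Category.Grp.EpiMono

/-!
Quasi-isomorphisms of complexes of abelian groups through elements, and the column criterion for total complexes.
-/

universe u

open CategoryTheory Limits

set_option backward.isDefEq.respectTransparency false
set_option autoImplicit false

namespace Groth.L10.HDesc

variable {K L : CochainComplex AddCommGrpCat.{u} ℤ} (f : K ⟶ L)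

/-- Surjectivity in cohomology, on elements. -/
def SurjH (n : ℤ) : Prop :=
  ∀ y : L.X n, L.d n (n + 1) y = 0 → ∀ j : ℤ, j + 1 = n →
    ∃ x : K.X n, K.d n (n + 1) x = 0 ∧ ∃ b : L.X j, y = f.f n x + L.d j n b

/-- Injectivity in cohomology, on elements. -/
def InjH (n : ℤ) : Prop :=
  ∀ x : K.X n, K.d n (n + 1) x = 0 → ∀ (j : ℤ) (b : L.X j), j + 1 = n → f.f n x = L.d j n b →
    ∃ a : K.X j, x = K.d j n a

/-- Exactness of the mapping cone, on elements. -/
def Cone (k : ℤ) : Prop :=
  ∀ (a : K.X (k + 1)) (b : L.X k), K.d (k + 1) (k + 1 + 1) a = 0 → f.f (k + 1) a + L.d k (k + 1) b = 0 →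
    ∃ (a' : K.X k) (b' : L.X (k - 1)), K.d k (k + 1) a' = a ∧ b + f.f k a' = L.d (k - 1) k b'

theorem comm_apply (i j : ℤ) (z : K.X i) : f.f j (K.d i j z) = L.d i j (f.f i z) := by
  rw [← ConcreteCategory.comp_apply, ← ConcreteCategory.comp_apply, f.comm]

theorem d_d (i j l : ℤ) (z : K.X i) : K.d j l (K.d i j z) = 0 := by
  rw [← ConcreteCategory.comp_apply, HomologicalComplex.d_comp_d]
  rfl

theorem cone_of {k : ℤ} (hI : InjH f (k + 1)) (hS : SurjH f k) : Cone f k := fun a b ha hab => by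
  obtain ⟨a₀, ha₀⟩ := hI a ha k (-b) rfl (by rw [map_neg]; exact eq_neg_of_add_eq_zero_left hab)
  have hc : L.d k (k + 1) (b + f.f k a₀) = 0 := by
    rw [map_add, ← comm_apply]
    exact (congrArg (fun t => L.d k (k + 1) b + f.f (k + 1) t) ha₀.symm).trans ((add_comm _ _).trans hab)
  obtain ⟨z, hz, b', hb'⟩ := hS _ hc (k - 1) (sub_add_cancel k 1)
  refine ⟨a₀ - z, b', by rw [map_sub, hz, sub_zero, ha₀], ?_⟩
  rw [map_sub, ← add_sub_assoc, hb', add_sub_cancel_left]

theorem surjH_of_cone {k : ℤ} (h : Cone f k) : SurjH f k := fun y hy j hj => by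
  obtain rfl : j = k - 1 := by omega
  obtain ⟨a', b', ha', hb'⟩ := h 0 y (map_zero _) (by rw [map_zero, zero_add, hy])
  refine ⟨-a', by rw [map_neg, ha', neg_zero], b', ?_⟩
  rw [map_neg, ← hb']
  abel

theorem injH_of_cone {k : ℤ} (h : Cone f k) : InjH f (k + 1) := fun x hx j b hj e => by
  obtain rfl : j = k := by omega
  obtain ⟨a', _, ha', _⟩ := h x (-b) hx (by rw [map_neg, e, add_neg_cancel])
  exact ⟨a', ha'.symm⟩

theorem cone_of_subsingleton {k : ℤ} [Subsingleton (K.X (k + 1))] [Subsingleton (L.X k)] : Cone f k :=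
  fun a b _ _ => ⟨0, 0, by rw [map_zero]; exact Subsingleton.elim _ _, Subsingleton.elim (α := L.X k) _ _⟩

section Homology

variable (M : CochainComplex AddCommGrpCat.{u} ℤ)

theorem exists_cycle {n : ℤ} (x : M.X n) (hx : M.d n (n + 1) x = 0) : ∃ z : M.cycles n, M.iCycles n z = x :=
  (ShortComplex.ab_exact_iff _).1 (ShortComplex.exact_of_f_is_kernel
    (ShortComplex.mk (M.iCycles n) (M.d n (n + 1)) (M.iCycles_d n (n + 1))) (M.cyclesIsKernel n (n + 1) (by simp))) x hx

theorem iCycles_d_apply {n : ℤ} (z : M.cycles n) : M.d n (n + 1) (M.iCycles n z) = 0 := by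
  rw [← ConcreteCategory.comp_apply, HomologicalComplex.iCycles_d]
  rfl

theorem iCycles_injective (n : ℤ) : Function.Injective (M.iCycles n) :=
  (AddCommGrpCat.mono_iff_injective _).1 inferInstance

theorem homologyπ_surjective (n : ℤ) : Function.Surjective (M.homologyπ n) :=
  (AddCommGrpCat.epi_iff_surjective _).1 inferInstance

theorem homologyπ_eq_zero_iff {n j : ℤ} (hj : j + 1 = n) (z : M.cycles n) :
    M.homologyπ n z = 0 ↔ ∃ a : M.X j, M.iCycles n z = M.d j n a := by
  have hprev : (ComplexShape.up ℤ).prev n = j := by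
    rw [CochainComplex.prev]
    omega
  have key : ∀ a : M.X j, M.iCycles n (M.toCycles j n a) = M.d j n a := fun a => by
    rw [← ConcreteCategory.comp_apply, HomologicalComplex.toCycles_i]
  constructor
  · intro h
    obtain ⟨a, rfl⟩ := (ShortComplex.ab_exact_iff _).1 (ShortComplex.exact_of_g_is_cokernel
      (ShortComplex.mk _ _ (M.toCycles_comp_homologyπ j n)) (M.homologyIsCokernel j n hprev)) z h
    exact ⟨a, key a⟩
  · rintro ⟨a, ha⟩
    obtain rfl : z = M.toCycles j n a := iCycles_injective M n (ha.trans (key a).symm)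
    rw [← ConcreteCategory.comp_apply, HomologicalComplex.toCycles_comp_homologyπ]
    rfl

end Homology

theorem quasiIsoAt_iff_hIso (n : ℤ) : QuasiIsoAt f n ↔ SurjH f n ∧ InjH f n := by
  rw [quasiIsoAt_iff_isIso_homologyMap, ConcreteCategory.isIso_iff_bijective]
  have hnat : ∀ z : K.cycles n, HomologicalComplex.homologyMap f n (K.homologyπ n z) =
      L.homologyπ n (HomologicalComplex.cyclesMap f n z) := fun z => by
    rw [← ConcreteCategory.comp_apply, ← ConcreteCategory.comp_apply, HomologicalComplex.homologyπ_naturality]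
  have hi : ∀ z : K.cycles n, L.iCycles n (HomologicalComplex.cyclesMap f n z) = f.f n (K.iCycles n z) := fun z => by
    rw [← ConcreteCategory.comp_apply, ← ConcreteCategory.comp_apply, HomologicalComplex.cyclesMap_i]
  constructor
  · intro h
    refine ⟨fun y hy j hj => ?_, fun x hx j b hj e => ?_⟩
    · obtain ⟨w, rfl⟩ := exists_cycle L y hy
      obtain ⟨c, hc⟩ := h.2 (L.homologyπ n w)
      obtain ⟨z, rfl⟩ := homologyπ_surjective K n c
      rw [hnat] at hc
      obtain ⟨b, hb⟩ := (homologyπ_eq_zero_iff L hj (w - HomologicalComplex.cyclesMap f n z)).1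
        (by rw [map_sub, ← hc, sub_self])
      refine ⟨K.iCycles n z, iCycles_d_apply K z, b, ?_⟩
      rw [← hb, map_sub, hi, add_sub_cancel]
    · obtain ⟨z, rfl⟩ := exists_cycle K x hx
      refine (homologyπ_eq_zero_iff K hj z).1 (h.1 ?_)
      rw [hnat, map_zero, homologyπ_eq_zero_iff L hj]
      exact ⟨b, (hi z).trans e⟩
  · rintro ⟨hS, hI⟩
    refine ⟨(injective_iff_map_eq_zero _).2 fun c hc => ?_, fun c => ?_⟩
    · obtain ⟨z, rfl⟩ := homologyπ_surjective K n c
      rw [hnat, homologyπ_eq_zero_iff L (sub_add_cancel n 1)] at hc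
      obtain ⟨b, hb⟩ := hc
      exact (homologyπ_eq_zero_iff K (sub_add_cancel n 1) z).2
        (hI _ (iCycles_d_apply K z) _ b (sub_add_cancel n 1) ((hi z).symm.trans hb))
    · obtain ⟨w, rfl⟩ := homologyπ_surjective L n c
      obtain ⟨x, hx, b, hb⟩ := hS _ (iCycles_d_apply L w) (n - 1) (sub_add_cancel n 1)
      obtain ⟨z, rfl⟩ := exists_cycle K x hx
      refine ⟨K.homologyπ n z, ?_⟩
      rw [hnat, ← sub_eq_zero, ← map_sub, homologyπ_eq_zero_iff L (sub_add_cancel n 1)]
      refine ⟨-b, ?_⟩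
      rw [map_sub, map_neg, hi, hb]
      abel

theorem cone_of_quasiIsoAt {k : ℤ} [QuasiIsoAt f k] [QuasiIsoAt f (k + 1)] : Cone f k :=
  cone_of f ((quasiIsoAt_iff_hIso f (k + 1)).1 inferInstance).2 ((quasiIsoAt_iff_hIso f k).1 inferInstance).1

theorem quasiIsoAt_of_cone {n : ℤ} (h₁ : Cone f n) (h₂ : Cone f (n - 1)) : QuasiIsoAt f n :=
  (quasiIsoAt_iff_hIso f n).2 ⟨surjH_of_cone f h₁, by
    have := injH_of_cone f h₂
    rwa [sub_add_cancel] at this⟩

theorem quasiIso_iff_cone : QuasiIso f ↔ ∀ k, Cone f k :=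
  ⟨fun _ _ => cone_of_quasiIsoAt f, fun h => (quasiIso_iff f).2 fun n => quasiIsoAt_of_cone f (h n) (h (n - 1))⟩

/-- A map with an inverse in cohomology is a quasi-isomorphism. -/
theorem quasiIso_of_inverse (g : L ⟶ K)
    (h₁ : ∀ (n j : ℤ), j + 1 = n → ∀ x : K.X n, K.d n (n + 1) x = 0 → ∃ a : K.X j, g.f n (f.f n x) = x + K.d j n a)
    (h₂ : ∀ (n j : ℤ), j + 1 = n → ∀ y : L.X n, L.d n (n + 1) y = 0 → ∃ b : L.X j, f.f n (g.f n y) = y + L.d j n b) :
    QuasiIso f := by
  refine (quasiIso_iff f).2 fun n => (quasiIsoAt_iff_hIso f n).2 ⟨fun y hy j hj => ?_, fun x hx j b hj e => ?_⟩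
  · obtain ⟨b, hb⟩ := h₂ n j hj y hy
    refine ⟨g.f n y, by rw [← comm_apply g, hy, map_zero], -b, ?_⟩
    rw [hb, map_neg, add_neg_cancel_right]
  · obtain ⟨a, ha⟩ := h₁ n j hj x hx
    refine ⟨g.f j b - a, ?_⟩
    rw [e, comm_apply g] at ha
    rw [map_sub, ha, add_sub_cancel_right]

section Columns

variable {E F : DC.{u}}

/-- A family concentrated in one bidegree. -/
noncomputable abbrev sing (E : DC.{u}) (i : ℕ) (k : ℤ) (z : (E.X i).X k) : All E := Pi.single i (Pi.single k z)

theorem sing_mem (i : ℕ) (k : ℤ) (z : (E.X i).X k) {n : ℤ} (h : (i : ℤ) + k = n) : sing E i k z ∈ TX E n :=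
  fun j l hjl => by
    rcases eq_or_ne j i with rfl | hj
    · rw [sing, Pi.single_eq_same, Pi.single_eq_of_ne]
      omega
    · rw [sing, Pi.single_eq_of_ne hj]
      rfl

theorem sing_of_ne {i j : ℕ} (h : j ≠ i) (k l : ℤ) (z : (E.X i).X k) : sing E i k z j l = 0 := by
  rw [sing, Pi.single_eq_of_ne h]
  rfl

theorem D_sing_of_lt {i j : ℕ} (h : j < i) (k l : ℤ) (z : (E.X i).X k) : D E (sing E i k z) j l = 0 := by
  rw [D_apply, sing_of_ne (by omega), sing_of_ne (by omega), map_zero, smul_zero, map_zero, add_zero]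

theorem D_sing_self (i : ℕ) (k : ℤ) (z : (E.X i).X k) :
    D E (sing E i k z) i (k + 1) = sgn i • (E.X i).d k (k + 1) z := by
  have hdh : ∀ l, (E.d (i - 1) i).f l (sing E i k z (i - 1) l) = 0 := fun l => by
    cases i with
    | zero => exact dh_zero E l _
    | succ i =>
      show (E.d i (i + 1)).f l (sing E (i + 1) k z i l) = 0
      rw [sing_of_ne (by omega), map_zero]
  rw [D_apply, hdh, add_zero, add_sub_cancel_right, sing, Pi.single_eq_same, Pi.single_eq_same]

theorem eq_on_column {n : ℤ} {x y : All E} (hx : x ∈ TX E n) (hy : y ∈ TX E n) (i : ℕ) {k : ℤ} (hk : (i : ℤ) + k = n)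
    (h : x i k = y i k) (l : ℤ) : x i l = y i l := by
  rcases eq_or_ne l k with rfl | hl
  · exact h
  · rw [hx i l (by omega), hy i l (by omega)]

variable (φ : E ⟶ F)

/-- A partial solution of the cone equations. -/
structure Part (n : ℤ) (A : All E) (B : All F) (N : ℕ) where
  /-- The first component. -/
  a : All E
  /-- The second component. -/
  b : All F
  ha : a ∈ TX E n
  hb : b ∈ TX F (n - 1)
  a_zero : ∀ i, N ≤ i → ∀ k, a i k = 0
  b_zero : ∀ i, N ≤ i → ∀ k, b i k = 0
  eqA : ∀ i, i < N → ∀ k, D E a i k = A i k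
  eqB : ∀ i, i < N → ∀ k, D F b i k = B i k + (φ.f i).f k (a i k)

theorem exists_step {n : ℤ} {A : All E} {B : All F} (hA : A ∈ TX E (n + 1)) (hB : B ∈ TX F n) (hDA : D E A = 0)
    (hAB : mapAll φ A + D F B = 0) (h : ∀ i : ℕ, Cone (φ.f i) (n - i)) {N : ℕ} (p : Part φ n A B N) :
    ∃ q : Part φ n A B (N + 1), ∀ i, i < N → ∀ k, q.a i k = p.a i k ∧ q.b i k = p.b i k := by
  let m : ℤ := n - N
  let pa := D E p.a N (m + 1)
  let pb := D F p.b N m
  have hpa : pa = (E.d (N - 1) N).f (m + 1) (p.a (N - 1) (m + 1)) := by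
    show D E p.a N (m + 1) = _
    rw [D_apply, p.a_zero N le_rfl, map_zero, smul_zero, zero_add]
  have hdA : (E.d (N - 1) N).f (m + 1 + 1) (D E p.a (N - 1) (m + 1 + 1)) =
      (E.d (N - 1) N).f (m + 1 + 1) (A (N - 1) (m + 1 + 1)) := by
    cases N with
    | zero => rw [dh_zero, dh_zero]
    | succ N => rw [p.eqA (N + 1 - 1) (by omega)]
  have hdB : (F.d (N - 1) N).f (m + 1) (D F p.b (N - 1) (m + 1)) =
      (F.d (N - 1) N).f (m + 1) (B (N - 1) (m + 1)) + (φ.f N).f (m + 1) pa := by
    cases N with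
    | zero => rw [hpa, dh_zero, dh_zero, dh_zero, map_zero, add_zero]
    | succ N => rw [p.eqB (N + 1 - 1) (by omega), map_add, hpa, ← map_dh]
  have hc₁ : (E.X N).d (m + 1) (m + 1 + 1) (A N (m + 1) - pa) = 0 := by
    have e := congr_fun (congr_fun (D_D p.a) N) (m + 1 + 1)
    have e' := congr_fun (congr_fun hDA N) (m + 1 + 1)
    rw [D_apply, add_sub_cancel_right, hdA] at e
    rw [D_apply, add_sub_cancel_right] at e'
    have : sgn N • (E.X N).d (m + 1) (m + 1 + 1) (A N (m + 1) - pa) = 0 := by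
      rw [map_sub, smul_sub, sub_eq_zero]
      exact (add_left_injective _ ((show _ + _ = (0 : (E.X N).X (m + 1 + 1)) from e').trans
        (show _ + _ = (0 : (E.X N).X (m + 1 + 1)) from e).symm))
    have h2 := congrArg (sgn N • ·) this
    simpa only [smul_smul, sgn_mul_sgn, one_zsmul, smul_zero] using h2
  have hc₂ : (φ.f N).f (m + 1) (A N (m + 1) - pa) + (F.X N).d m (m + 1) (sgn N • (B N m - pb)) = 0 := by
    have e := congr_fun (congr_fun (D_D p.b) N) (m + 1)
    have e' := congr_fun (congr_fun hAB N) (m + 1)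
    rw [D_apply, add_sub_cancel_right, hdB] at e
    rw [Pi.add_apply, Pi.add_apply, mapAll_apply, D_apply, add_sub_cancel_right] at e'
    rw [map_sub, map_zsmul, map_sub, smul_sub]
    have e1 : sgn N • (F.X N).d m (m + 1) pb + ((F.d (N - 1) N).f (m + 1) (B (N - 1) (m + 1)) +
        (φ.f N).f (m + 1) pa) = 0 := e
    have e2 : (φ.f N).f (m + 1) (A N (m + 1)) + (sgn N • (F.X N).d m (m + 1) (B N m) +
        (F.d (N - 1) N).f (m + 1) (B (N - 1) (m + 1))) = 0 := e'
    refine Eq.trans ?_ ((congrArg₂ (· - ·) e2 e1).trans (sub_zero 0))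
    abel
  obtain ⟨a', b', ha', hb'⟩ := h N (A N (m + 1) - pa) (sgn N • (B N m - pb)) hc₁ hc₂
  have hsa : sing E N m (sgn N • a') ∈ TX E n := sing_mem N m _ (by omega)
  have hsb : sing F N (m - 1) b' ∈ TX F (n - 1) := sing_mem N (m - 1) _ (by omega)
  have e1 : D E (sing E N m (sgn N • a')) N (m + 1) = A N (m + 1) - pa := by
    rw [D_sing_self, map_zsmul, smul_smul, sgn_mul_sgn, one_zsmul]
    exact ha'
  have e2 : D F (sing F N (m - 1) b') N m = B N m - pb + (φ.f N).f m (sgn N • a') := by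
    have := D_sing_self (E := F) N (m - 1) b'
    rw [sub_add_cancel] at this
    rw [this, ← hb', smul_add, smul_smul, sgn_mul_sgn, one_zsmul, map_zsmul]
  let qa : All E := p.a + sing E N m (sgn N • a')
  let qb : All F := p.b + sing F N (m - 1) b'
  have hqa : qa ∈ TX E n := add_mem p.ha hsa
  have hqb : qb ∈ TX F (n - 1) := add_mem p.hb hsb
  refine ⟨⟨qa, qb, hqa, hqb, fun i hi k => ?_, fun i hi k => ?_, fun i hi k => ?_, fun i hi k => ?_⟩,
    fun i hi k => ⟨?_, ?_⟩⟩
  · show p.a i k + sing E N m (sgn N • a') i k = 0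
    rw [p.a_zero i (by omega), sing_of_ne (by omega), add_zero]
  · show p.b i k + sing F N (m - 1) b' i k = 0
    rw [p.b_zero i (by omega), sing_of_ne (by omega), add_zero]
  · rcases Nat.lt_succ_iff_lt_or_eq.1 hi with hi | rfl
    · rw [map_add]
      show D E p.a i k + D E (sing E N m (sgn N • a')) i k = A i k
      rw [p.eqA i hi, D_sing_of_lt hi, add_zero]
    · refine eq_on_column (D_mem E hqa rfl) hA i (k := n - i + 1) (by omega) ?_ k
      rw [map_add]
      show pa + _ = _
      rw [e1, add_sub_cancel]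
  · rcases Nat.lt_succ_iff_lt_or_eq.1 hi with hi | rfl
    · rw [map_add]
      show D F p.b i k + D F (sing F N (m - 1) b') i k = B i k + (φ.f i).f k (p.a i k + sing E N m (sgn N • a') i k)
      rw [p.eqB i hi, D_sing_of_lt hi, sing_of_ne (by omega), add_zero, add_zero]
    · refine eq_on_column (D_mem F hqb (sub_add_cancel n 1))
        (add_mem hB (mapAll_mem φ hqa)) i (k := n - i) (by omega) ?_ k
      rw [map_add]
      show pb + _ = B i m + (φ.f i).f m (p.a i m + sing E i m (sgn i • a') i m)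
      rw [e2, p.a_zero i le_rfl, zero_add, sing, Pi.single_eq_same, Pi.single_eq_same]
      abel
  · show p.a i k + sing E N m (sgn N • a') i k = _
    rw [sing_of_ne (by omega), add_zero]
  · show p.b i k + sing F N (m - 1) b' i k = _
    rw [sing_of_ne (by omega), add_zero]

/-- Exactness of the cone is checked on columns. -/
theorem cone_totMap (n : ℤ) (h : ∀ i : ℕ, Cone (φ.f i) (n - i)) : Cone (totMap φ) n := by
  rintro ⟨A, hA⟩ ⟨B, hB⟩ hDA hAB
  have hDA' : D E A = 0 := (tot_d_val E rfl _).symm.trans (congrArg Subtype.val hDA)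
  have hAB' : mapAll φ A + D F B = 0 := by
    have := congrArg Subtype.val hAB
    exact (congrArg (mapAll φ A + ·) (tot_d_val F rfl (⟨B, hB⟩ : TX F n)).symm).trans this
  choose next hnext using fun N (p : Part φ n A B N) => exists_step φ hA hB hDA' hAB' h p
  let p₀ : Part φ n A B 0 := ⟨0, 0, zero_mem _, zero_mem _, fun _ _ _ => rfl, fun _ _ _ => rfl,
    fun i hi => absurd hi (Nat.not_lt_zero i), fun i hi => absurd hi (Nat.not_lt_zero i)⟩
  let s : ∀ N, Part φ n A B N := fun N => Nat.rec p₀ next N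
  have hs : ∀ M N i, i < N → N ≤ M → ∀ k, (s M).a i k = (s N).a i k ∧ (s M).b i k = (s N).b i k := fun M N i hi hNM k => by
    induction hNM with
    | refl => exact ⟨rfl, rfl⟩
    | @step M hM ih =>
      exact ⟨((hnext M (s M) i (lt_of_lt_of_le hi hM) k).1).trans ih.1, ((hnext M (s M) i (lt_of_lt_of_le hi hM) k).2).trans ih.2⟩
  let a : All E := fun i k => (s (i + 1)).a i k
  let b : All F := fun i k => (s (i + 1)).b i k
  have ha : a ∈ TX E n := fun i k hik => (s (i + 1)).ha i k hik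
  have hb : b ∈ TX F (n - 1) := fun i k hik => (s (i + 1)).hb i k hik
  have hDa : ∀ i k, D E a i k = D E (s (i + 1)).a i k := fun i k => by
    rw [D_apply, D_apply, show a (i - 1) k = (s (i + 1)).a (i - 1) k from
      ((hs (i + 1) (i - 1 + 1) (i - 1) (by omega) (by omega) k).1).symm]
  have hDb : ∀ i k, D F b i k = D F (s (i + 1)).b i k := fun i k => by
    rw [D_apply, D_apply, show b (i - 1) k = (s (i + 1)).b (i - 1) k from
      ((hs (i + 1) (i - 1 + 1) (i - 1) (by omega) (by omega) k).2).symm]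
  refine ⟨⟨a, ha⟩, ⟨b, hb⟩, Subtype.ext ?_, Subtype.ext ?_⟩
  · exact (tot_d_val E rfl _).trans (funext fun i => funext fun k =>
      (hDa i k).trans ((s (i + 1)).eqA i (by omega) k))
  · refine Eq.trans ?_ (tot_d_val F (sub_add_cancel n 1) _).symm
    exact funext fun i => funext fun k => ((hDb i k).trans ((s (i + 1)).eqB i (by omega) k)).symm

end Columns

end Groth.L10.HDesc
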