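import Groth.Agent.L10.HDesc.Family

/-!
The system of inverse images of a sheaf on the base.
-/

universe u

open CategoryTheory CategoryTheory.Limits Opposite TopologicalSpace Groth.L09.SpaceSite

set_option backward.defeqAttrib.useBackward true
set_option backward.isDefEq.respectTransparency false
set_option backward.isDefEq.respectTransparency.types false
set_option autoImplicit false

namespace Groth.L10.HDesc

variable {S : TopCat.{u}} (L : CohTop.Ab S)

/-- A germ of the sheaf on the base. -/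
noncomputable abbrev gL (U : Opens S) (p : S) (hp : p ∈ U) (t : L.obj.obj (op U)) :
    TopCat.Presheaf.stalk (C := AddCommGrpCat.{u}) L.obj p :=
  TopCat.Presheaf.germ (C := AddCommGrpCat.{u}) L.obj U p hp t

/-- Families of germs along the structure map. -/
abbrev Fam (a : OpO S) : Type u :=
  ∀ (x : a.V) (p : {p : S // a.X.hom x.1 = p}), TopCat.Presheaf.stalk (C := AddCommGrpCat.{u}) L.obj p.1

/-- Locally the family comes from one section on the base. -/
def IsGood {a : OpO S} (s : Fam L a) : Prop :=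
  ∀ x : a.V, ∃ (W : Opens a.X.left) (_ : x.1 ∈ W) (U : Opens S) (t : L.obj.obj (op U)),
    ∀ (y : a.V), y.1 ∈ W → ∀ (p : S) (hp : a.X.hom y.1 = p), ∃ hU : p ∈ U, s y ⟨p, hp⟩ = gL L U p hU t

/-- Good families. -/
noncomputable def goodSub (a : OpO S) : AddSubgroup (Fam L a) where
  carrier := {s | IsGood L s}
  add_mem' {s s'} hs hs' x := by
    obtain ⟨W, hW, U, t, h⟩ := hs x
    obtain ⟨W', hW', U', t', h'⟩ := hs' x
    refine ⟨W ⊓ W', ⟨hW, hW'⟩, U ⊓ U', L.obj.map (homOfLE inf_le_left).op t + L.obj.map (homOfLE inf_le_right).op t',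
      fun y hy p hp => ?_⟩
    obtain ⟨hU, e⟩ := h y hy.1 p hp
    obtain ⟨hU', e'⟩ := h' y hy.2 p hp
    refine ⟨⟨hU, hU'⟩, ?_⟩
    rw [gL, map_add]
    exact (congrArg₂ (· + ·) e e').trans (congrArg₂ (· + ·)
      (TopCat.Presheaf.germ_res_apply (C := AddCommGrpCat.{u}) L.obj (homOfLE inf_le_left) p ⟨hU, hU'⟩ t).symm
      (TopCat.Presheaf.germ_res_apply (C := AddCommGrpCat.{u}) L.obj (homOfLE inf_le_right) p ⟨hU, hU'⟩ t').symm)
  zero_mem' x := ⟨⊤, trivial, ⊤, 0, fun y _ p hp => ⟨trivial, (map_zero _).symm⟩⟩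
  neg_mem' {s} hs x := by
    obtain ⟨W, hW, U, t, h⟩ := hs x
    refine ⟨W, hW, U, -t, fun y hy p hp => ?_⟩
    obtain ⟨hU, e⟩ := h y hy p hp
    refine ⟨hU, ?_⟩
    rw [gL, map_neg]
    exact congrArg Neg.neg e

/-- Restriction along a map of pairs. -/
noncomputable def famMap {a b : OpO S} (φ : a ⟶ b) : Fam L b →+ Fam L a :=
  AddMonoidHom.mk' (fun s x p => s ⟨(OpHom.f φ).left x.1, (OpHom.le φ) x.2⟩ ⟨p.1,
    (congrArg (fun g : a.X.left ⟶ S => g x.1) (Over.w (OpHom.f φ))).trans p.2⟩) (fun _ _ => rfl)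

theorem isGood_famMap {a b : OpO S} (φ : a ⟶ b) {s : Fam L b} (hs : IsGood L s) : IsGood L (famMap L φ s) := fun x => by
  obtain ⟨W, hW, U, t, h⟩ := hs ⟨(OpHom.f φ).left x.1, (OpHom.le φ) x.2⟩
  exact ⟨(Opens.map (OpHom.f φ).left).obj W, hW, U, t, fun y hy p hp => h ⟨_, (OpHom.le φ) y.2⟩ hy p _⟩

/-- The system of inverse images. -/
@[reducible] noncomputable def PL : Sys S where
  obj a := AddCommGrpCat.of (goodSub L a.unop)
  map {b a} φ := AddCommGrpCat.ofHom (AddMonoidHom.mk' (fun s => (⟨famMap L φ.unop s.1, isGood_famMap L φ.unop s.2⟩ : goodSub L a.unop))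
    (fun _ _ => rfl))
  map_id _ := rfl
  map_comp _ _ := rfl

theorem PL_res_apply {X : Over S} {V W : Opens X.left} (h : W ≤ V) (s : goodSub L ⟨X, V⟩) (x : W) (p : S) (hp : X.hom x.1 = p) :
    (((PL L).map ((inX X).map (homOfLE h)).op s : goodSub L ⟨X, W⟩).1 x ⟨p, hp⟩) = s.1 ⟨x.1, h x.2⟩ ⟨p, hp⟩ := rfl

theorem isSheafSys_PL : IsSheafSys (PL L) := fun X => by
  rw [TopCat.Presheaf.isSheaf_iff_isSheafUniqueGluing]
  intro ι U sf hsf
  have hsup : ∀ x : (iSup U : Opens X.left), ∃ i, x.1 ∈ U i := fun x => Opens.mem_iSup.1 x.2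
  choose i hi using hsup
  have key : ∀ (j : ι) (x : X.left) (hj : x ∈ U j) (h : x ∈ iSup U) (p : S) (hp : X.hom x = p),
      (sf (i ⟨x, h⟩) : goodSub L ⟨X, U (i ⟨x, h⟩)⟩).1 ⟨x, hi ⟨x, h⟩⟩ ⟨p, hp⟩ = (sf j : goodSub L ⟨X, U j⟩).1 ⟨x, hj⟩ ⟨p, hp⟩ :=
    fun j x hj h p hp => congrArg (fun z : goodSub L ⟨X, U (i ⟨x, h⟩) ⊓ U j⟩ => z.1 ⟨x, ⟨hi ⟨x, h⟩, hj⟩⟩ ⟨p, hp⟩) (hsf (i ⟨x, h⟩) j)
  let s : Fam L ⟨X, iSup U⟩ := fun x p => (sf (i x) : goodSub L ⟨X, U (i x)⟩).1 ⟨x.1, hi x⟩ p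
  have hs : IsGood L s := fun x => by
    obtain ⟨W, hW, U', t, h⟩ := (sf (i x) : goodSub L ⟨X, U (i x)⟩).2 ⟨x.1, hi x⟩
    refine ⟨W ⊓ U (i x), ⟨hW, hi x⟩, U', t, fun y hy p hp => ?_⟩
    obtain ⟨hU, e⟩ := h ⟨y.1, hy.2⟩ hy.1 p hp
    exact ⟨hU, (key (i x) y.1 hy.2 y.2 p hp).trans e⟩
  refine ⟨(⟨s, hs⟩ : goodSub L ⟨X, iSup U⟩), fun j => ?_, fun t ht => ?_⟩
  · exact Subtype.ext (funext fun x => funext fun p => key j x.1 x.2 (le_iSup U j x.2) p.1 p.2)
  · exact Subtype.ext (funext fun x => funext fun p =>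
      congrArg (fun z : goodSub L ⟨X, U (i x)⟩ => z.1 ⟨x.1, hi x⟩ p) (ht (i x)))

/-- The value at a point, as a cocone. -/
@[reducible] noncomputable def evCocone (X : Over S) (x : X.left) (p : S) (hp : X.hom x = p) :
    Cocone ((OpenNhds.inclusion x).op ⋙ res (PL L) X) where
  pt := TopCat.Presheaf.stalk (C := AddCommGrpCat.{u}) L.obj p
  ι :=
    { app := fun W => AddCommGrpCat.ofHom (AddMonoidHom.mk'
        (fun s : goodSub L ⟨X, W.unop.1⟩ => s.1 ⟨x, W.unop.2⟩ ⟨p, hp⟩) (fun _ _ => rfl))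
      naturality := fun W W' f => rfl }

/-- The value at a point. -/
noncomputable def evP (X : Over S) (x : X.left) (p : S) (hp : X.hom x = p) :
    (res (PL L) X).stalk x ⟶ TopCat.Presheaf.stalk (C := AddCommGrpCat.{u}) L.obj p :=
  colimit.desc _ (evCocone L X x p hp)

theorem evP_gm (X : Over S) (V : Opens X.left) (x : X.left) (hx : x ∈ V) (p : S) (hp : X.hom x = p)
    (s : goodSub L ⟨X, V⟩) : evP L X x p hp (gm (PL L) ⟨X, V⟩ x hx s) = s.1 ⟨x, hx⟩ ⟨p, hp⟩ :=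
  congr($(colimit.ι_desc (evCocone L X x p hp) (op ⟨V, hx⟩)) s)

theorem isGood_const (X : Over S) (U : Opens S) (t : L.obj.obj (op U)) :
    IsGood L (a := ⟨X, (Opens.map X.hom).obj U⟩) (fun y p => gL L U p.1 (p.2 ▸ y.2) t) :=
  fun _ => ⟨⊤, trivial, U, t, fun y _ p hp => ⟨hp ▸ y.2, rfl⟩⟩

theorem bijective_evP (X : Over S) (x : X.left) (p : S) (hp : X.hom x = p) : Function.Bijective (evP L X x p hp) := by
  refine ⟨(injective_iff_map_eq_zero (evP L X x p hp).hom).2 fun z hz => ?_, fun w => ?_⟩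
  · obtain ⟨V, hx, s, rfl⟩ := exists_gm (PL L) X x z
    replace hz : (s : goodSub L ⟨X, V⟩).1 ⟨x, hx⟩ ⟨p, hp⟩ = 0 := (evP_gm L X V x hx p hp s).symm.trans hz
    obtain ⟨W, hW, U, t, h⟩ := (s : goodSub L ⟨X, V⟩).2 ⟨x, hx⟩
    obtain ⟨hU, e⟩ := h ⟨x, hx⟩ hW p hp
    obtain ⟨U', hU', i₁, i₂, e'⟩ := TopCat.Presheaf.germ_eq (C := AddCommGrpCat.{u}) L.obj p hU hU t 0
      ((e.symm.trans hz).trans (map_zero _).symm)
    let W' : Opens X.left := V ⊓ W ⊓ (Opens.map X.hom).obj U'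
    have hW' : x ∈ W' := ⟨⟨hx, hW⟩, show X.hom x ∈ U' from hp.symm ▸ hU'⟩
    have h0 : (PL L).map ((inX X).map (homOfLE (inf_le_left.trans inf_le_left : W' ≤ V))).op s = 0 := by
      refine Subtype.ext (funext fun y => funext fun q' => ?_)
      obtain ⟨q, hq⟩ := q'
      obtain ⟨hq', ey⟩ := h ⟨y.1, y.2.1.1⟩ y.2.1.2 q hq
      refine ey.trans ?_
      refine ((TopCat.Presheaf.germ_res_apply (C := AddCommGrpCat.{u}) L.obj i₁ q (hq ▸ y.2.2) t).symm.trans ?_)
      rw [e', map_zero, map_zero]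
      rfl
    refine (gm_res (PL L) (inf_le_left.trans inf_le_left : W' ≤ V) x hW' s).symm.trans ?_
    exact (congrArg (gm (PL L) ⟨X, W'⟩ x hW') h0).trans (map_zero _)
  · obtain ⟨U, hU, t, ht⟩ := TopCat.Presheaf.exists_germ_eq (C := AddCommGrpCat.{u}) L.obj w
    exact ⟨gm (PL L) ⟨X, (Opens.map X.hom).obj U⟩ x (show X.hom x ∈ U from hp.symm ▸ hU) (⟨fun y p => gL L U p.1 (p.2 ▸ y.2) t, isGood_const L X U t⟩ : goodSub L ⟨X, (Opens.map X.hom).obj U⟩),
      (evP_gm L X _ x _ p hp _).trans ht⟩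

theorem evP_stalkMap {X X' : Over S} (f : X ⟶ X') (x : X.left) (p : S) (hp : X.hom x = p) (hp' : X'.hom (f.left x) = p)
    (z : (res (PL L) X').stalk (f.left x)) : evP L X x p hp (stalkMap (PL L) f x z) = evP L X' (f.left x) p hp' z := by
  obtain ⟨V, hx, s, rfl⟩ := exists_gm (PL L) X' (f.left x) z
  rw [stalkMap_gm (PL L) (b := ⟨X', V⟩) f x hx s]
  exact (evP_gm L X _ x hx p hp _).trans (evP_gm L X' V (f.left x) hx p hp' s).symm

theorem cart_PL : Cart (PL L) := fun X X' f x => by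
  have hp' : X'.hom (f.left x) = X.hom x := congrArg (fun g : X.left ⟶ S => g x) (Over.w f)
  refine (Function.Bijective.of_comp_iff' (bijective_evP L X x _ rfl) _).1 ?_
  rw [show (evP L X x _ rfl : _ → _) ∘ stalkMap (PL L) f x = evP L X' (f.left x) _ hp' from
    funext fun z => evP_stalkMap L f x _ rfl hp' z]
  exact bijective_evP L X' (f.left x) _ hp'

/-- A sheaf maps to its system on the identity. -/
noncomputable def tauL (h : S ⟶ S) (hh : ∀ y, h y = y) : L ⟶ QSh (isSheafSys_PL L) (Over.mk h) :=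
  ObjectProperty.homMk
    { app := fun V => AddCommGrpCat.ofHom (AddMonoidHom.mk'
        (fun t => (⟨fun y p => gL L V.unop p.1 (((hh y.1).symm.trans p.2) ▸ y.2) t,
          fun _ => ⟨⊤, trivial, V.unop, t, fun y _ p hp => ⟨((hh y.1).symm.trans hp) ▸ y.2, rfl⟩⟩⟩ :
            goodSub L ⟨Over.mk h, V.unop⟩))
        (fun t t' => Subtype.ext (funext fun y => funext fun p => map_add _ t t')))
      naturality := fun V W f => AddCommGrpCat.hom_ext (AddMonoidHom.ext fun t =>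
        Subtype.ext (funext fun y => funext fun p => TopCat.Presheaf.germ_res_apply _ f.unop p.1 _ t)) }

theorem isIso_tauL (h : S ⟶ S) (hh : ∀ y, h y = y) : IsIso (tauL L h hh) := by
  have : ∀ x : S, IsIso ((TopCat.Presheaf.stalkFunctor AddCommGrpCat.{u} x).map (tauL L h hh).hom) := fun x => by
    rw [ConcreteCategory.isIso_iff_bijective]
    have hb := bijective_evP L (Over.mk h) x x (hh x)
    refine (Function.Bijective.of_comp_iff' hb _).1 ?_
    convert Function.bijective_id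
    funext z
    obtain ⟨V, hV, t, rfl⟩ := TopCat.Presheaf.exists_germ_eq (C := AddCommGrpCat.{u}) L.obj z
    refine (congrArg (evP L (Over.mk h) x x (hh x)) (TopCat.Presheaf.stalkFunctor_map_germ_apply V x hV (tauL L h hh).hom t)).trans ?_
    exact evP_gm L (Over.mk h) V x hV x (hh x) _
  exact TopCat.Presheaf.isIso_of_stalkFunctor_map_iso (X := S) (C := AddCommGrpCat.{u}) (F := L)
    (G := QSh (isSheafSys_PL L) (Over.mk h)) (tauL L h hh)

/-- Every sheaf on the base of a family comes from a system. -/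
theorem exists_sys (Y : (WithInitial SimplexCategory)ᵒᵖ ⥤ TopCat.{u}) (L : CohTop.Ab (Proper.base Y)) :
    ∃ (Q : Sys (Proper.base Y)) (hQ : IsSheafSys Q), Cart Q ∧ Nonempty (QSh hQ (btO Y (𝟙 (Proper.base Y))) ≅ L) := by
  have hh : ∀ y : Proper.base Y,
      (Y.map (Groth.L10.Descent.toBot (FibDesc.bot SimplexCategory)) ≫ 𝟙 (Proper.base Y)) y = y := fun y => by
    rw [show Y.map (Groth.L10.Descent.toBot (FibDesc.bot SimplexCategory)) = 𝟙 (Proper.base Y) from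
      (congrArg Y.map ((subsingleton_toBot _).elim _ (𝟙 _))).trans (Y.map_id _), Category.comp_id]
    rfl
  have := isIso_tauL L _ hh
  exact ⟨PL L, isSheafSys_PL L, cart_PL L, ⟨(asIso (tauL L _ hh)).symm⟩⟩

end Groth.L10.HDesc
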