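import Groth.Agent.L10.HDesc.Transfer
import Groth.Agent.L10.HDesc.Cosk
import Groth.Agent.L10.HDesc.PL
import Mathlib.CategoryTheory.Limits.Constructions.Over.Connected
import Mathlib.Topology.Category.TopCat.Limits.Basic

/-!
Hypercoverings for universal cohomological descent are of cohomological descent.
-/

universe u

open CategoryTheory CategoryTheory.Limits Opposite Simplicial TopologicalSpace AlgebraicTopology

set_option backward.defeqAttrib.useBackward true
set_option backward.isDefEq.respectTransparency false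
set_option backward.isDefEq.respectTransparency.types false
set_option autoImplicit false

namespace Groth.L10.HDesc

variable {S : TopCat.{u}}

/-- Maps over the base universally of descent. -/
def UD (S : TopCat.{u}) : MorphismProperty (Over S) := fun _ _ f => FibDesc.IsUnivCohDescentMap f.left

instance : (UD S).IsStableUnderBaseChange where
  of_isPullback {_ _ _ _ _ _ _ _} sq hg := L09.UnivDescent.isUnivCohDescentMap_of_isPullback hg (sq.map (Over.forget S))

instance : (UD S).IsMultiplicative where
  id_mem _ := Groth.Agent.S13517.result _ (𝟙 _) (Category.comp_id _)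
  comp_mem _ _ hf hg := L09.UnivDescent.comp hf hg

/-- The base, as a terminal object. -/
noncomputable abbrev topO (S : TopCat.{u}) : Over S := Over.mk (𝟙 S)

/-- The map to the constant simplicial object on the base. -/
noncomputable def toTopO (K : SimplicialObject (Over S)) : K ⟶ (SimplicialObject.const (Over S)).obj (topO S) where
  app i := Over.mkIdTerminal.from (K.obj i)
  naturality _ _ _ := Over.mkIdTerminal.hom_ext _ _

theorem toTopO_unique {K : SimplicialObject (Over S)} (η : K ⟶ (SimplicialObject.const (Over S)).obj (topO S)) :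
    η = toTopO K := NatTrans.ext (funext fun _ => Over.mkIdTerminal.hom_ext _ _)

variable {Q : Sys S} (hQ : IsSheafSys Q) (hC : Cart Q) (U : Opens S)

include hQ hC in
theorem step {K A B : SimplicialObject (Over S)} {M : ℕ} (dA : CoskData K M A) (dB : CoskData K (M + 1) B) (eA : K ⟶ A)
    (hA : ∀ {m j : SimplexCategory} (h : j.len < M) (θ : j ⟶ m), eA.app (op m) ≫ dA.cp h θ = K.map θ.op)
    (hv : UD S (eA.app (op ⦋M⦌))) (h : QuasiIso (aug (GU Q U) (toTopO A))) : QuasiIso (aug (GU Q U) (toTopO B)) := by
  have hu := quasiIso_Ts_map_of_levelwise (GU Q U) (u := uMap dA dB) (GU_subsingleton Q U) (homotopyLift_uMap dA dB)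
    (fun m => quasiIso_aug_cech ((uMap dA dB).app m) (property_uMap dA dB (UD S) eA hA hv m) hQ hC U)
  have e := aug_natural (GU Q U) (toTopO A) (toTopO B) (uMap dA dB) (𝟙 _)
    ((toTopO_unique _).trans (toTopO_unique _).symm)
  rw [op_id] at e
  replace e := e.trans ((congrArg (· ≫ _) ((GU Q U).map_id _)).trans (Category.id_comp _))
  rw [← e]
  infer_instance

variable [∀ (n : ℕ) (F : (SimplexCategory.Truncated n)ᵒᵖ ⥤ Over S),
  (SimplexCategory.Truncated.inclusion n).op.HasPointwiseRightKanExtension F]
  (K : SimplicialObject (Over S)) (h0 : FibDesc.IsUnivCohDescentMap (K.obj (op ⦋0⦌)).hom)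
  (hn : ∀ n : ℕ, FibDesc.IsUnivCohDescentMap
    (((SimplicialObject.coskAdj n).unit.app K).app (op ⦋n + 1⦌)).left)

include hQ hC h0 hn in
theorem quasiIso_aug_cosk : ∀ n : ℕ, QuasiIso (aug (GU Q U) (toTopO ((SimplicialObject.cosk n).obj K))) := by
  intro n
  induction n with
  | zero =>
    refine step hQ hC U (coskDataZero K Over.mkIdTerminal) (coskDataOf K 0) (toTopO K)
      (fun h _ => absurd h (Nat.not_lt_zero _)) ?_ ?_
    · show FibDesc.IsUnivCohDescentMap ((toTopO K).app (op ⦋0⦌)).left
      rw [show ((toTopO K).app (op ⦋0⦌)).left = (K.obj (op ⦋0⦌)).hom from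
        (Category.comp_id _).symm.trans (Over.w ((toTopO K).app (op ⦋0⦌)))]
      exact h0
    have hG : ∀ k, k < 0 → Subsingleton (((GU Q U).obj (op (topO S))).X k) := fun k hk => GU_subsingleton Q U _ k hk
    let M := (GU Q U).obj (op (topO S))
    have e : gx (GU Q U) ((SimplicialObject.const (Over S)).obj (topO S)) = (CosimplicialObject.const _).obj M :=
      CategoryTheory.Functor.ext (fun _ => rfl) (fun X Y f => by
        simp only [eqToHom_refl, Category.comp_id, Category.id_comp]
        exact (GU Q U).map_id _)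
    let ε : gx (GU Q U) ((SimplicialObject.const (Over S)).obj (topO S)) ≅ (CosimplicialObject.const _).obj M :=
      NatIso.ofComponents (fun _ => Iso.refl _) (fun f => by
        refine (Category.comp_id _).trans (Eq.trans ?_ (Category.id_comp _).symm)
        exact (GU Q U).map_id _)
    have hr := (rowExact_const M).quasiIso_totAug 0 fun _ k hk => hG k hk
    have e : aug (GU Q U) (toTopO ((SimplicialObject.const (Over S)).obj (topO S))) ≫ totMap (dcF.map ε.hom) =
        totAug (E := constDC M) (𝟙 M) (rowExact_const M).zero :=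
      (totAug_totMap (E := dcF.obj (gx (GU Q U) _)) (F := constDC M) (dcF.map ε.hom) _ (𝟙 M) _ (rowExact_const M).zero (𝟙 _) (by
        show (GU Q U).map _ ≫ 𝟙 _ = 𝟙 _ ≫ 𝟙 _
        rw [show (toTopO ((SimplicialObject.const (Over S)).obj (topO S))).app (op ⦋0⦌) = 𝟙 (topO S) from
          Over.mkIdTerminal.hom_ext _ _]
        exact congrArg (· ≫ _) ((GU Q U).map_id _))).trans (Category.id_comp _)
    have : IsIso (totMap (dcF.map ε.hom)) := inferInstanceAs (IsIso (totF.map (dcF.map ε.hom)))
    rw [← quasiIso_iff_comp_right _ (totMap (dcF.map ε.hom)), e]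
    exact hr
  | succ n ih =>
    exact step hQ hC U (coskDataOf K n) (coskDataOf K (n + 1)) ((SimplicialObject.coskAdj n).unit.app K)
      (fun h θ => unit_cp K n h θ) (hn n) ih

include hQ hC h0 hn in
theorem quasiIso_aug_hyper : QuasiIso (aug (GU Q U) (toTopO K)) := by
  refine (quasiIso_iff _).2 fun n => ?_
  let N := (n + 1).toNat
  let eB := (SimplicialObject.coskAdj N).unit.app K
  have hiso : ∀ i, i ≤ N → IsIso (eB.app (op ⦋i⦌)) := fun i hi =>
    isIso_unit (coskDataOf K N) (fun h θ => unit_cp K N h θ) ⦋i⦌ (Nat.lt_succ_of_le hi)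
  have := quasiIso_aug_cosk hQ hC U K h0 hn N
  have := quasiIsoAt_Ts_map (GU Q U) (GU_subsingleton Q U) eB N hiso n (by omega)
  have e := aug_natural (GU Q U) (toTopO ((SimplicialObject.cosk N).obj K)) (toTopO K) eB (𝟙 _)
    ((toTopO_unique _).trans (toTopO_unique _).symm)
  rw [op_id] at e
  replace e := e.trans ((congrArg (· ≫ _) ((GU Q U).map_id _)).trans (Category.id_comp _))
  rw [← e]
  infer_instance

omit hQ hC in
include h0 hn in
/-- A hypercovering for universal descent is of descent. -/
theorem isCohDescentTop_hyper :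
    FibDesc.IsCohDescentTop
      (AugmentedSimplexCategory.equivAugmentedSimplicialObject.inverse.obj
        (SimplicialObject.augment (K ⋙ Over.forget S) S (K.obj (op (SimplexCategory.mk 0))).hom
          (fun i g₁ g₂ => (Over.w (K.map g₁.op)).trans (Over.w (K.map g₂.op)).symm))) := by
  let Y : (WithInitial SimplexCategory)ᵒᵖ ⥤ TopCat.{u} := AugmentedSimplexCategory.equivAugmentedSimplicialObject.inverse.obj
    (SimplicialObject.augment (K ⋙ Over.forget S) S (K.obj (op (SimplexCategory.mk 0))).hom
      (fun i g₁ g₂ => (Over.w (K.map g₁.op)).trans (Over.w (K.map g₂.op)).symm))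
  have hbot : Y.map (Groth.L10.Descent.toBot (FibDesc.bot SimplexCategory)) = 𝟙 _ :=
    (congrArg Y.map ((L09.SpaceSite.subsingleton_toBot _).elim _ (𝟙 _))).trans (Y.map_id _)
  refine isCohDescentTop_of_gAug (S := Proper.base Y) (hb := 𝟙 _) fun L => ?_
  obtain ⟨Q', hQ', hC', hi⟩ := exists_sys Y L
  refine ⟨Q', hQ', hC', hi, fun U => ?_⟩
  have hU : (Opens.map (btO Y (𝟙 (Proper.base Y))).hom).obj U = U := by
    show (Opens.map (Y.map (Groth.L10.Descent.toBot (FibDesc.bot SimplexCategory)) ≫ 𝟙 _)).obj U = U
    rw [hbot, Category.comp_id]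
    rfl
  rw [← hU]
  refine (gAug_iff_aug Q' U).2 ?_
  have key : ∀ i : SimplexCategoryᵒᵖ, (K.obj i).hom =
      Y.map (Groth.L10.Descent.toBot ((FibDesc.toAug SimplexCategory).obj i)) ≫ 𝟙 (Proper.base Y) := fun i => by
    rw [Category.comp_id, (L09.SpaceSite.subsingleton_toBot _).elim (Groth.L10.Descent.toBot ((FibDesc.toAug SimplexCategory).obj i))
      (WithInitial.starInitial.to (WithInitial.of i.unop)).op]
    exact (Over.w (K.map (SimplexCategory.const ⦋0⦌ i.unop 0).op)).symm
  let κ : K ≅ simpO Y (𝟙 (Proper.base Y)) :=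
    NatIso.ofComponents (fun i => Over.isoMk (Iso.refl _) ((Category.id_comp _).trans (key i).symm))
      (fun g => Over.OverMorphism.ext ((Category.comp_id _).trans (Category.id_comp _).symm))
  let c : topO S ≅ btO Y (𝟙 (Proper.base Y)) := Over.isoMk (Iso.refl _) (by
    show 𝟙 _ ≫ (Y.map (Groth.L10.Descent.toBot (FibDesc.bot SimplexCategory)) ≫ 𝟙 (Proper.base Y)) = 𝟙 S
    exact (Category.id_comp _).trans ((Category.comp_id _).trans hbot))
  refine (quasiIso_aug_iff_of_iso (GU Q' U) (augSimp Y (𝟙 (Proper.base Y))) (toTopO K) κ c ?_).2 ?_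
  · refine NatTrans.ext (funext fun i => ?_)
    rw [← cancel_mono c.inv]
    exact Over.mkIdTerminal.hom_ext _ _
  · exact quasiIso_aug_hyper hQ' hC' U K h0 hn

end Groth.L10.HDesc
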