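import Groth.Agent.L10.SiteRightDerived
import Groth.Agent.L10.TopCoh
import Groth.Agent.L17.AcyclicMap
import Groth.Agent.L09.DerivedTransport
import Groth.Prelude.Def_CohTop
import Mathlib.CategoryTheory.Abelian.GrothendieckCategory.EnoughInjectives
import Mathlib.CategoryTheory.Abelian.GrothendieckAxioms.Sheaf
import Mathlib.Algebra.Homology.DerivedCategory.ExactFunctor

/-!
Quasi-isomorphisms of complexes of flasque sheaves and their sections.
-/

universe u

open CategoryTheory CategoryTheory.Limits Opposite TopologicalSpace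

set_option backward.defeqAttrib.useBackward true
set_option backward.isDefEq.respectTransparency false
set_option autoImplicit false

namespace Groth.L10.HDesc

variable (X : TopCat.{u})

/-- Sections over an open. -/
noncomputable abbrev secF (U : Opens X) : CohTop.Ab X ⥤ AddCommGrpCat.{u} :=
  sheafToPresheaf (Opens.grothendieckTopology X) AddCommGrpCat.{u} ⋙ (evaluation _ _).obj (op U)

theorem rAcyclic_of_flasque (F : CohTop.Ab X) [TopCat.Sheaf.IsFlasque F] (U : Opens X) :
    L17.GrothSS.RAcyclic (secF X U) F := fun q hq => by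
  obtain ⟨k, rfl⟩ := Nat.exists_eq_succ_of_ne_zero hq.ne'
  obtain ⟨e⟩ := SiteCoh.nonempty_rightDerived_iso (J := Opens.grothendieckTopology X) F (k + 1)
  refine IsZero.of_iso ?_ (SiteCoh.rightDerivedCompIso (sheafToPresheaf (Opens.grothendieckTopology X) AddCommGrpCat.{u})
    ((evaluation _ _).obj (op U)) (k + 1) F ≪≫ e.app (op U))
  exact @AddCommGrpCat.isZero_of_subsingleton _ (TopCoh.subsingleton_ext_of_flasque F inferInstance U k)

variable {X}

/-- Sections of a quasi-isomorphism of bounded below complexes of flasque sheaves. -/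
theorem quasiIso_sections {K L : CochainComplex (CohTop.Ab X) ℤ} (f : K ⟶ L) [QuasiIso f] (m : ℤ)
    [K.IsStrictlyGE m] [L.IsStrictlyGE m] (hK : ∀ n, TopCat.Sheaf.IsFlasque (K.X n))
    (hL : ∀ n, TopCat.Sheaf.IsFlasque (L.X n)) (U : Opens X) :
    QuasiIso (((secF X U).mapHomologicalComplex (ComplexShape.up ℤ)).map f) :=
  letI := HasDerivedCategory.standard (CohTop.Ab X)
  L17.GrothSS.quasiIso_map (secF X U) f m m (fun n => have := hK n; rAcyclic_of_flasque X _ U)
    (fun n => have := hL n; rAcyclic_of_flasque X _ U)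

/-- Quasi-isomorphisms of sheaves are detected on sections. -/
theorem quasiIso_of_sections {K L : CochainComplex (CohTop.Ab X) ℤ} (f : K ⟶ L)
    (h : ∀ U : Opens X, QuasiIso (((secF X U).mapHomologicalComplex (ComplexShape.up ℤ)).map f)) : QuasiIso f := by
  let fg := sheafToPresheaf (Opens.grothendieckTopology X) AddCommGrpCat.{u}
  let sh := presheafToSheaf (Opens.grothendieckTopology X) AddCommGrpCat.{u}
  let f' := (fg.mapHomologicalComplex (ComplexShape.up ℤ)).map f
  have : QuasiIso f' := L09.DerivedCrit.quasiIso_of_jointly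
    (r := fun U : (Opens X)ᵒᵖ => (evaluation (Opens X)ᵒᵖ AddCommGrpCat.{u}).obj U)
    (fun φ hφ => @NatIso.isIso_of_isIso_app _ _ _ _ _ _ φ hφ) f' fun U => h U.unop
  have : sh.Additive := inferInstance
  have : QuasiIso ((sh.mapHomologicalComplex (ComplexShape.up ℤ)).map f') := inferInstance
  let ε := (sheafificationAdjunction (Opens.grothendieckTopology X) AddCommGrpCat.{u}).counit
  let c : ∀ M : CochainComplex (CohTop.Ab X) ℤ,
      (sh.mapHomologicalComplex _).obj ((fg.mapHomologicalComplex _).obj M) ≅ M := fun M =>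
    HomologicalComplex.Hom.isoOfComponents (fun n => (asIso ε).app (M.X n))
      (fun i j _ => (ε.naturality (M.d i j)).symm)
  have e : (c K).inv ≫ (sh.mapHomologicalComplex (ComplexShape.up ℤ)).map f' ≫ (c L).hom = f := by
    rw [Iso.inv_comp_eq]
    refine HomologicalComplex.hom_ext _ _ fun n => ?_
    exact ε.naturality (f.f n)
  rw [← e]
  infer_instance

end Groth.L10.HDesc
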