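import Groth.Agent.L10.HDesc.Family
import Groth.Agent.L10.HDesc.Sections

/-!
The resolution on the total site, level by level.
-/

universe u

open CategoryTheory CategoryTheory.Limits Opposite Simplicial TopologicalSpace
open Pseudofunctor.CoGrothendieck
open Groth.L09.SpaceSite Groth.L09

set_option backward.defeqAttrib.useBackward true
set_option backward.isDefEq.respectTransparency false
set_option backward.isDefEq.respectTransparency.types false
set_option autoImplicit false

namespace Groth.L10.HDesc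

open Groth.L10.Descent (Tot toBot inP)
open Groth.L10.Proper (base preP objU lv proj)

variable {S : TopCat.{u}} (Y : (WithInitial SimplexCategory)ᵒᵖ ⥤ TopCat.{u}) (hb : base Y ⟶ S)

instance lev_preservesFiniteLimits (i : SimplexCategoryᵒᵖ) : PreservesFiniteLimits (Proper.lev' Y i) :=
  have h := (inP Y i).sheafAdjunctionContinuous AddCommGrpCat.{u}
    (Opens.grothendieckTopology (Y.obj ((FibDesc.toAug SimplexCategory).obj i))) (JP Y)
  have : PreservesLimitsOfSize.{0, 0} (Proper.lev' Y i) := h.rightAdjoint_preservesLimits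
  PreservesLimitsOfSize.preservesFiniteLimits _

instance lev_preservesFiniteColimits (i : SimplexCategoryᵒᵖ) : PreservesFiniteColimits (Proper.lev' Y i) :=
  have h := (inP Y i).sheafAdjunctionCocontinuous AddCommGrpCat.{u}
    (Opens.grothendieckTopology (Y.obj ((FibDesc.toAug SimplexCategory).obj i))) (JP Y)
  have : PreservesColimitsOfSize.{0, 0} (Proper.lev' Y i) := h.leftAdjoint_preservesColimits
  PreservesColimitsOfSize.preservesFiniteColimits _

instance lev_additive (i : SimplexCategoryᵒᵖ) : (Proper.lev' Y i).Additive :=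
  Functor.additive_of_preserves_binary_products _

theorem isIso_of_lev {F G : Sheaf (JP Y) AddCommGrpCat.{u}} (φ : F ⟶ G)
    (h : ∀ i, IsIso ((Proper.lev' Y i).map φ)) : IsIso φ := by
  have : IsIso ((sheafToPresheaf _ _).map φ) := by
    refine @NatIso.isIso_of_isIso_app _ _ _ _ _ _ _ fun X => ?_
    have := h X.unop.base
    have : IsIso ((sheafToPresheaf _ _).map ((Proper.lev' Y X.unop.base).map φ)) := inferInstance
    exact inferInstanceAs (IsIso (((sheafToPresheaf _ _).map ((Proper.lev' Y X.unop.base).map φ)).app (op (obP X.unop))))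
  exact isIso_of_fully_faithful (sheafToPresheaf _ _) φ

variable (Q : Sys S)

theorem Mcx_sq (n : ℤ) :
    SQmap Y hb (isSheafSys_GX Q n) (isSheafSys_GX Q (n + 1)) (dG Q n) ≫
      SQmap Y hb (isSheafSys_GX Q (n + 1)) (isSheafSys_GX Q (n + 1 + 1)) (dG Q (n + 1)) = 0 :=
  Sheaf.hom_ext (show Functor.whiskerLeft (toOp Y hb).op (dG Q n) ≫
        Functor.whiskerLeft (toOp Y hb).op (dG Q (n + 1)) = 0 by
      rw [← Functor.whiskerLeft_comp, dG_dG]
      rfl)

/-- The resolution on the total site. -/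
noncomputable def Mcx : CochainComplex (Sheaf (JP Y) AddCommGrpCat.{u}) ℤ :=
  CochainComplex.of (fun n => SQ Y hb (isSheafSys_GX Q n))
    (fun n => SQmap Y hb (isSheafSys_GX Q n) (isSheafSys_GX Q (n + 1)) (dG Q n))
    (Mcx_sq Y hb Q)

theorem Mcx_d (n : ℤ) :
    (Mcx Y hb Q).d n (n + 1) = SQmap Y hb (isSheafSys_GX Q n) (isSheafSys_GX Q (n + 1)) (dG Q n) :=
  of_d' (fun n => SQ Y hb (isSheafSys_GX Q n)) (fun n => SQmap Y hb (isSheafSys_GX Q n) (isSheafSys_GX Q (n + 1)) (dG Q n)) (Mcx_sq Y hb Q) n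

theorem GC_d (X : Over S) (n : ℤ) : (GC Q X).d n (n + 1) = GSd Q X n := of_d' (GSh Q X) (GSd Q X) (GC_sq Q X) n

instance isStrictlyGE_Mcx : (Mcx Y hb Q).IsStrictlyGE 0 :=
  (CochainComplex.isStrictlyGE_iff _ 0).2 fun n hn => by
    rw [IsZero.iff_id_eq_zero]
    refine Sheaf.hom_ext (NatTrans.ext (funext fun X => AddCommGrpCat.hom_ext (AddMonoidHom.ext fun x => ?_)))
    exact (GS_subsingleton Q (op ((toOp Y hb).obj X.unop)) hn).elim _ _

instance isStrictlyGE_GC (X : Over S) : (GC Q X).IsStrictlyGE 0 :=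
  (CochainComplex.isStrictlyGE_iff _ 0).2 fun n hn => by
    rw [IsZero.iff_id_eq_zero]
    refine Sheaf.hom_ext (NatTrans.ext (funext fun V => AddCommGrpCat.hom_ext (AddMonoidHom.ext fun x => ?_)))
    exact (GS_subsingleton Q ((inX X).op.obj V) hn).elim _ _

theorem levIso_naturality {P P' : Sys S} (hP : IsSheafSys P) (hP' : IsSheafSys P') (η : P ⟶ P') (i : SimplexCategoryᵒᵖ) :
    (Proper.lev' Y i).map (SQmap Y hb hP hP' η) ≫ (levIso Y hb hP' i).hom =
      (levIso Y hb hP i).hom ≫ (⟨Functor.whiskerLeft (inX (lvO Y hb i)).op η⟩ : QSh hP (lvO Y hb i) ⟶ QSh hP' (lvO Y hb i)) :=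
  Sheaf.hom_ext (NatTrans.ext (funext fun V => (η.naturality _).symm))

/-- One level of the resolution. -/
noncomputable def levCx (i : SimplexCategoryᵒᵖ) :
    ((Proper.lev' Y i).mapHomologicalComplex (ComplexShape.up ℤ)).obj (Mcx Y hb Q) ≅ GC Q (lvO Y hb i) :=
  HomologicalComplex.Hom.isoOfComponents (fun n => levIso Y hb (isSheafSys_GX Q n) i) (fun n m h => by
    obtain rfl : n + 1 = m := h
    rw [Functor.mapHomologicalComplex_obj_d, GC_d, Mcx_d]
    exact (levIso_naturality Y hb _ _ (dG Q n) i).symm)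

/-- The augmentation on the total site. -/
noncomputable def jota (hQ : IsSheafSys Q) :
    (CochainComplex.singleFunctor (Sheaf (JP Y) AddCommGrpCat.{u}) 0).obj (SQ Y hb hQ) ⟶ Mcx Y hb Q :=
  HomologicalComplex.mkHomFromSingle (K := Mcx Y hb Q) (j := 0) (SQmap Y hb hQ (isSheafSys_GX Q 0) (eps Q))
    (fun m (hm : 0 + 1 = m) => by
      obtain rfl : m = 1 := by omega
      rw [show (Mcx Y hb Q).d 0 1 = SQmap Y hb (isSheafSys_GX Q 0) (isSheafSys_GX Q 1) (dG Q 0) from Mcx_d Y hb Q 0]
      refine Sheaf.hom_ext (NatTrans.ext (funext fun X => AddCommGrpCat.hom_ext (AddMonoidHom.ext fun q => ?_)))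
      show (eps (Pn Q 1)).app _ ((quotP Q).app _ ((eps Q).app _ q)) = 0
      rw [eps_quotP, map_zero])

/-- The resolution on the total site resolves. -/
theorem quasiIso_jota (hQ : IsSheafSys Q) : QuasiIso (jota Y hb Q hQ) := by
  refine L09.DerivedCrit.quasiIso_of_jointly (r := fun i => Proper.lev' Y i) (fun φ hφ => isIso_of_lev Y φ hφ) _ fun i => ?_
  let F := Proper.lev' Y i
  let e : (F.mapHomologicalComplex (ComplexShape.up ℤ)).obj
      ((CochainComplex.singleFunctor (Sheaf (JP Y) AddCommGrpCat.{u}) 0).obj (SQ Y hb hQ)) ≅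
      (CochainComplex.singleFunctor (CohTop.Ab (lvO Y hb i).left) 0).obj (QSh hQ (lvO Y hb i)) :=
    (HomologicalComplex.singleMapHomologicalComplex F (ComplexShape.up ℤ) 0).app (SQ Y hb hQ) ≪≫
      (CochainComplex.singleFunctor (CohTop.Ab (lvO Y hb i).left) 0).mapIso (levIso Y hb hQ i)
  have h : (F.mapHomologicalComplex (ComplexShape.up ℤ)).map (jota Y hb Q hQ) =
      e.hom ≫ iotaG Q hQ (lvO Y hb i) ≫ (levCx Y hb Q i).inv := by
    rw [← Iso.inv_comp_eq, Iso.eq_comp_inv]
    refine HomologicalComplex.from_single_hom_ext ?_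
    dsimp [e, levCx, jota, iotaG]
    erw [HomologicalComplex.singleMapHomologicalComplex_inv_app_self, HomologicalComplex.single_map_f_self,
      HomologicalComplex.mkHomFromSingle_f, HomologicalComplex.mkHomFromSingle_f]
    simp only [Category.assoc, Iso.inv_hom_id_assoc, Functor.map_comp]
    rw [← Category.assoc (F.map _) (F.map _), ← F.map_comp, Iso.inv_hom_id, F.map_id, Category.id_comp]
    erw [levIso_naturality Y hb hQ (isSheafSys_GX Q 0) (eps Q) i, Iso.inv_hom_id_assoc]
    rfl
  have := quasiIso_iotaG hQ (lvO Y hb i)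
  rw [h]
  infer_instance

/-- From the base to the direct image. -/
noncomputable def chi : GC Q (btO Y hb) ⟶ ((SpaceCrit.push Y).mapHomologicalComplex (ComplexShape.up ℤ)).obj (Mcx Y hb Q) where
  f n := botMap Y hb (isSheafSys_GX Q n)
  comm' n m h := by
    obtain rfl : n + 1 = m := h
    rw [Functor.mapHomologicalComplex_obj_d, Mcx_d, GC_d]
    exact botMap_natural Y hb (isSheafSys_GX Q n) (isSheafSys_GX Q (n + 1)) (dG Q n)

end Groth.L10.HDesc
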