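import Groth.Agent.S13522
import Groth.Agent.L10.Proper.BaseChange

/-!
Proper surjective separated maps are universally of cohomological descent.
-/

universe u

open CategoryTheory CategoryTheory.Limits Opposite TopologicalSpace

set_option autoImplicit false

namespace Groth.L10.HDesc

theorem isUnivCohDescentMap_of_proper {X S : TopCat.{u}} (f : X ⟶ S) (hf : IsProperMap f)
    (hs : ∀ x x' : X, f x = f x' → x ≠ x' → ∃ U V : Set X, IsOpen U ∧ IsOpen V ∧ x ∈ U ∧ x' ∈ V ∧ Disjoint U V)
    (hj : Function.Surjective f) : FibDesc.IsUnivCohDescentMap f := by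
  intro S' g
  let g' := pullback.fst f g
  have sq : IsPullback g' (pullback.snd f g) f g := IsPullback.of_hasPullback f g
  refine Groth.Agent.S13522.result _ (Proper.isProperMap_snd sq hf) (fun a b hab hne => ?_) (fun y => ?_)
  · have hne' : g' a ≠ g' b := fun h => hne (Proper.IsPullback.point_ext sq h hab)
    have he : f (g' a) = f (g' b) := by
      have ha := congrArg (fun k : pullback f g ⟶ S => k a) sq.w
      have hb := congrArg (fun k : pullback f g ⟶ S => k b) sq.w
      exact (ha.trans (congrArg g hab)).trans hb.symm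
    obtain ⟨U, V, hU, hV, haU, hbV, hd⟩ := hs _ _ he hne'
    exact ⟨g' ⁻¹' U, g' ⁻¹' V, hU.preimage g'.hom.continuous, hV.preimage g'.hom.continuous, haU, hbV, hd.preimage _⟩
  · obtain ⟨x, hx⟩ := hj (g y)
    obtain ⟨z, -, hz⟩ := Proper.IsPullback.exists_point sq hx
    exact ⟨z, hz⟩

end Groth.L10.HDesc
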