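import Groth.Agent.L10.HDesc.Godement
import Groth.Agent.L10.HDesc.HIso
import Groth.Agent.L10.Proper.Near
import Groth.Agent.L09.DerivedTransport
import Mathlib.Topology.Sheaves.Abelian
import Mathlib.Algebra.Category.Grp.FilteredColimits
import Mathlib.Algebra.Homology.HomotopyCategory.SingleFunctors

/-!
Discontinuous sections resolve a system of sheaves on every space.
-/

universe u

open CategoryTheory CategoryTheory.Limits Opposite TopologicalSpace

set_option backward.defeqAttrib.useBackward true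
set_option backward.isDefEq.respectTransparency false
set_option backward.isDefEq.respectTransparency.types false
set_option autoImplicit false

namespace Groth.L10.HDesc

variable {S : TopCat.{u}} {Q : Sys S}

/-- A system of sheaves on one space. -/
abbrev QSh (hQ : IsSheafSys Q) (X : Over S) : CohTop.Ab X.left := ⟨res Q X, hQ X⟩

variable (Q)

/-- Germs, on one space. -/
noncomputable def epsSh (hQ : IsSheafSys Q) (X : Over S) : QSh hQ X ⟶ GSh Q X 0 :=
  ⟨Functor.whiskerLeft (inX X).op (eps Q)⟩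

theorem epsSh_GC_d (hQ : IsSheafSys Q) (X : Over S) : epsSh Q hQ X ≫ (GC Q X).d 0 1 = 0 := by
  refine Sheaf.hom_ext (NatTrans.ext (funext fun V => AddCommGrpCat.hom_ext (AddMonoidHom.ext fun q => ?_)))
  show ((GC Q X).d 0 (0 + 1)).hom.app V ((eps Q).app ((inX X).op.obj V) q) = 0
  rw [GC_d_app Q X 0 V, GS_d]
  show (eps (Pn Q 1)).app _ ((quotP Q).app _ ((eps Q).app _ q)) = 0
  rw [eps_quotP, map_zero]

/-- The augmentation of the resolution. -/
noncomputable def iotaG (hQ : IsSheafSys Q) (X : Over S) :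
    (CochainComplex.singleFunctor (CohTop.Ab X.left) 0).obj (QSh hQ X) ⟶ GC Q X :=
  HomologicalComplex.mkHomFromSingle (K := GC Q X) (j := 0) (epsSh Q hQ X) (fun i (hi : 0 + 1 = i) => by
    obtain rfl : i = 1 := by omega
    exact epsSh_GC_d Q hQ X)

variable {Q}

/-- A criterion for a map from a single complex of abelian groups. -/
theorem quasiIso_from_single {K L : CochainComplex AddCommGrpCat.{u} ℤ} (f : K ⟶ L)
    (hK : ∀ n, n ≠ 0 → Subsingleton (K.X n)) (hL : ∀ n, n < 0 → Subsingleton (L.X n)) (h₀ : Function.Injective (f.f 0))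
    (h₁ : ∀ y : L.X 0, L.d 0 (0 + 1) y = 0 → ∃ x, f.f 0 x = y)
    (h₂ : ∀ (n : ℤ), 0 ≤ n → ∀ y : L.X (n + 1), L.d (n + 1) (n + 1 + 1) y = 0 → ∃ b, L.d n (n + 1) b = y) :
    QuasiIso f := by
  refine (quasiIso_iff f).2 fun n => (quasiIsoAt_iff_hIso f n).2 ⟨fun y hy j hj => ?_, fun x hx j b hj e => ?_⟩
  · rcases lt_trichotomy n 0 with hn | rfl | hn
    · have := hL n hn
      exact ⟨0, map_zero _, 0, Subsingleton.elim (α := L.X n) _ _⟩
    · obtain ⟨x, rfl⟩ := h₁ y hy
      have := hK (0 + 1) (by omega)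
      exact ⟨x, Subsingleton.elim _ _, 0, by rw [map_zero, add_zero]⟩
    · obtain rfl : n = j + 1 := hj.symm
      obtain ⟨b, rfl⟩ := h₂ j (by omega) y hy
      exact ⟨0, map_zero _, b, by rw [map_zero, zero_add]⟩
  · refine ⟨0, ?_⟩
    rw [map_zero]
    rcases eq_or_ne n 0 with rfl | hn
    · have := hL j (by omega)
      rw [Subsingleton.elim b 0, map_zero] at e
      exact h₀ (e.trans (map_zero _).symm)
    · have := hK n hn
      exact Subsingleton.elim _ _

/-- The stalk functor. -/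
noncomputable abbrev stk (X : Over S) (x : X.left) : CohTop.Ab X.left ⥤ AddCommGrpCat.{u} :=
  TopCat.Sheaf.forget AddCommGrpCat.{u} X.left ⋙ TopCat.Presheaf.stalkFunctor AddCommGrpCat.{u} x

theorem stk_map_germ {X : Over S} (x : X.left) {F G : CohTop.Ab X.left} (φ : F ⟶ G) (V : Opens X.left) (hx : x ∈ V)
    (s : F.obj.obj (op V)) :
    (stk X x).map φ (Proper.germ F x hx s) = Proper.germ G x hx (φ.hom.app (op V) s) :=
  TopCat.Presheaf.stalkFunctor_map_germ_apply V x hx φ.hom s

/-- Discontinuous sections resolve a system of sheaves. -/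
theorem quasiIso_iotaG (hQ : IsSheafSys Q) (X : Over S) : QuasiIso (iotaG Q hQ X) := by
  have hx₁ : ∀ x, PreservesFiniteLimits (stk X x) := fun x => inferInstanceAs
    (PreservesFiniteLimits (TopCat.Sheaf.forget AddCommGrpCat.{u} X.left ⋙ TopCat.Presheaf.stalkFunctor AddCommGrpCat.{u} x))
  have hx₂ : ∀ x, PreservesFiniteColimits (stk X x) := fun x => inferInstanceAs
    (PreservesFiniteColimits (TopCat.Sheaf.forget AddCommGrpCat.{u} X.left ⋙ TopCat.Presheaf.stalkFunctor AddCommGrpCat.{u} x))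
  have hx₃ : ∀ x, (stk X x).Additive := fun x => inferInstanceAs
    ((TopCat.Sheaf.forget AddCommGrpCat.{u} X.left ⋙ TopCat.Presheaf.stalkFunctor AddCommGrpCat.{u} x).Additive)
  refine @L09.DerivedCrit.quasiIso_of_jointly _ _ _ _ (fun _ : X.left => AddCommGrpCat.{u}) _ _ (fun x => stk X x) hx₃ hx₁ hx₂
    (fun {F G} φ hφ => by
      have : ∀ x, IsIso ((TopCat.Presheaf.stalkFunctor AddCommGrpCat.{u} x).map φ.hom) := hφ
      exact TopCat.Presheaf.isIso_of_stalkFunctor_map_iso (X := X.left) (C := AddCommGrpCat.{u}) (F := F) (G := G) φ)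
    _ _ _ fun x => ?_
  let T := stk X x
  let e := T.mapIso (HomologicalComplex.singleObjXSelf (ComplexShape.up ℤ) 0 (QSh hQ X))
  have hι : ∀ z, T.map ((iotaG Q hQ X).f 0) z = T.map (epsSh Q hQ X) (e.hom z) := fun z => by
    rw [iotaG, HomologicalComplex.mkHomFromSingle_f, Functor.map_comp]
    rfl
  have hdg : ∀ (n : ℤ) (V : Opens X.left) (hV : x ∈ V) (s : (GSh Q X n).obj.obj (op V)),
      T.map ((GC Q X).d n (n + 1)) (Proper.germ (GSh Q X n) x hV s) =
        Proper.germ (GSh Q X (n + 1)) x hV ((dG Q n).app _ s) := fun n V hV s => by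
    refine (stk_map_germ x _ V hV s).trans (congrArg (Proper.germ (GSh Q X (n + 1)) x hV) ?_)
    rw [GC_d_app, GS_d]
    rfl
  have cyc : ∀ (n : ℤ) (y : T.obj (GSh Q X n)), T.map ((GC Q X).d n (n + 1)) y = 0 →
      ∃ (V : Opens X.left) (hV : x ∈ V) (s : (GSh Q X n).obj.obj (op V)),
        Proper.germ (GSh Q X n) x hV s = y ∧ (dG Q n).app _ s = 0 := fun n y hy => by
    obtain ⟨V, hV, s, rfl⟩ := Proper.exists_germ (GSh Q X n) x y
    rw [hdg] at hy
    obtain ⟨W, hW, i₁, i₂, e⟩ := TopCat.Presheaf.germ_eq (C := AddCommGrpCat.{u}) (GSh Q X (n + 1)).obj x hV hV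
      ((dG Q n).app _ s) 0 (hy.trans (map_zero _).symm)
    rw [map_zero] at e
    exact ⟨W, hW, (GX Q n).map ((inX X).map i₁).op s, TopCat.Presheaf.germ_res_apply _ i₁ x hW s,
      (congr($((dG Q n).naturality ((inX X).map i₁).op) s)).trans e⟩
  refine quasiIso_from_single _ (fun n hn => ?_) (fun n hn => ?_) ?_ ?_ ?_
  · exact AddCommGrpCat.subsingleton_of_isZero
      (T.map_isZero (HomologicalComplex.isZero_single_obj_X (ComplexShape.up ℤ) 0 (QSh hQ X) n hn))
  · cases n with
    | ofNat j => exact absurd hn (by simp)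
    | negSucc j =>
      refine subsingleton_of_forall_eq 0 fun y => ?_
      obtain ⟨V, hV, s, rfl⟩ := Proper.exists_germ (GSh Q X (Int.negSucc j)) x y
      rw [show s = 0 from @Subsingleton.elim PUnit.{u + 1} _ _ _]
      exact map_zero _
  · refine (injective_iff_map_eq_zero _).2 fun z hz => ?_
    have hz' : T.map (epsSh Q hQ X) (e.hom z) = 0 := (hι z).symm.trans hz
    obtain ⟨V, hV, q, hq⟩ := Proper.exists_germ (QSh hQ X) x (e.hom z)
    rw [← hq] at hz'
    obtain ⟨W, hW, i₁, i₂, h⟩ := TopCat.Presheaf.germ_eq (C := AddCommGrpCat.{u}) (GSh Q X 0).obj x hV hV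
      ((eps Q).app _ q) 0 (((stk_map_germ x (epsSh Q hQ X) V hV q).symm.trans hz').trans (map_zero _).symm)
    rw [map_zero] at h
    have h0 : (eps Q).app (op (⟨X, W⟩ : OpO S)) (Q.map ((inX X).map i₁).op q) = 0 :=
      (congr($((eps Q).naturality ((inX X).map i₁).op) q)).trans h
    have hr : e.hom z = 0 := by
      rw [← hq, ← Proper.germ_rs (QSh hQ X) i₁.le x hW q]
      exact congr_fun h0 ⟨x, hW⟩
    have := congrArg e.inv hr
    rwa [← ConcreteCategory.comp_apply, e.hom_inv_id, map_zero] at this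
  · intro y hy
    obtain ⟨V, hV, s, rfl, hs⟩ := cyc 0 y hy
    obtain ⟨W, hW, hxW, q, hq⟩ := exists_local_primitive₀ x hV s hs
    refine ⟨e.inv (Proper.germ (QSh hQ X) x hxW q), (hι _).trans ?_⟩
    rw [← ConcreteCategory.comp_apply e.inv, e.inv_hom_id]
    refine (stk_map_germ x (epsSh Q hQ X) W hxW q).trans ?_
    refine Eq.trans ?_ (Proper.germ_rs (GSh Q X 0) hW x hxW s)
    exact congrArg (Proper.germ (GSh Q X 0) x hxW) hq.symm
  · intro n hn y hy
    obtain ⟨j, rfl⟩ := Int.eq_ofNat_of_zero_le hn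
    obtain ⟨V, hV, s, rfl, hs⟩ := cyc _ y hy
    obtain ⟨W, hW, hxW, t, ht⟩ := exists_local_primitive (j := j) x hV s hs
    refine ⟨Proper.germ (GSh Q X (j : ℤ)) x hxW t, (hdg (j : ℤ) W hxW t).trans ?_⟩
    refine Eq.trans ?_ (Proper.germ_rs (GSh Q X ((j : ℤ) + 1)) hW x hxW s)
    exact congrArg (Proper.germ (GSh Q X ((j : ℤ) + 1)) x hxW) ht.symm

end Groth.L10.HDesc
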