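import Groth.Agent.L10.HDesc.HIso
import Mathlib.Algebra.Homology.Homotopy

/-!
Total complexes: exact rows, projection to the first column, homotopies.
-/

universe u

open CategoryTheory Limits

set_option backward.isDefEq.respectTransparency false
set_option autoImplicit false

namespace Groth.L10.HDesc

variable {E F : DC.{u}}

theorem natCast_zero_add (n : ℤ) : ((0 : ℕ) : ℤ) + n = n := by simp

theorem D_sing_of_gt {i j : ℕ} (h : i + 1 < j) (k l : ℤ) (z : (E.X i).X k) : D E (sing E i k z) j l = 0 := by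
  rw [D_apply, sing_of_ne (by omega), sing_of_ne (by omega), map_zero, smul_zero, map_zero, add_zero]

theorem D_sing_succ (i : ℕ) (k : ℤ) (z : (E.X i).X k) :
    D E (sing E i k z) (i + 1) k = (E.d i (i + 1)).f k z := by
  rw [D_succ_apply, sing_of_ne (Nat.succ_ne_self i), map_zero, smul_zero, zero_add, sing, Pi.single_eq_same,
    Pi.single_eq_same]

/-- The families of a column quasi-isomorphism in a bounded range. -/
theorem quasiIsoAt_totMap (φ : E ⟶ F) (n : ℤ) (h : ∀ (i : ℕ) (k : ℤ), ((i : ℤ) + k = n ∨ (i : ℤ) + k = n - 1) → Cone (φ.f i) k) :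
    QuasiIsoAt (totMap φ) n :=
  quasiIsoAt_of_cone _ (cone_totMap φ n fun i => h i _ (Or.inl (by omega)))
    (cone_totMap φ (n - 1) fun i => h i _ (Or.inr (by omega)))

/-- A map which is a quasi-isomorphism on columns is one on total complexes. -/
theorem quasiIso_totMap (φ : E ⟶ F) [∀ i, QuasiIso (φ.f i)] : QuasiIso (totMap φ) :=
  (quasiIso_iff _).2 fun n => quasiIsoAt_totMap φ n fun i k _ => (quasiIso_iff_cone (φ.f i)).1 inferInstance k

/-- Columns below a level determine the total complex in low degrees. -/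
theorem quasiIsoAt_totMap_of_le (φ : E ⟶ F) (hE : ∀ (i : ℕ) (k : ℤ), k < 0 → Subsingleton ((E.X i).X k))
    (hF : ∀ (i : ℕ) (k : ℤ), k < 0 → Subsingleton ((F.X i).X k)) (N : ℕ) (h : ∀ i, i ≤ N → QuasiIso (φ.f i))
    (n : ℤ) (hn : n < N) : QuasiIsoAt (totMap φ) n := by
  refine quasiIsoAt_totMap φ n fun i k hik => ?_
  by_cases hi : i ≤ N
  · have := h i hi
    exact (quasiIso_iff_cone (φ.f i)).1 inferInstance k
  · have := hE i (k + 1) (by omega)
    have := hF i k (by omega)
    exact cone_of_subsingleton (φ.f i)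

section Rows

variable {A : CochainComplex AddCommGrpCat.{u} ℤ} (η : A ⟶ E.X 0)

/-- The inclusion of an augmentation. -/
noncomputable def totAug (hη : η ≫ E.d 0 1 = 0) : A ⟶ tot E where
  f n := AddCommGrpCat.ofHom (AddMonoidHom.mk' (fun a => (⟨sing E 0 n (η.f n a), sing_mem 0 n _ (natCast_zero_add n)⟩ : TX E n))
    (fun a b => Subtype.ext (by
      show sing E 0 n (η.f n (a + b)) = sing E 0 n (η.f n a) + sing E 0 n (η.f n b)
      rw [map_add, sing, Pi.single_add, Pi.single_add])))
  comm' n m hnm := AddCommGrpCat.hom_ext (AddMonoidHom.ext fun a => Subtype.ext (by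
    obtain rfl : n + 1 = m := hnm
    refine (tot_d_val E rfl _).trans ?_
    show D E (sing E 0 n (η.f n a)) = sing E 0 (n + 1) (η.f (n + 1) (A.d n (n + 1) a))
    funext i k
    have hz : (E.d 0 1).f n (η.f n a) = 0 := by
      rw [← ConcreteCategory.comp_apply, ← HomologicalComplex.comp_f, hη]
      rfl
    refine eq_on_column (D_mem E (sing_mem 0 n _ (natCast_zero_add n)) rfl) (sing_mem 0 (n + 1) _ (natCast_zero_add (n + 1))) i
      (k := n + 1 - i) (by omega) ?_ k
    match i with
    | 0 =>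
      rw [Nat.cast_zero, sub_zero, D_sing_self, sgn, pow_zero, one_zsmul, sing, Pi.single_eq_same, Pi.single_eq_same,
        comm_apply]
    | 1 =>
      rw [Nat.cast_one, add_sub_cancel_right, D_sing_succ 0, hz, sing_of_ne one_ne_zero]
    | i + 2 => rw [D_sing_of_gt (by omega), sing_of_ne (by omega)]))

theorem totAug_val (hη : η ≫ E.d 0 1 = 0) (n : ℤ) (a : A.X n) :
    ((totAug η hη).f n a : TX E n).1 = sing E 0 n (η.f n a) := rfl

/-- The rows are exact. -/
structure RowExact : Prop where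
  zero : η ≫ E.d 0 1 = 0
  inj : ∀ k, Function.Injective (η.f k)
  exact₀ : ∀ (k : ℤ) (z : (E.X 0).X k), (E.d 0 1).f k z = 0 → ∃ a, η.f k a = z
  exact₁ : ∀ (i : ℕ) (k : ℤ) (z : (E.X (i + 1)).X k), (E.d (i + 1) (i + 1 + 1)).f k z = 0 →
    ∃ w, (E.d i (i + 1)).f k w = z

variable {η}

theorem RowExact.reduce (h : RowExact η) {n : ℤ} (N : ℕ) :
    ∀ x ∈ TX E n, (∀ i k, D E x (i + 1) k = 0) → (∀ i, N < i → ∀ k, x i k = 0) →
      ∃ w ∈ TX E (n - 1), ∀ i k, (x - D E w) (i + 1) k = 0 := by
  induction N with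
  | zero =>
    intro x hx _ hN
    exact ⟨0, zero_mem _, fun i k => by rw [map_zero, sub_zero, hN (i + 1) (Nat.succ_pos i)]⟩
  | succ N ih =>
    intro x hx hD hN
    let k₀ : ℤ := n - (N + 1 : ℕ)
    have hz : (E.d (N + 1) (N + 1 + 1)).f k₀ (x (N + 1) k₀) = 0 := by
      have := hD (N + 1) k₀
      rwa [D_succ_apply, hN (N + 1 + 1) (by omega), map_zero, smul_zero, zero_add] at this
    obtain ⟨w₀, hw₀⟩ := h.exact₁ N k₀ _ hz
    have hs : sing E N k₀ w₀ ∈ TX E (n - 1) := sing_mem N k₀ _ (by omega)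
    have hx' : x - D E (sing E N k₀ w₀) ∈ TX E n := sub_mem hx (D_mem E hs (sub_add_cancel n 1))
    obtain ⟨w, hw, hw'⟩ := ih (x - D E (sing E N k₀ w₀)) hx'
      (fun i k => by rw [map_sub, D_D, sub_zero, hD])
      (fun i hi k => by
        rcases eq_or_lt_of_le (Nat.succ_le_of_lt hi) with rfl | hi'
        · refine eq_on_column hx' (zero_mem _) (N + 1) (k := k₀) (by omega) ?_ k
          show x (N + 1) k₀ - D E (sing E N k₀ w₀) (N + 1) k₀ = 0
          rw [D_sing_succ, hw₀, sub_self]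
        · show x i k - D E (sing E N k₀ w₀) i k = 0
          rw [hN i hi', D_sing_of_gt hi', sub_zero])
    refine ⟨sing E N k₀ w₀ + w, add_mem hs hw, fun i k => ?_⟩
    rw [map_add, ← sub_sub]
    exact hw' i k

/-- Exact rows of complexes bounded below compute the total complex. -/
theorem RowExact.quasiIso_totAug (h : RowExact η) (m : ℤ) (hE : ∀ (i : ℕ) (k : ℤ), k < m → Subsingleton ((E.X i).X k)) :
    QuasiIso (totAug η h.zero) := by
  have reduce : ∀ {n : ℤ} (x : All E), x ∈ TX E n → (∀ i k, D E x (i + 1) k = 0) →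
      ∃ w ∈ TX E (n - 1), ∀ i k, (x - D E w) (i + 1) k = 0 := fun {n} x hx hD =>
    h.reduce (n - m).toNat x hx hD fun i hi k => by
      by_cases hk : (i : ℤ) + k = n
      · have := hE i k (by omega)
        exact Subsingleton.elim _ _
      · exact hx i k hk
  have col₀ : ∀ {n : ℤ} (x : All E), (∀ i k, x (i + 1) k = 0) → (∀ i k, D E x (i + 1) k = 0) →
      (E.d 0 1).f n (x 0 n) = 0 := fun {n} x h0 hD => by
    have := hD 0 n
    rw [D_succ_apply, h0 0, map_zero, smul_zero] at this
    exact (zero_add _).symm.trans this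
  refine (quasiIso_iff _).2 fun n => (quasiIsoAt_iff_hIso _ n).2 ⟨?_, ?_⟩
  · rintro ⟨x, hx⟩ hcyc j hj
    obtain rfl : j = n - 1 := by omega
    have hDx : D E x = 0 := (tot_d_val E rfl _).symm.trans (congrArg Subtype.val hcyc)
    obtain ⟨w, hw, hw'⟩ := reduce x hx (fun i k => by rw [hDx]; rfl)
    have hD' : D E (x - D E w) = 0 := by rw [map_sub, hDx, D_D, sub_zero]
    obtain ⟨a, ha⟩ := h.exact₀ n _ (col₀ (x - D E w) hw' (fun i k => by rw [hD']; rfl))
    refine ⟨a, h.inj (n + 1) ?_, ⟨w, hw⟩, Subtype.ext ?_⟩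
    · rw [map_zero, comm_apply, ha]
      have := congr_fun (congr_fun hD' 0) (n + 1)
      rwa [D_zero_apply, add_sub_cancel_right] at this
    · show x = sing E 0 n (η.f n a) + ((tot E).d (n - 1) n (⟨w, hw⟩ : TX E (n - 1)) : TX E n).1
      rw [tot_d_val E (sub_add_cancel n 1), ha, ← sub_eq_iff_eq_add]
      funext i k
      cases i with
      | zero =>
        rcases eq_or_ne k n with rfl | hk
        · rw [sing, Pi.single_eq_same, Pi.single_eq_same]
        · rw [sing, Pi.single_eq_same, Pi.single_eq_of_ne hk]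
          exact (sub_mem hx (D_mem E hw (sub_add_cancel n 1)) : x - D E w ∈ TX E n) 0 k (by omega)
      | succ i => rw [hw' i k, sing_of_ne (Nat.succ_ne_zero i)]
  · rintro a ha j ⟨b, hb⟩ hj e
    have he : D E b = sing E 0 n (η.f n a) := ((tot_d_val E hj _).symm.trans (congrArg Subtype.val e).symm)
    obtain ⟨w, hw, hw'⟩ := reduce b hb (fun i k => by rw [he, sing_of_ne (Nat.succ_ne_zero i)])
    have hD' : D E (b - D E w) = sing E 0 n (η.f n a) := by rw [map_sub, D_D, sub_zero, he]
    obtain ⟨a', ha'⟩ := h.exact₀ j _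
      (col₀ (b - D E w) hw' (fun i k => by rw [hD', sing_of_ne (Nat.succ_ne_zero i)]))
    obtain rfl : n = j + 1 := hj.symm
    refine ⟨a', h.inj (j + 1) ?_⟩
    rw [comm_apply, ha']
    have := congr_fun (congr_fun hD' 0) (j + 1)
    rw [D_zero_apply, add_sub_cancel_right, sing, Pi.single_eq_same, Pi.single_eq_same] at this
    exact this.symm

end Rows

/-- The projection to the first column. -/
noncomputable def proj₀ (E : DC.{u}) : tot E ⟶ E.X 0 where
  f n := AddCommGrpCat.ofHom (AddMonoidHom.mk' (fun x : TX E n => x.1 0 n) (fun _ _ => rfl))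
  comm' n m hnm := AddCommGrpCat.hom_ext (AddMonoidHom.ext fun x => by
    obtain rfl : n + 1 = m := hnm
    show (E.X 0).d n (n + 1) ((x : TX E n).1 0 n) = ((tot E).d n (n + 1) x : TX E (n + 1)).1 0 (n + 1)
    rw [tot_d_val E rfl, D_zero_apply, add_sub_cancel_right])

theorem totAug_proj₀ {A : CochainComplex AddCommGrpCat.{u} ℤ} (η : A ⟶ E.X 0) (hη : η ≫ E.d 0 1 = 0) :
    totAug η hη ≫ proj₀ E = η := HomologicalComplex.hom_ext _ _ fun n => AddCommGrpCat.hom_ext (AddMonoidHom.ext fun a => by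
  show sing E 0 n (η.f n a) 0 n = η.f n a
  rw [sing, Pi.single_eq_same, Pi.single_eq_same])

theorem totMap_proj₀ (φ : E ⟶ F) : totMap φ ≫ proj₀ F = proj₀ E ≫ φ.f 0 := rfl

theorem totAug_totMap {A B : CochainComplex AddCommGrpCat.{u} ℤ} (φ : E ⟶ F) (η : A ⟶ E.X 0) (η' : B ⟶ F.X 0)
    (hη : η ≫ E.d 0 1 = 0) (hη' : η' ≫ F.d 0 1 = 0) (c : A ⟶ B) (hc : η ≫ φ.f 0 = c ≫ η') :
    totAug η hη ≫ totMap φ = c ≫ totAug η' hη' :=
  HomologicalComplex.hom_ext _ _ fun n => AddCommGrpCat.hom_ext (AddMonoidHom.ext fun a => Subtype.ext (by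
    show mapAll φ (sing E 0 n (η.f n a)) = sing F 0 n (η'.f n (c.f n a))
    have hc' : (φ.f 0).f n (η.f n a) = η'.f n (c.f n a) := by
      rw [← ConcreteCategory.comp_apply, ← ConcreteCategory.comp_apply, ← HomologicalComplex.comp_f,
        ← HomologicalComplex.comp_f, hc]
    funext i k
    refine eq_on_column (mapAll_mem φ (sing_mem 0 n _ (natCast_zero_add n))) (sing_mem 0 n _ (natCast_zero_add n)) i (k := n - i) (by omega) ?_ k
    cases i with
    | zero => rw [Nat.cast_zero, sub_zero, mapAll_apply, sing, Pi.single_eq_same, Pi.single_eq_same, hc', sing,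
        Pi.single_eq_same, Pi.single_eq_same]
    | succ i => rw [mapAll_apply, sing_of_ne (Nat.succ_ne_zero i), sing_of_ne (Nat.succ_ne_zero i), map_zero]))

section Homotopy

variable {φ ψ : E ⟶ F} (H : Homotopy φ ψ)

/-- The homotopy on families. -/
noncomputable def hAll : All E →+ All F :=
  AddMonoidHom.mk' (fun x i k => (H.hom (i + 1) i).f k (x (i + 1) k)) (fun x y => funext fun i => funext fun k => map_add _ _ _)

theorem hAll_apply (x : All E) (i : ℕ) (k : ℤ) : hAll H x i k = (H.hom (i + 1) i).f k (x (i + 1) k) := rfl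

theorem hAll_mem {n j : ℤ} (hj : j + 1 = n) {x : All E} (hx : x ∈ TX E n) : hAll H x ∈ TX F j := fun i k h => by
  rw [hAll_apply, hx (i + 1) k (by omega), map_zero]

theorem hAll_spec (x : All E) : mapAll φ x = D F (hAll H x) + hAll H (D E x) + mapAll ψ x := funext fun i => funext fun k => by
  have hc := congrArg (fun f => f.f k) (H.comm i)
  have hd : ∀ j, (F.X i).d (k - 1) k ((H.hom j i).f (k - 1) (x j (k - 1))) =
      (H.hom j i).f k ((E.X j).d (k - 1) k (x j (k - 1))) := fun j => by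
    rw [← ConcreteCategory.comp_apply, ← ConcreteCategory.comp_apply, (H.hom j i).comm]
  simp only [Pi.add_apply]
  rw [D_apply, hAll_apply, hAll_apply, hAll_apply, mapAll_apply, mapAll_apply, hd, D_succ_apply, map_add, map_zsmul]
  have key : (φ.f i).f k (x i k) = (H.hom (i + 1) i).f k ((E.d i (i + 1)).f k (x i k)) +
      (F.d (i - 1) i).f k ((H.hom (i - 1 + 1) (i - 1)).f k (x (i - 1 + 1) k)) + (ψ.f i).f k (x i k) := by
    cases i with
    | zero =>
      rw [dNext_eq H.hom (show (ComplexShape.up ℕ).Rel 0 1 from rfl), prevD_eq_zero H.hom 0 (by simp), add_zero] at hc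
      rw [dh_zero, add_zero]
      exact congr($hc (x 0 k))
    | succ i =>
      rw [dNext_eq H.hom (show (ComplexShape.up ℕ).Rel (i + 1) (i + 1 + 1) from rfl),
        prevD_eq H.hom (show (ComplexShape.up ℕ).Rel i (i + 1) from rfl)] at hc
      exact congr($hc (x (i + 1) k))
  rw [key]
  have : sgn (i + 1) = -sgn i := by rw [sgn, pow_succ, mul_neg_one]
  rw [this, neg_smul]
  abel

include H in
/-- Homotopic maps agree on cycles up to boundaries. -/
theorem exists_totMap_eq {n j : ℤ} (hj : j + 1 = n) (x : (tot E).X n) (hx : (tot E).d n (n + 1) x = 0) :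
    ∃ b : (tot F).X j, (totMap φ).f n x = (totMap ψ).f n x + (tot F).d j n b := by
  refine ⟨(⟨hAll H (x : TX E n).1, hAll_mem H hj (x : TX E n).2⟩ : TX F j), Subtype.ext ?_⟩
  show mapAll φ (x : TX E n).1 = mapAll ψ (x : TX E n).1 + ((tot F).d j n _ : TX F n).1
  have hD : D E (x : TX E n).1 = 0 := (tot_d_val E rfl x).symm.trans (congrArg Subtype.val hx)
  rw [tot_d_val F hj, hAll_spec H, hD, map_zero, add_zero, add_comm]

end Homotopy

/-- Maps inverse to each other up to homotopy give quasi-isomorphisms of total complexes. -/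
theorem quasiIso_totMap_of_homotopy {φ : E ⟶ F} {ψ : F ⟶ E} (h₁ : Nonempty (Homotopy (φ ≫ ψ) (𝟙 E)))
    (h₂ : Nonempty (Homotopy (ψ ≫ φ) (𝟙 F))) : QuasiIso (totMap φ) :=
  quasiIso_of_inverse _ (totMap ψ) (fun _ _ hj x hx => exists_totMap_eq h₁.some hj x hx)
    (fun _ _ hj y hy => exists_totMap_eq h₂.some hj y hy)

end Groth.L10.HDesc
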