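import Groth.Agent.L10.HDesc.Levels
import Groth.Agent.L10.HDesc.Cochains
import Groth.Agent.L10.Proper.CoSimp
import Groth.Agent.L10.TopCoh

/-!
Sections of the resolution against an injective resolution on the total site.
-/

universe u

open CategoryTheory CategoryTheory.Limits Opposite Simplicial TopologicalSpace AlgebraicTopology
open Pseudofunctor.CoGrothendieck
open Groth.L09.SpaceSite Groth.L09

set_option backward.defeqAttrib.useBackward true
set_option backward.isDefEq.respectTransparency false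
set_option backward.isDefEq.respectTransparency.types false
set_option autoImplicit false

namespace Groth.L10.HDesc

open Groth.L10.Descent (Tot toBot inP)
open Groth.L10.Proper (base preP objU lv proj)

variable {S : TopCat.{u}} (Y : (WithInitial SimplexCategory)ᵒᵖ ⥤ TopCat.{u}) (hb : base Y ⟶ S)

/-- The cosimplicial complex of sections over the preimages of an open. -/
noncomputable def coC (M : CochainComplex (Sheaf (JP Y) AddCommGrpCat.{u}) ℤ) (U : Opens (base Y)) :
    CosimplicialObject (CochainComplex AddCommGrpCat.{u} ℤ) where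
  obj i := ((sheafToPresheaf (JP Y) AddCommGrpCat.{u} ⋙ (evaluation _ _).obj (op ((objU Y U).obj (op i)))).mapHomologicalComplex
    (ComplexShape.up ℤ)).obj M
  map {i k} f :=
    { f := fun n => (M.X n).obj.map ((objU Y U).map f.op).op
      comm' := fun n m _ => (M.d n m).hom.naturality ((objU Y U).map f.op).op }
  map_id i := HomologicalComplex.hom_ext _ _ fun n => (Proper.coX Y U (M.X n)).map_id i
  map_comp f g := HomologicalComplex.hom_ext _ _ fun n => (Proper.coX Y U (M.X n)).map_comp f g

/-- Its functoriality. -/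
noncomputable def coCMap {M N : CochainComplex (Sheaf (JP Y) AddCommGrpCat.{u}) ℤ} (φ : M ⟶ N) (U : Opens (base Y)) :
    coC Y M U ⟶ coC Y N U where
  app i := ((sheafToPresheaf (JP Y) AddCommGrpCat.{u} ⋙ (evaluation _ _).obj (op ((objU Y U).obj (op i)))).mapHomologicalComplex
    (ComplexShape.up ℤ)).map φ
  naturality i k f := HomologicalComplex.hom_ext _ _ fun n => (φ.f n).hom.naturality ((objU Y U).map f.op).op

variable (Q : Sys S)

/-- The simplicial pair of the preimages of an open. -/
noncomputable abbrev famP (U : Opens (base Y)) : SimplicialObject (OpO S) := objU Y U ⋙ toOp Y hb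

theorem famP_eq (U : Opens (base Y)) :
    (famP Y hb U).δ (0 : Fin 2) ≫ augU Y hb (lv 0) U = (famP Y hb U).δ (1 : Fin 2) ≫ augU Y hb (lv 0) U :=
  hom_ext' ((toOp_augU Y hb ((objU Y U).map (SimplexCategory.δ (0 : Fin 2)).op)).trans
    (toOp_augU Y hb ((objU Y U).map (SimplexCategory.δ (1 : Fin 2)).op)).symm)

/-- Two descriptions of the sections of the resolution. -/
noncomputable def gXIso (U : Opens (base Y)) : gX Q (famP Y hb U) ≅ coC Y (Mcx Y hb Q) U :=
  NatIso.ofComponents (fun i => HomologicalComplex.Hom.isoOfComponents (fun n => Iso.refl _) (fun n m h => by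
    obtain rfl : n + 1 = m := h
    refine (Category.id_comp _).trans (Eq.trans ?_ (Category.comp_id _).symm)
    refine Eq.trans ?_ (GS_d Q _ n).symm
    exact congrArg (fun φ : SQ Y hb (isSheafSys_GX Q n) ⟶ SQ Y hb (isSheafSys_GX Q (n + 1)) =>
      φ.hom.app (op ((objU Y U).obj (op i)))) (Mcx_d Y hb Q n)))
    (fun f => HomologicalComplex.hom_ext _ _ fun n => (Category.comp_id _).trans (Category.id_comp _).symm)

/-- The sections of the direct image into the sections on the lowest level. -/
noncomputable def projC (M : CochainComplex (Sheaf (JP Y) AddCommGrpCat.{u}) ℤ) (U : Opens (base Y)) :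
    ((secF (base Y) U).mapHomologicalComplex (ComplexShape.up ℤ)).obj
      (((SpaceCrit.push Y).mapHomologicalComplex (ComplexShape.up ℤ)).obj M) ⟶ (coC Y M U).obj ⦋0⦌ where
  f n := proj Y (M.X n) U
  comm' n m _ := AddCommGrpCat.hom_ext (AddMonoidHom.ext fun z => (Proper.proj_natural Y (M.d n m) U z).symm)

theorem projC_eq (M : CochainComplex (Sheaf (JP Y) AddCommGrpCat.{u}) ℤ) (U : Opens (base Y)) :
    projC Y M U ≫ (coC Y M U).δ 0 = projC Y M U ≫ (coC Y M U).δ 1 :=
  HomologicalComplex.hom_ext _ _ fun n => AddCommGrpCat.hom_ext (AddMonoidHom.ext fun z =>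
    Proper.isDesc_proj (M.X n) U z)

theorem coC_d_f (M : CochainComplex (Sheaf (JP Y) AddCommGrpCat.{u}) ℤ) (U : Opens (base Y)) (i : ℕ) (k : ℤ)
    (z : ((coC Y M U).obj ⦋i⦌).X k) :
    ((dcF.obj (coC Y M U)).d i (i + 1)).f k z = Proper.dd Y U (M.X k) i z := by
  rw [dcF_d]
  have h : (AlternatingCofaceMapComplex.objD (coC Y M U) i).f k =
      AlternatingCofaceMapComplex.objD (Proper.coX Y U (M.X k)) i := by
    let ev := HomologicalComplex.Hom.fAddMonoidHom (C₁ := (coC Y M U).obj ⦋i⦌) (C₂ := (coC Y M U).obj ⦋i + 1⦌) k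
    refine (map_sum ev _ _).trans (Finset.sum_congr rfl fun j _ => ?_)
    exact map_zsmul ev _ _
  exact congr($h z)

/-- Injective terms give exact rows. -/
theorem rowExact_coC (J : CochainComplex (Sheaf (JP Y) AddCommGrpCat.{u}) ℤ) [∀ n, Injective (J.X n)]
    (U : Opens (base Y)) :
    RowExact (E := dcF.obj (coC Y J U)) (projC Y J U) where
  zero := (congrArg (projC Y J U ≫ ·) (dcF_d_zero (coC Y J U))).trans (by
    rw [Preadditive.comp_sub, projC_eq, sub_self])
  inj n := Proper.proj_injective (J.X n) U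
  exact₀ n z hz := Proper.exists_of_isDesc (J.X n) U z ((Proper.isDesc_iff Y (J.X n) U z).2 ((coC_d_f Y J U 0 n z).symm.trans hz))
  exact₁ i n z hz := by
    obtain ⟨w, hw⟩ := Proper.coExact_of_injective Y U (J.X n) i z ((coC_d_f Y J U (i + 1) n z).symm.trans hz)
    exact ⟨w, (coC_d_f Y J U i n w).trans hw⟩

variable {Y hb Q}

theorem isFlasque_lev_Mcx (i : SimplexCategoryᵒᵖ) (n : ℤ) :
    TopCat.Sheaf.IsFlasque ((Proper.lev' Y i).obj ((Mcx Y hb Q).X n)) :=
  TopCat.Presheaf.IsFlasque.mk fun {V W} f => by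
    rw [AddCommGrpCat.epi_iff_surjective]
    intro t
    obtain ⟨s, hs⟩ := (AddCommGrpCat.epi_iff_surjective _).1 ((isFlasque_GSh Q (lvO Y hb i) n).epi f) t
    refine ⟨s, Eq.trans ?_ hs⟩
    exact congrArg (fun z => (GX Q n).map z s) (Quiver.Hom.unop_inj (hom_ext' (by
      show (liftTo Y hb).map ((FibDesc.toAug SimplexCategory).map (𝟙 i)) = 𝟙 _
      rw [CategoryTheory.Functor.map_id, CategoryTheory.Functor.map_id])))

variable {J : CochainComplex (Sheaf (JP Y) AddCommGrpCat.{u}) ℤ} [J.IsStrictlyGE 0] [∀ n, Injective (J.X n)]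
  (φ : Mcx Y hb Q ⟶ J) [QuasiIso φ]

/-- Sections of the two resolutions agree level by level. -/
theorem quasiIso_coCMap (U : Opens (base Y)) (i : ℕ) : QuasiIso ((coCMap Y φ U).app ⦋i⦌) := by
  let lv' := Proper.lev' Y (op ⦋i⦌)
  have hJ : ∀ n, TopCat.Sheaf.IsFlasque (((lv'.mapHomologicalComplex (ComplexShape.up ℤ)).obj J).X n) := fun n =>
    have : Injective (lv'.obj (J.X n)) :=
      MultiFlat.injective_restrict (inP Y (op ⦋i⦌)) _ (JP Y) (Descent.isMultiFlat_inP Y (op ⦋i⦌)) (J.X n)
    TopCoh.isFlasque_of_injective (X := Y.obj ((FibDesc.toAug SimplexCategory).obj (op ⦋i⦌))) (lv'.obj (J.X n))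
  exact quasiIso_sections ((lv'.mapHomologicalComplex (ComplexShape.up ℤ)).map φ) 0
    (fun n => isFlasque_lev_Mcx (op ⦋i⦌) n) hJ (preP Y (op ⦋i⦌) U)

/-- From discontinuous sections on the base to the direct image of the injective resolution. -/
noncomputable abbrev kappa : GC Q (btO Y hb) ⟶ ((SpaceCrit.push Y).mapHomologicalComplex (ComplexShape.up ℤ)).obj J :=
  chi Y hb Q ≫ ((SpaceCrit.push Y).mapHomologicalComplex (ComplexShape.up ℤ)).map φ

/-- The two complexes of sections on the base. -/
noncomputable def baseIso (Q : Sys S) (X : Over S) (U : Opens X.left) :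
    (GS Q).obj (op (⟨X, U⟩ : OpO S)) ≅ ((secF X.left U).mapHomologicalComplex (ComplexShape.up ℤ)).obj (GC Q X) :=
  HomologicalComplex.Hom.isoOfComponents (fun n => Iso.refl _) (fun n m h => by
    obtain rfl : n + 1 = m := h
    refine (Category.id_comp _).trans (Eq.trans ?_ (Category.comp_id _).symm)
    exact GC_d_app Q X n (op U))

/-- The square: descent of sections is the quasi-isomorphism of the comparison. -/
theorem quasiIso_gAug_iff (U : Opens (base Y)) :
    QuasiIso (gAug Q (famP Y hb U) (augU Y hb (lv 0) U) (famP_eq Y hb U)) ↔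
      QuasiIso (((secF (base Y) U).mapHomologicalComplex (ComplexShape.up ℤ)).map (kappa φ)) := by
  let ψ := (gXIso Y hb Q U).hom ≫ coCMap Y φ U
  have hrows := rowExact_coC Y J U
  have hη : QuasiIso (caug (coC Y J U) (projC Y J U) (projC_eq Y J U)) :=
    hrows.quasiIso_totAug 0 (fun i k hk => AddCommGrpCat.subsingleton_of_isZero
      (Functor.map_isZero ((sheafToPresheaf (JP Y) AddCommGrpCat.{u} ⋙ (evaluation _ _).obj (op ((objU Y U).obj (op ⦋i⦌)))))
        (J.isZero_of_isStrictlyGE 0 k hk)))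
  have : ∀ i, QuasiIso ((dcF.map ψ).f i) := fun i => by
    show QuasiIso ((gXIso Y hb Q U).hom.app ⦋i⦌ ≫ (coCMap Y φ U).app ⦋i⦌)
    have := quasiIso_coCMap φ U i
    infer_instance
  have hψ : QuasiIso (totMap (dcF.map ψ)) := quasiIso_totMap _
  have sq : gAug Q (famP Y hb U) (augU Y hb (lv 0) U) (famP_eq Y hb U) ≫ totMap (dcF.map ψ) =
      ((baseIso Q (btO Y hb) U).hom ≫ ((secF (base Y) U).mapHomologicalComplex (ComplexShape.up ℤ)).map (kappa φ)) ≫
        caug (coC Y J U) (projC Y J U) (projC_eq Y J U) :=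
    caug_totMap ψ _ _ (gAug_eq Q _ _ (famP_eq Y hb U)) (projC_eq Y J U) _
      (HomologicalComplex.hom_ext _ _ fun n => AddCommGrpCat.hom_ext (AddMonoidHom.ext fun t => by
        refine Eq.trans ?_ (Proper.proj_natural Y (φ.f n) U (botFun Y hb (isSheafSys_GX Q n) U t)).symm
        exact congrArg ((φ.f n).hom.app (op ((objU Y U).obj (lv 0)))) (proj_botFun Y hb (isSheafSys_GX Q n) U t).symm))
  rw [← quasiIso_iff_comp_right _ (totMap (dcF.map ψ)), sq, quasiIso_iff_comp_right, quasiIso_iff_comp_left]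

end Groth.L10.HDesc
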