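import Groth.Agent.L10.HDesc.Abs
import Groth.Agent.L10.HDesc.Fubini
import Mathlib.AlgebraicTopology.CechNerve
import Mathlib.CategoryTheory.Limits.Shapes.FiniteLimits
import Mathlib.Algebra.Module.BigOperators
import Mathlib.Algebra.Ring.GeomSum

/-!
A map of simplicial objects which is levelwise of descent and unique up to homotopy induces a quasi-isomorphism.
-/

universe u v w

open CategoryTheory CategoryTheory.Limits Opposite Simplicial AlgebraicTopology

set_option backward.defeqAttrib.useBackward true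
set_option backward.isDefEq.respectTransparency false
set_option backward.isDefEq.respectTransparency.types false
set_option autoImplicit false

namespace Groth.L10.HDesc

section Const

variable (M : CochainComplex AddCommGrpCat.{u} ℤ)

/-- The constant double complex. -/
noncomputable abbrev constDC : DC.{u} := dcF.obj ((CosimplicialObject.const _).obj M)

theorem constDC_d (i : ℕ) : (constDC M).d i (i + 1) = (∑ j : Fin (i + 2), (-1 : ℤ) ^ (j : ℕ)) • 𝟙 M := by
  rw [dcF_d, AlternatingCofaceMapComplex.objD, Finset.sum_smul]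
  rfl

theorem altSum (i : ℕ) : (∑ j : Fin (i + 2), (-1 : ℤ) ^ (j : ℕ)) = if Even i then 0 else 1 := by
  rw [Fin.sum_univ_eq_sum_range (fun j => (-1 : ℤ) ^ j), neg_one_geom_sum]
  simp [Nat.even_add]

theorem rowExact_const : RowExact (E := constDC M) (𝟙 M) where
  zero := by
    rw [show (constDC M).d 0 1 = (constDC M).d 0 (0 + 1) from rfl, constDC_d, altSum, if_pos Even.zero, zero_smul]
    exact comp_zero
  inj k a b h := h
  exact₀ k z _ := ⟨z, rfl⟩
  exact₁ i k z hz := by
    by_cases hi : Even i
    · have h1 : ¬ Even (i + 1) := by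
        rw [Nat.even_add_one, not_not]
        exact hi
      rw [constDC_d, altSum, if_neg h1, one_smul] at hz
      exact ⟨0, (map_zero _).trans hz.symm⟩
    · refine ⟨z, ?_⟩
      rw [constDC_d, altSum, if_neg hi, one_smul]
      rfl

theorem tot_subsingleton {E : DC.{u}} (hE : ∀ (i : ℕ) (k : ℤ), k < 0 → Subsingleton ((E.X i).X k)) (n : ℤ) (hn : n < 0) :
    Subsingleton ((tot E).X n) :=
  ⟨fun x y => Subtype.ext (funext fun i => funext fun k => by
    by_cases h : (i : ℤ) + k = n
    · have := hE i k (by omega)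
      exact Subsingleton.elim _ _
    · exact ((x : TX E n).2 i k h).trans ((y : TX E n).2 i k h).symm)⟩

/-- A double complex quasi-isomorphic to a constant one is computed by its first column. -/
theorem quasiIso_proj₀_of_const {E : DC.{u}} (φ : E ⟶ constDC M) [∀ i, QuasiIso (φ.f i)]
    (hM : ∀ k, k < 0 → Subsingleton (M.X k)) : QuasiIso (proj₀ E) := by
  have h := rowExact_const M
  have h1 : QuasiIso (totAug (E := constDC M) (𝟙 M) h.zero) := h.quasiIso_totAug 0 fun _ k hk => hM k hk
  have h2 : QuasiIso (proj₀ (constDC M)) := by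
    rw [← quasiIso_iff_comp_left (totAug (E := constDC M) (𝟙 M) h.zero), totAug_proj₀]
    exact inferInstanceAs (QuasiIso (𝟙 M))
  have := quasiIso_totMap φ
  have e := totMap_proj₀ φ
  have : QuasiIso (proj₀ E ≫ φ.f 0) := by
    rw [← e]
    infer_instance
  exact (quasiIso_iff_comp_right (proj₀ E) (φ.f 0)).1 this

end Const

section Step

variable {C : Type w} [Category.{v} C] [HasFiniteWidePullbacks C] (G : Cᵒᵖ ⥤ CochainComplex AddCommGrpCat.{u} ℤ)
  {A B : SimplicialObject C} (u : B ⟶ A)

/-- The arrows of a map, level by level. -/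
noncomputable def lvArrow : SimplexCategoryᵒᵖ ⥤ Arrow C where
  obj m := Arrow.mk (u.app m)
  map g := Arrow.homMk (B.map g) (A.map g) (u.naturality g)
  map_id m := Arrow.hom_ext _ _ (B.map_id m) (A.map_id m)
  map_comp f g := Arrow.hom_ext _ _ (B.map_comp f g) (A.map_comp f g)

/-- The Čech nerves, level by level. -/
noncomputable abbrev WW : SimplexCategoryᵒᵖ ⥤ SimplicialObject C := lvArrow u ⋙ SimplicialObject.cechNerve

/-- One power. -/
noncomputable abbrev ZZ (p : SimplexCategoryᵒᵖ) : SimplicialObject C := (WW u).flip.obj p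

/-- The base of one Čech nerve. -/
noncomputable def etaW (m : SimplexCategoryᵒᵖ) : (WW u).obj m ⟶ (SimplicialObject.const C).obj (A.obj m) :=
  (Arrow.mk (u.app m)).augmentedCechNerve.hom

/-- The base of one power. -/
noncomputable def zBase (p : SimplexCategoryᵒᵖ) : ZZ u p ⟶ A where
  app m := WidePullback.base _
  naturality m m' g := WidePullback.lift_base _ _ _ _

/-- A projection of one power. -/
noncomputable def zPr (p : SimplexCategoryᵒᵖ) (j : Fin (p.unop.len + 1)) : ZZ u p ⟶ B where
  app m := WidePullback.π _ j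
  naturality m m' g := WidePullback.lift_π _ _ _ _ _

theorem zPr_base (p : SimplexCategoryᵒᵖ) (j : Fin (p.unop.len + 1)) : zPr u p j ≫ u = zBase u p :=
  NatTrans.ext (funext fun m => WidePullback.π_arrow _ j)

/-- The diagonal. -/
noncomputable def zDiag : (SimplicialObject.const (SimplicialObject C)).obj B ⟶ (WW u).flip where
  app p :=
    { app := fun m => WidePullback.lift (u.app m) (fun _ => 𝟙 _) (fun _ => Category.id_comp _)
      naturality := fun m m' g => by
        refine WidePullback.hom_ext _ _ _ (fun j => ?_) ?_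
        · rw [Category.assoc, Category.assoc]
          erw [WidePullback.lift_π, WidePullback.lift_π, WidePullback.lift_π_assoc]
          exact (Category.comp_id _).trans (Category.id_comp _).symm
        · rw [Category.assoc, Category.assoc]
          erw [WidePullback.lift_base, WidePullback.lift_base, WidePullback.lift_base_assoc]
          exact u.naturality g }
  naturality p p' g := by
    refine NatTrans.ext (funext fun m => ?_)
    refine WidePullback.hom_ext _ _ _ (fun j => ?_) ?_
    · rw [NatTrans.comp_app, NatTrans.comp_app, Category.assoc, Category.assoc]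
      erw [Category.id_comp, WidePullback.lift_π, WidePullback.lift_π, WidePullback.lift_π]
      rfl
    · rw [NatTrans.comp_app, NatTrans.comp_app, Category.assoc, Category.assoc]
      erw [Category.id_comp, WidePullback.lift_base, WidePullback.lift_base]
      exact (WidePullback.lift_base _ _ _ _).symm

/-- Maps agreeing over the base are homotopic over the base. -/
def HomotopyLift : Prop :=
  ∀ (X : SimplicialObject C) (f g : X ⟶ B), f ≫ u = g ≫ u → ∃ H : SimplicialObject.Homotopy f g,
    ∀ (n : ℕ) (i : Fin (n + 1)), H.h i ≫ u.app (op ⦋n + 1⦌) = (SimplicialObject.Homotopy.refl (f ≫ u)).h i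

variable {u}

theorem HomotopyLift.homotopy_zDiag (hu : HomotopyLift u) (p : SimplexCategoryᵒᵖ) :
    Nonempty (SimplicialObject.Homotopy (zPr u p 0 ≫ (zDiag u).app p) (𝟙 (ZZ u p))) := by
  let f := zPr u p 0 ≫ (zDiag u).app p
  have hf : ∀ j, f ≫ zPr u p j = zPr u p 0 := fun j => NatTrans.ext (funext fun m =>
    (Category.assoc _ _ _).trans ((congrArg (_ ≫ ·) (WidePullback.lift_π _ _ _ _ _)).trans (Category.comp_id _)))
  have hb : f ≫ zBase u p = zBase u p := NatTrans.ext (funext fun m =>
    (Category.assoc _ _ _).trans ((congrArg (_ ≫ ·) (WidePullback.lift_base _ _ _ _)).trans (WidePullback.π_arrow _ 0)))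
  have hj : ∀ j, (f ≫ zPr u p j) ≫ u = (𝟙 (ZZ u p) ≫ zPr u p j) ≫ u := fun j =>
    ((Category.assoc _ _ _).trans ((congrArg (f ≫ ·) (zPr_base u p j)).trans hb)).trans
      ((congrArg (· ≫ u) (Category.id_comp _)).trans (zPr_base u p j)).symm
  choose H hH using fun j => hu _ _ _ (hj j)
  let R := SimplicialObject.Homotopy.refl (zBase u p)
  have hR : ∀ (j) (n : ℕ) (i : Fin (n + 1)), (H j).h i ≫ u.app (op ⦋n + 1⦌) = R.h i := fun j n i =>
    (hH j n i).trans (congrArg (fun q => (SimplicialObject.Homotopy.refl q).h i)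
      ((Category.assoc _ _ _).trans ((congrArg (f ≫ ·) (zPr_base u p j)).trans hb)))
  let h : ∀ {n : ℕ} (i : Fin (n + 1)), (ZZ u p).obj (op ⦋n⦌) ⟶ (ZZ u p).obj (op ⦋n + 1⦌) := fun {n} i =>
    WidePullback.lift (R.h i) (fun j => (H j).h i) (fun j => hR j n i)
  have eb : ∀ {n : ℕ} (i : Fin (n + 1)), h i ≫ (zBase u p).app (op ⦋n + 1⦌) = R.h i := fun i => WidePullback.lift_base _ _ _ _
  have eπ : ∀ {n : ℕ} (i : Fin (n + 1)) (j), h i ≫ (zPr u p j).app (op ⦋n + 1⦌) = (H j).h i := fun i j =>
    WidePullback.lift_π _ _ _ _ _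
  have ext : ∀ {T : C} {m : SimplexCategoryᵒᵖ} (a b : T ⟶ (ZZ u p).obj m),
      (∀ j, a ≫ (zPr u p j).app m = b ≫ (zPr u p j).app m) → a ≫ (zBase u p).app m = b ≫ (zBase u p).app m → a = b :=
    fun a b h₁ h₂ => WidePullback.hom_ext _ a b h₁ h₂
  refine ⟨{
    h := @h
    h_zero_comp_δ_zero := fun n => ext _ _ (fun j => ?_) ?_
    h_last_comp_δ_last := fun n => ext _ _ (fun j => ?_) ?_
    h_succ_comp_δ_castSucc_of_lt := fun i k hik => ext _ _ (fun j => ?_) ?_
    h_succ_comp_δ_castSucc_succ := fun k => ext _ _ (fun j => ?_) ?_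
    h_castSucc_comp_δ_succ_of_lt := fun i k hik => ext _ _ (fun j => ?_) ?_
    h_comp_σ_castSucc_of_le := fun i k hik => ext _ _ (fun j => ?_) ?_
    h_comp_σ_succ_of_lt := fun i k hik => ext _ _ (fun j => ?_) ?_ }⟩
  all_goals
    simp only [Category.assoc, SimplicialObject.δ_naturality, SimplicialObject.σ_naturality]
    simp only [← Category.assoc, eb, eπ]
  · exact ((H j).h_zero_comp_δ_zero n).trans rfl
  · exact (R.h_zero_comp_δ_zero n).trans (Category.id_comp _).symm
  · exact ((H j).h_last_comp_δ_last n).trans rfl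
  · exact (R.h_last_comp_δ_last n).trans (congr_app hb (op ⦋n⦌)).symm
  · exact (H j).h_succ_comp_δ_castSucc_of_lt i k hik
  · exact R.h_succ_comp_δ_castSucc_of_lt i k hik
  · exact (H j).h_succ_comp_δ_castSucc_succ k
  · exact R.h_succ_comp_δ_castSucc_succ k
  · exact (H j).h_castSucc_comp_δ_succ_of_lt i k hik
  · exact R.h_castSucc_comp_δ_succ_of_lt i k hik
  · exact (H j).h_comp_σ_castSucc_of_le i k hik
  · exact R.h_comp_σ_castSucc_of_le i k hik
  · exact (H j).h_comp_σ_succ_of_lt i k hik
  · exact R.h_comp_σ_succ_of_lt i k hik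

theorem zDiag_zPr (p : SimplexCategoryᵒᵖ) (j : Fin (p.unop.len + 1)) : (zDiag u).app p ≫ zPr u p j = 𝟙 B :=
  NatTrans.ext (funext fun _ => WidePullback.lift_π _ _ _ _ _)

/-- The double complexes of the Čech nerves. -/
noncomputable abbrev gsW : CosimplicialObject DC.{u} := (WW u).rightOp ⋙ Gs G

/-- The triple complex. -/
noncomputable abbrev TC1 : TC.{u} := (alternatingCofaceMapComplex DC.{u}).obj (gsW G (u := u))

variable (u) in
/-- The augmentations of the Čech nerves, as a map of cosimplicial complexes. -/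
noncomputable def augNat : gx G A ⟶ gsW G (u := u) ⋙ totF where
  app m := aug G (etaW u (op m))
  naturality m m' g := (aug_natural G (etaW u (op m)) (etaW u (op m')) ((WW u).map g.op) (A.map g.op)
    (NatTrans.ext (funext fun _ => WidePullback.lift_base _ _ _ _))).symm

/-- Total complexes commute with the alternating sum. -/
noncomputable def dcTot (X : CosimplicialObject DC.{u}) :
    dcF.obj (X ⋙ totF) ≅ collapse ((alternatingCofaceMapComplex DC.{u}).obj X) :=
  HomologicalComplex.Hom.isoOfComponents (fun i => Iso.refl _) (fun i j hij => by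
    obtain rfl : i + 1 = j := hij
    refine (Category.id_comp _).trans (Eq.trans ?_ (Category.comp_id _).symm)
    refine Eq.trans ?_ (dcF_d (X ⋙ totF) i).symm
    refine (congrArg totF.map (CochainComplex.of_d (fun n => X.obj ⦋n⦌) (AlternatingCofaceMapComplex.objD X) i)).trans ?_
    rw [AlternatingCofaceMapComplex.objD, AlternatingCofaceMapComplex.objD, Functor.map_sum]
    exact Finset.sum_congr rfl fun j _ => Functor.map_zsmul _)

/-- Exchanging the indices gives the double complexes of the powers. -/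
noncomputable def flipIso (p : ℕ) : (tflip (TC1 G (u := u))).X p ≅ (Gs G).obj (op (ZZ u (op ⦋p⦌))) :=
  HomologicalComplex.Hom.isoOfComponents (fun m => Iso.refl _) (fun i j hij => by
    obtain rfl : i + 1 = j := hij
    refine (Category.id_comp _).trans (Eq.trans ?_ (Category.comp_id _).symm)
    refine (dcF_d (gx G (ZZ u (op ⦋p⦌))) i).trans ?_
    refine Eq.trans ?_ (congrArg (fun q => HomologicalComplex.Hom.f q p)
      (CochainComplex.of_d (fun n => (gsW G (u := u)).obj ⦋n⦌) (AlternatingCofaceMapComplex.objD (gsW G (u := u))) i).symm)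
    rw [AlternatingCofaceMapComplex.objD, AlternatingCofaceMapComplex.objD]
    let ev := HomologicalComplex.Hom.fAddMonoidHom (C₁ := (gsW G (u := u)).obj ⦋i⦌) (C₂ := (gsW G (u := u)).obj ⦋i + 1⦌) p
    refine Eq.trans ?_ (map_sum ev _ _).symm
    exact Finset.sum_congr rfl fun j _ => Eq.trans rfl (map_zsmul ev ((-1 : ℤ) ^ (j : ℕ)) ((gsW G (u := u)).δ j)).symm)

/-- The double complexes of the powers. -/
noncomputable abbrev gsZ : CosimplicialObject DC.{u} := (WW u).flip.rightOp ⋙ Gs G

theorem flip_d (p : ℕ) :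
    (tflip (TC1 G (u := u))).d p (p + 1) ≫ (flipIso G (u := u) (p + 1)).hom =
      (flipIso G (u := u) p).hom ≫ ((alternatingCofaceMapComplex DC.{u}).obj (gsZ G (u := u))).d p (p + 1) := by
  refine HomologicalComplex.hom_ext _ _ fun m => ?_
  refine (Category.comp_id _).trans (Eq.trans ?_ (Category.id_comp _).symm)
  refine (dcF_d (gx G ((WW u).obj (op ⦋m⦌))) p).trans ?_
  refine Eq.trans ?_ (congrArg (fun q => HomologicalComplex.Hom.f q m)
    (CochainComplex.of_d (fun n => (gsZ G (u := u)).obj ⦋n⦌) (AlternatingCofaceMapComplex.objD (gsZ G (u := u))) p).symm)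
  let ev := HomologicalComplex.Hom.fAddMonoidHom (C₁ := (gsZ G (u := u)).obj ⦋p⦌) (C₂ := (gsZ G (u := u)).obj ⦋p + 1⦌) m
  refine Eq.trans ?_ (map_sum ev _ _).symm
  exact Finset.sum_congr rfl fun j _ => Eq.trans rfl (map_zsmul ev ((-1 : ℤ) ^ (j : ℕ)) ((gsZ G (u := u)).δ j)).symm

/-- Exchanging the indices of the triple complex. -/
noncomputable def triFlip : tflip (TC1 G (u := u)) ≅ (alternatingCofaceMapComplex DC.{u}).obj (gsZ G (u := u)) :=
  HomologicalComplex.Hom.isoOfComponents (fun p => flipIso G p) (fun i j hij => by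
    obtain rfl : i + 1 = j := hij
    exact (flip_d G i).symm)

/-- The diagonals, as a map to a constant cosimplicial complex. -/
noncomputable def diagNat : gsZ G (u := u) ⋙ totF ⟶ (CosimplicialObject.const _).obj ((Ts G).obj (op B)) where
  app p := (Ts G).map ((zDiag u).app (op p)).op
  naturality p q g := ((((Ts G).map_comp _ _).symm.trans (congrArg (fun z => (Ts G).map z)
    (congrArg Quiver.Hom.op (((zDiag u).naturality g.op).symm.trans (Category.id_comp _))))).trans (Category.comp_id _).symm)

/-- The diagonal map to the constant double complex. -/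
noncomputable def diagHom : collapse (tflip (TC1 G (u := u))) ⟶ constDC ((Ts G).obj (op B)) :=
  (totF.mapHomologicalComplex (ComplexShape.up ℕ)).map (triFlip G).hom ≫ (dcTot (gsZ G (u := u))).inv ≫
    dcF.map (diagNat G)

theorem map_op_apply {X Y Z : C} (f : X ⟶ Y) (g : Y ⟶ Z) (k : ℤ) (w : (G.obj (op Z)).X k) :
    (G.map f.op).f k ((G.map g.op).f k w) = (G.map (f ≫ g).op).f k w := by
  rw [op_comp, G.map_comp]
  rfl

theorem composite_eq :
    totMap (dcF.map (augNat G u) ≫ (dcTot (gsW G (u := u))).hom) ≫ fub (TC1 G (u := u)) ≫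
      proj₀ (collapse (tflip (TC1 G (u := u)))) ≫ (diagHom G (u := u)).f 0 = (Ts G).map u.op :=
  HomologicalComplex.hom_ext _ _ fun n => AddCommGrpCat.hom_ext (AddMonoidHom.ext fun x =>
    Subtype.ext (funext fun m => funext fun k => by
      let z := (x : TX (dcF.obj (gx G A)) n).1
      show (G.map ((((zDiag u).app (op ⦋0⦌))).app (op ⦋m⦌)).op).f k
        (fubVal (TC1 G (u := u)) (fun p l => (⟨sing ((TC1 G (u := u)).X p) 0 l ((G.map ((etaW u (op ⦋p⦌)).app (op ⦋0⦌)).op).f l (z p l)),
          sing_mem 0 l _ (natCast_zero_add l)⟩ : TX ((TC1 G (u := u)).X p) l)) 0 n m k) =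
        (G.map (u.app (op ⦋m⦌)).op).f k (z m k)
      by_cases hmk : (m : ℤ) + k = n
      · rw [fubVal_pos _ _ 0 m k hmk, fs, mul_zero, pow_zero, one_zsmul,
          show (((0 : ℕ) : ℤ) + k) = k from natCast_zero_add k]
        dsimp only
        rw [sing, Pi.single_eq_same, Pi.single_eq_same]
        refine (map_op_apply G _ _ k (z m k)).trans ?_
        exact congrArg (fun q : B.obj (op ⦋m⦌) ⟶ A.obj (op ⦋m⦌) => (G.map q.op).f k (z m k))
          (WidePullback.lift_base _ _ _ _)
      · rw [fubVal_neg _ _ 0 m k hmk, map_zero, show z m k = 0 from (x : TX (dcF.obj (gx G A)) n).2 m k hmk, map_zero]))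

/-- The step. -/
theorem quasiIso_Ts_map_of_levelwise (hG : ∀ Y (k : ℤ), k < 0 → Subsingleton ((G.obj Y).X k)) (hu : HomotopyLift u)
    (hc : ∀ m, QuasiIso (aug G (etaW u m))) : QuasiIso ((Ts G).map u.op) := by
  have : ∀ i, QuasiIso ((dcF.map (augNat G u) ≫ (dcTot (gsW G (u := u))).hom).f i) := fun i => by
    have := hc (op ⦋i⦌)
    exact inferInstanceAs (QuasiIso (aug G (etaW u (op ⦋i⦌)) ≫ 𝟙 _))
  have h₁ := quasiIso_totMap (dcF.map (augNat G u) ≫ (dcTot (gsW G (u := u))).hom)
  have h₂ := quasiIso_fub (TC1 G (u := u))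
  have hd : ∀ p, QuasiIso ((diagHom G (u := u)).f p) := fun p => by
    have := quasiIso_Ts_map G (φ := (zDiag u).app (op ⦋p⦌)) (zDiag_zPr (op ⦋p⦌) 0) (hu.homotopy_zDiag (op ⦋p⦌))
    have : IsIso (totMap (flipIso G (u := u) p).hom) := inferInstanceAs (IsIso (totF.map (flipIso G (u := u) p).hom))
    exact inferInstanceAs (QuasiIso (totMap (flipIso G (u := u) p).hom ≫ 𝟙 _ ≫ (Ts G).map ((zDiag u).app (op ⦋p⦌)).op))
  have h₃ : QuasiIso (proj₀ (collapse (tflip (TC1 G (u := u))))) :=
    quasiIso_proj₀_of_const _ (diagHom G) fun k hk => tot_subsingleton (fun _ l hl => hG _ l hl) k hk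
  have h₄ := hd 0
  rw [← composite_eq G]
  infer_instance

end Step

end Groth.L10.HDesc
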