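import Groth.Prelude.Def_CohTop
import Mathlib.CategoryTheory.Comma.Over.Basic
import Mathlib.Topology.Sheaves.SheafCondition.UniqueGluing

/-!
Presheaves on pairs (space over a base, open subset) and their sheaves of discontinuous sections.
-/

universe u

open CategoryTheory CategoryTheory.Limits Opposite TopologicalSpace

set_option backward.defeqAttrib.useBackward true
set_option backward.isDefEq.respectTransparency false
set_option backward.isDefEq.respectTransparency.types false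
set_option autoImplicit false

namespace Groth.L10.HDesc

variable {S : TopCat.{u}}

/-- A space over the base with an open subset. -/
structure OpO (S : TopCat.{u}) : Type (u + 1) where
  /-- The space. -/
  X : Over S
  /-- The open subset. -/
  V : Opens X.left

/-- Morphisms. -/
@[ext]
structure OpHom (a b : OpO S) : Type u where
  /-- The map. -/
  f : a.X ⟶ b.X
  le : a.V ≤ (Opens.map f.left).obj b.V

instance : Category.{u} (OpO S) where
  Hom := OpHom
  id a := ⟨𝟙 a.X, fun _ h => h⟩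
  comp φ ψ := ⟨(OpHom.f φ) ≫ ψ.f, fun x h => (OpHom.le ψ) ((OpHom.le φ) h)⟩
  id_comp φ := OpHom.ext (Category.id_comp _)
  comp_id φ := OpHom.ext (Category.comp_id _)
  assoc φ ψ χ := OpHom.ext (Category.assoc _ _ _)

/-- Constructor of morphisms. -/
abbrev mkHom {a b : OpO S} (f : a.X ⟶ b.X) (h : a.V ≤ (Opens.map f.left).obj b.V) : a ⟶ b := OpHom.mk f h

theorem hom_ext' {a b : OpO S} {φ ψ : a ⟶ b} (h : (OpHom.f φ) = (OpHom.f ψ)) : φ = ψ := OpHom.ext h

/-- Presheaves of abelian groups on pairs. -/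
abbrev Sys (S : TopCat.{u}) : Type (u + 1) := (OpO S)ᵒᵖ ⥤ AddCommGrpCat.{u}

/-- The inclusion of the opens of one space. -/
def inX (X : Over S) : Opens X.left ⥤ OpO S where
  obj V := ⟨X, V⟩
  map {V W} h := mkHom (a := ⟨X, V⟩) (b := ⟨X, W⟩) (𝟙 X) h.le
  map_id V := rfl
  map_comp h h' := hom_ext' (Category.id_comp _).symm

/-- The presheaf on one space. -/
abbrev res (Q : Sys S) (X : Over S) : TopCat.Presheaf AddCommGrpCat.{u} X.left := (inX X).op ⋙ Q

/-- Pulling back along a map over the base. -/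
def pullNat (Q : Sys S) {X X' : Over S} (f : X ⟶ X') :
    res Q X' ⟶ (TopCat.Presheaf.pushforward AddCommGrpCat.{u} f.left).obj (res Q X) where
  app V := Q.map (mkHom (a := ⟨X, (Opens.map f.left).obj V.unop⟩) (b := ⟨X', V.unop⟩) f le_rfl).op
  naturality V W h := by
    show Q.map _ ≫ Q.map _ = Q.map _ ≫ Q.map _
    rw [← Q.map_comp, ← Q.map_comp]
    exact congrArg (fun z => Q.map z) (Quiver.Hom.unop_inj (hom_ext'
      (show f ≫ 𝟙 _ = 𝟙 _ ≫ f by rw [Category.id_comp, Category.comp_id])))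

/-- The map of stalks. -/
noncomputable def stalkMap (Q : Sys S) {X X' : Over S} (f : X ⟶ X') (x : X.left) :
    (res Q X').stalk (f.left x) ⟶ (res Q X).stalk x :=
  (TopCat.Presheaf.stalkFunctor AddCommGrpCat.{u} (f.left x)).map (pullNat Q f) ≫
    TopCat.Presheaf.stalkPushforward AddCommGrpCat.{u} f.left (res Q X) x

/-- A germ. -/
noncomputable abbrev gm (Q : Sys S) (a : OpO S) (x : a.X.left) (hx : x ∈ a.V) (q : Q.obj (op a)) : (res Q a.X).stalk x :=
  TopCat.Presheaf.germ (C := AddCommGrpCat.{u}) (X := a.X.left) (res Q a.X) a.V x hx q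

theorem stalkMap_gm (Q : Sys S) {X : Over S} {b : OpO S} (f : X ⟶ b.X) (x : X.left) (hx : f.left x ∈ b.V)
    (q : Q.obj (op b)) :
    stalkMap Q f x (gm Q b (f.left x) hx q) =
      gm Q ⟨X, (Opens.map f.left).obj b.V⟩ x hx (Q.map (mkHom (a := ⟨X, _⟩) (b := b) f le_rfl).op q) := by
  rw [stalkMap, ConcreteCategory.comp_apply]
  erw [TopCat.Presheaf.stalkFunctor_map_germ_apply]
  exact TopCat.Presheaf.stalkPushforward_germ_apply _ _ _ _ _ _ _

theorem gm_res (Q : Sys S) {X : Over S} {V W : Opens X.left} (h : W ≤ V) (x : X.left) (hx : x ∈ W)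
    (q : Q.obj (op (⟨X, V⟩ : OpO S))) :
    gm Q ⟨X, W⟩ x hx (Q.map ((inX X).map (homOfLE h)).op q) = gm Q ⟨X, V⟩ x (h hx) q :=
  TopCat.Presheaf.germ_res_apply (C := AddCommGrpCat.{u}) (res Q X) (homOfLE h) x hx q

theorem gm_map (Q : Sys S) {a b : OpO S} (φ : a ⟶ b) (x : a.X.left) (hx : x ∈ a.V) (q : Q.obj (op b)) :
    gm Q a x hx (Q.map φ.op q) = stalkMap Q (OpHom.f φ) x (gm Q b ((OpHom.f φ).left x) ((OpHom.le φ) hx) q) := by
  refine Eq.trans ?_ (stalkMap_gm Q (OpHom.f φ) x ((OpHom.le φ) hx) q).symm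
  refine Eq.trans ?_ (gm_res Q (OpHom.le φ) x hx _)
  have e : φ.op = (mkHom (a := ⟨a.X, (Opens.map (OpHom.f φ).left).obj b.V⟩) (b := b) (OpHom.f (a := a) φ) le_rfl).op ≫
      ((inX a.X).map (homOfLE (OpHom.le φ))).op :=
    Quiver.Hom.unop_inj (hom_ext' (Category.id_comp _).symm)
  exact congrArg (gm Q a x hx) ((congrArg (fun z => Q.map z q) e).trans congr($(Q.map_comp _ _) q))

theorem exists_gm (Q : Sys S) (X : Over S) (x : X.left) (z : (res Q X).stalk x) :
    ∃ (V : Opens X.left) (hx : x ∈ V) (q : Q.obj (op (⟨X, V⟩ : OpO S))), gm Q ⟨X, V⟩ x hx q = z :=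
  TopCat.Presheaf.exists_germ_eq (C := AddCommGrpCat.{u}) (res Q X) z

theorem stalkMap_id (Q : Sys S) (X : Over S) (x : X.left) (z : (res Q X).stalk x) : stalkMap Q (𝟙 X) x z = z := by
  obtain ⟨V, hx, q, rfl⟩ := exists_gm Q X x z
  refine (gm_map Q (𝟙 (⟨X, V⟩ : OpO S)) x hx q).symm.trans ?_
  rw [op_id, Q.map_id]
  rfl

theorem stalkMap_comp (Q : Sys S) {X X' X'' : Over S} (f : X ⟶ X') (g : X' ⟶ X'') (x : X.left)
    (z : (res Q X'').stalk ((f ≫ g).left x)) :
    stalkMap Q (f ≫ g) x z = stalkMap Q f x (stalkMap Q g (f.left x) z) := by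
  obtain ⟨V, hx, q, rfl⟩ := exists_gm Q X'' _ z
  let a : OpO S := ⟨X, (Opens.map (f ≫ g).left).obj V⟩
  let b : OpO S := ⟨X', (Opens.map g.left).obj V⟩
  let c : OpO S := ⟨X'', V⟩
  let φ : a ⟶ b := mkHom f (fun y h => h)
  let ψ : b ⟶ c := mkHom g le_rfl
  refine (gm_map Q (φ ≫ ψ) x hx q).symm.trans ?_
  rw [op_comp, Q.map_comp, ConcreteCategory.comp_apply, gm_map Q φ x hx, gm_map Q ψ (f.left x) hx]
  rfl

/-- Discontinuous sections. -/
noncomputable abbrev G0Obj (Q : Sys S) (a : OpO S) : AddCommGrpCat.{u} :=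
  AddCommGrpCat.of (∀ x : a.V, (res Q a.X).stalk x.1)

/-- The system of discontinuous sections. -/
@[reducible] noncomputable def G0 (Q : Sys S) : Sys S where
  obj a := G0Obj Q a.unop
  map {b a} φ := AddCommGrpCat.ofHom (AddMonoidHom.mk'
    (fun (s : ∀ x : b.unop.V, (res Q b.unop.X).stalk x.1) (x : a.unop.V) =>
      stalkMap Q (OpHom.f φ.unop) x.1 (s ⟨(OpHom.f φ.unop).left x.1, (OpHom.le φ.unop) x.2⟩))
    (fun s t => funext fun x => map_add _ _ _))
  map_id a := AddCommGrpCat.hom_ext (AddMonoidHom.ext fun s => funext fun x => stalkMap_id Q _ _ _)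
  map_comp φ ψ := AddCommGrpCat.hom_ext (AddMonoidHom.ext fun s => funext fun x => stalkMap_comp Q (OpHom.f ψ.unop) (OpHom.f φ.unop) x.1 _)

theorem G0_map_apply (Q : Sys S) {a b : OpO S} (φ : a ⟶ b) (s : (G0 Q).obj (op b)) (x : a.V) :
    ((G0 Q).map φ.op s : G0Obj Q a) x = stalkMap Q (OpHom.f φ) x.1 ((s : G0Obj Q b) ⟨(OpHom.f φ).left x.1, (OpHom.le φ) x.2⟩) := rfl

theorem G0_res_apply (Q : Sys S) {X : Over S} {V W : Opens X.left} (h : W ≤ V) (s : (G0 Q).obj (op (⟨X, V⟩ : OpO S)))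
    (x : W) : ((G0 Q).map ((inX X).map (homOfLE h)).op s : G0Obj Q ⟨X, W⟩) x = (s : G0Obj Q ⟨X, V⟩) ⟨x.1, h x.2⟩ :=
  stalkMap_id Q X x.1 _

/-- Germs. -/
noncomputable def eps (Q : Sys S) : Q ⟶ G0 Q where
  app a := AddCommGrpCat.ofHom (AddMonoidHom.mk' (fun q (x : a.unop.V) => gm Q a.unop x.1 x.2 q)
    (fun q r => funext fun x => map_add _ q r))
  naturality b a φ := AddCommGrpCat.hom_ext (AddMonoidHom.ext fun q => funext fun x => gm_map Q φ.unop x.1 x.2 q)

theorem eps_apply (Q : Sys S) (a : OpO S) (q : Q.obj (op a)) (x : a.V) :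
    ((eps Q).app (op a) q : G0Obj Q a) x = gm Q a x.1 x.2 q := rfl

/-- The sheaf condition on every space. -/
def IsSheafSys (Q : Sys S) : Prop := ∀ X : Over S, TopCat.Presheaf.IsSheaf (res Q X)

theorem isSheafSys_G0 (Q : Sys S) : IsSheafSys (G0 Q) := fun X => by
  rw [TopCat.Presheaf.isSheaf_iff_isSheafUniqueGluing]
  intro ι U sf hsf
  have hsup : ∀ x : (iSup U : Opens X.left), ∃ i, x.1 ∈ U i := fun x => Opens.mem_iSup.1 x.2
  choose i hi using hsup
  let s : G0Obj Q ⟨X, iSup U⟩ := fun x => (sf (i x) : G0Obj Q ⟨X, U (i x)⟩) ⟨x.1, hi x⟩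
  refine ⟨s, fun j => funext fun x => ?_, fun t ht => funext fun x => ?_⟩
  · refine (G0_res_apply Q (le_iSup U j) s x).trans ?_
    have := congr_fun (hsf (i ⟨x.1, le_iSup U j x.2⟩) j) ⟨x.1, hi ⟨x.1, le_iSup U j x.2⟩, x.2⟩
    exact (G0_res_apply Q inf_le_left _ _).symm.trans (this.trans (G0_res_apply Q inf_le_right _ _))
  · refine Eq.trans ?_ (congr_fun (ht (i x)) ⟨x.1, hi x⟩)
    exact (G0_res_apply Q (le_iSup U (i x)) t ⟨x.1, hi x⟩).symm

theorem G0_surjective (Q : Sys S) {X : Over S} {V W : Opens X.left} (h : W ≤ V) :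
    Function.Surjective ((G0 Q).map ((inX X).map (homOfLE h)).op) := fun t => by
  classical
  let s : G0Obj Q ⟨X, V⟩ := fun x => if hx : x.1 ∈ W then (t : G0Obj Q ⟨X, W⟩) ⟨x.1, hx⟩ else 0
  exact ⟨s, funext fun x => (G0_res_apply Q h s x).trans (dif_pos x.2)⟩

end Groth.L10.HDesc
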