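import Mathlib.Algebra.Category.Grp.Preadditive
import Mathlib.Algebra.Category.Grp.Abelian
import Mathlib.Algebra.Homology.Additive
import Mathlib.Algebra.Homology.HomologicalComplex
import Mathlib.Algebra.Group.Pi.Lemmas
import Mathlib.Tactic.Abel

/-!
Total complexes of double complexes of abelian groups, through elements supported on antidiagonals.
-/

universe u

open CategoryTheory Limits

set_option backward.isDefEq.respectTransparency false
set_option autoImplicit false

namespace Groth.L10.HDesc

/-- Double complexes: a complex in nonnegative degrees of complexes. -/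
abbrev DC : Type (u + 1) := CochainComplex (CochainComplex AddCommGrpCat.{u} ℤ) ℕ

variable (E : DC.{u})

/-- Families on all bidegrees. -/
abbrev All : Type u := ∀ (i : ℕ) (k : ℤ), (E.X i).X k

/-- Families supported on an antidiagonal. -/
def TX (n : ℤ) : AddSubgroup (All E) where
  carrier := {x | ∀ (i : ℕ) (k : ℤ), (i : ℤ) + k ≠ n → x i k = 0}
  zero_mem' := fun _ _ _ => rfl
  add_mem' := fun {x y} hx hy i k h => by
    show x i k + y i k = 0
    rw [hx i k h, hy i k h, add_zero]
  neg_mem' := fun {x} hx i k h => by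
    show -x i k = 0
    rw [hx i k h, neg_zero]

/-- The sign of a column. -/
abbrev sgn (i : ℕ) : ℤ := (-1) ^ i

theorem sgn_mul_sgn (i : ℕ) : sgn i * sgn i = 1 := by
  rw [← mul_pow]; simp

/-- The total differential. -/
noncomputable def D : All E →+ All E :=
  AddMonoidHom.mk' (fun x i k => sgn i • (E.X i).d (k - 1) k (x i (k - 1)) + (E.d (i - 1) i).f k (x (i - 1) k))
    (fun x y => funext fun i => funext fun k => by
      simp only [Pi.add_apply, map_add, smul_add]
      abel)

theorem D_apply (x : All E) (i : ℕ) (k : ℤ) :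
    D E x i k = sgn i • (E.X i).d (k - 1) k (x i (k - 1)) + (E.d (i - 1) i).f k (x (i - 1) k) := rfl

theorem dh_zero (k : ℤ) (z : (E.X 0).X k) : (E.d (0 - 1) 0).f k z = 0 := by
  rw [E.shape _ _ (by simp)]
  rfl

theorem D_zero_apply (x : All E) (k : ℤ) : D E x 0 k = (E.X 0).d (k - 1) k (x 0 (k - 1)) := by
  rw [D_apply, dh_zero, add_zero, sgn, pow_zero, one_zsmul]

theorem D_succ_apply (x : All E) (i : ℕ) (k : ℤ) :
    D E x (i + 1) k = sgn (i + 1) • (E.X (i + 1)).d (k - 1) k (x (i + 1) (k - 1)) + (E.d i (i + 1)).f k (x i k) := rfl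

theorem D_mem {x : All E} {n : ℤ} (hx : x ∈ TX E n) {m : ℤ} (hm : n + 1 = m) : D E x ∈ TX E m := by
  intro i k h
  rw [D_apply, hx i (k - 1) (by omega), map_zero, smul_zero, zero_add]
  cases i with
  | zero => exact dh_zero E k _
  | succ i =>
    have e : x i k = 0 := hx i k (by omega)
    show (E.d i (i + 1)).f k (x i k) = 0
    rw [e, map_zero]

variable {E}

theorem dv_dv (i : ℕ) (k l m : ℤ) (z : (E.X i).X k) : (E.X i).d l m ((E.X i).d k l z) = 0 := by
  rw [← ConcreteCategory.comp_apply, HomologicalComplex.d_comp_d]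
  rfl

theorem dh_dh (i j l : ℕ) (k : ℤ) (z : (E.X i).X k) : (E.d j l).f k ((E.d i j).f k z) = 0 := by
  rw [← ConcreteCategory.comp_apply, ← HomologicalComplex.comp_f, HomologicalComplex.d_comp_d]
  rfl

theorem dv_dh (i j : ℕ) (k l : ℤ) (z : (E.X i).X k) :
    (E.X j).d k l ((E.d i j).f k z) = (E.d i j).f l ((E.X i).d k l z) := by
  rw [← ConcreteCategory.comp_apply, ← ConcreteCategory.comp_apply, (E.d i j).comm]

theorem D_D (x : All E) : D E (D E x) = 0 := funext fun i => funext fun k => by
  cases i with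
  | zero => rw [D_zero_apply, D_zero_apply, dv_dv]; rfl
  | succ i =>
    rw [D_succ_apply, D_succ_apply, map_add, map_zsmul, dv_dv, smul_zero, zero_add, dv_dh]
    cases i with
    | zero =>
      rw [D_zero_apply, sgn, pow_one, neg_one_zsmul]
      exact neg_add_cancel _
    | succ i =>
      rw [D_succ_apply, map_add, dh_dh, add_zero, map_zsmul, ← add_smul]
      have : sgn (i + 1 + 1) + sgn (i + 1) = 0 := by rw [sgn, sgn, pow_succ]; ring
      rw [this, zero_smul]
      rfl

variable (E)

/-- The differential between two degrees. -/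
noncomputable def totD (n m : ℤ) : AddCommGrpCat.of (TX E n) ⟶ AddCommGrpCat.of (TX E m) :=
  if h : n + 1 = m then
    AddCommGrpCat.ofHom (((D E).comp (TX E n).subtype).codRestrict (TX E m) fun x => D_mem E x.2 h)
  else 0

theorem totD_val {n m : ℤ} (h : n + 1 = m) (x : TX E n) : ((totD E n m x : TX E m) : All E) = D E x.1 := by
  rw [totD, dif_pos h]
  rfl

/-- The total complex. -/
noncomputable def tot : CochainComplex AddCommGrpCat.{u} ℤ where
  X n := AddCommGrpCat.of (TX E n)
  d n m := totD E n m
  shape n m h := dif_neg h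
  d_comp_d' n m l h h' := AddCommGrpCat.hom_ext (AddMonoidHom.ext fun x => Subtype.ext (by
    show ((totD E m l (totD E n m x) : TX E l) : All E) = 0
    rw [totD_val E h', totD_val E h, D_D]))

theorem tot_d_val {n m : ℤ} (h : n + 1 = m) (x : (tot E).X n) :
    (((tot E).d n m x : (tot E).X m) : TX E m).1 = D E (x : TX E n).1 :=
  totD_val E h x

variable {E}
variable {F G : DC.{u}}

/-- A map on families. -/
noncomputable def mapAll (φ : E ⟶ F) : All E →+ All F :=
  AddMonoidHom.mk' (fun x i k => (φ.f i).f k (x i k)) (fun x y => funext fun i => funext fun k => map_add _ _ _)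

theorem mapAll_apply (φ : E ⟶ F) (x : All E) (i : ℕ) (k : ℤ) : mapAll φ x i k = (φ.f i).f k (x i k) := rfl

theorem map_dv (φ : E ⟶ F) (i : ℕ) (k l : ℤ) (z : (E.X i).X k) :
    (φ.f i).f l ((E.X i).d k l z) = (F.X i).d k l ((φ.f i).f k z) := by
  rw [← ConcreteCategory.comp_apply, ← ConcreteCategory.comp_apply, (φ.f i).comm]

theorem map_dh (φ : E ⟶ F) (i j : ℕ) (k : ℤ) (z : (E.X i).X k) :
    (φ.f j).f k ((E.d i j).f k z) = (F.d i j).f k ((φ.f i).f k z) := by
  rw [← ConcreteCategory.comp_apply, ← ConcreteCategory.comp_apply, ← HomologicalComplex.comp_f,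
    ← HomologicalComplex.comp_f, φ.comm]

theorem mapAll_mem (φ : E ⟶ F) {x : All E} {n : ℤ} (hx : x ∈ TX E n) : mapAll φ x ∈ TX F n := fun i k h => by
  rw [mapAll_apply, hx i k h, map_zero]

theorem mapAll_D (φ : E ⟶ F) (x : All E) : mapAll φ (D E x) = D F (mapAll φ x) := funext fun i => funext fun k => by
  rw [mapAll_apply, D_apply, D_apply, map_add, map_zsmul, map_dv, map_dh]
  rfl

/-- The map of total complexes. -/
noncomputable def totMap (φ : E ⟶ F) : tot E ⟶ tot F where
  f n := AddCommGrpCat.ofHom (((mapAll φ).comp (TX E n).subtype).codRestrict (TX F n) fun x => mapAll_mem φ x.2)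
  comm' n m h := AddCommGrpCat.hom_ext (AddMonoidHom.ext fun x => Subtype.ext (by
    show ((totD F n m _ : TX F m) : All F) = mapAll φ ((totD E n m x : TX E m) : All E)
    rw [totD_val F h, totD_val E h]
    exact (mapAll_D φ _).symm))

theorem totMap_val (φ : E ⟶ F) (n : ℤ) (x : (tot E).X n) :
    ((totMap φ).f n x : TX F n).1 = mapAll φ (x : TX E n).1 := rfl

/-- The total complex as a functor. -/
noncomputable def totF : DC.{u} ⥤ CochainComplex AddCommGrpCat.{u} ℤ where
  obj E := tot E
  map φ := totMap φ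
  map_id E := HomologicalComplex.hom_ext _ _ fun n => rfl
  map_comp φ ψ := HomologicalComplex.hom_ext _ _ fun n => rfl

instance : totF.{u}.Additive where
  map_add {E F φ ψ} := HomologicalComplex.hom_ext _ _ fun n => AddCommGrpCat.hom_ext (AddMonoidHom.ext fun x => rfl)

end Groth.L10.HDesc
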