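import Groth.Agent.L10.HDesc.Equiv
import Groth.Agent.L10.HDesc.Abs
import Groth.Agent.L09.UnivDescent
import Mathlib.CategoryTheory.Limits.Constructions.Over.Basic
import Mathlib.Topology.Category.TopCat.Limits.Pullbacks

/-!
Descent of sections for simplicial spaces over the base.
-/

universe u

open CategoryTheory CategoryTheory.Limits Opposite Simplicial TopologicalSpace AlgebraicTopology

set_option backward.defeqAttrib.useBackward true
set_option backward.isDefEq.respectTransparency false
set_option backward.isDefEq.respectTransparency.types false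
set_option autoImplicit false

namespace Groth.L10.HDesc

open Groth.L10.Proper (base lv)

variable {S : TopCat.{u}}

/-- The preimages of an open of the base. -/
noncomputable def pu (U : Opens S) : Over S ⥤ OpO S where
  obj X := ⟨X, (Opens.map X.hom).obj U⟩
  map {X X'} f := mkHom (a := ⟨X, (Opens.map X.hom).obj U⟩) (b := ⟨X', (Opens.map X'.hom).obj U⟩) f
    (fun x (hx : X.hom x ∈ U) => show X'.hom (f.left x) ∈ U from by
      rwa [show X'.hom (f.left x) = X.hom x from congrArg (fun g : X.left ⟶ S => g x) (Over.w f)])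
  map_id X := rfl
  map_comp f g := rfl

/-- Sections of the resolution over the preimages of an open. -/
noncomputable abbrev GU (Q : Sys S) (U : Opens S) : (Over S)ᵒᵖ ⥤ CochainComplex AddCommGrpCat.{u} ℤ :=
  (pu U).op ⋙ GS Q

theorem GU_subsingleton (Q : Sys S) (U : Opens S) (X : (Over S)ᵒᵖ) (k : ℤ) (hk : k < 0) :
    Subsingleton (((GU Q U).obj X).X k) :=
  GS_subsingleton Q _ hk

variable (Y : (WithInitial SimplexCategory)ᵒᵖ ⥤ TopCat.{u}) (hb : base Y ⟶ S)

/-- The levels over the base. -/
noncomputable abbrev simpO : SimplicialObject (Over S) := FibDesc.toAug SimplexCategory ⋙ liftTo Y hb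

/-- The augmentation over the base. -/
noncomputable def augSimp : simpO Y hb ⟶ (SimplicialObject.const (Over S)).obj (btO Y hb) where
  app i := augO Y hb i
  naturality i k f := by
    refine Eq.trans ?_ (Category.comp_id _).symm
    show (liftTo Y hb).map _ ≫ (liftTo Y hb).map _ = (liftTo Y hb).map _
    rw [← Functor.map_comp]
    exact congrArg (fun z => (liftTo Y hb).map z) ((L09.SpaceSite.subsingleton_toBot _).elim _ _)

variable {Y hb}

theorem le_preP (U : Opens S) (i : SimplexCategoryᵒᵖ) :
    Proper.preP Y i ((Opens.map (btO Y hb).hom).obj U) = (Opens.map (lvO Y hb i).hom).obj U :=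
  Opens.ext (Set.ext fun x => by
    show (btO Y hb).hom ((augO Y hb i).left x) ∈ U ↔ (lvO Y hb i).hom x ∈ U
    rw [show (btO Y hb).hom ((augO Y hb i).left x) = (lvO Y hb i).hom x from
      congrArg (fun g : (lvO Y hb i).left ⟶ S => g x) (Over.w (augO Y hb i))])

/-- The preimages seen from the base of the family and from the base. -/
noncomputable def famIso (U : Opens S) : famP Y hb ((Opens.map (btO Y hb).hom).obj U) ≅ simpO Y hb ⋙ pu U :=
  NatIso.ofComponents (fun i =>
    { hom := mkHom (𝟙 _) (le_preP U i).le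
      inv := mkHom (𝟙 _) (le_preP U i).ge
      hom_inv_id := hom_ext' (Category.id_comp _)
      inv_hom_id := hom_ext' (Category.id_comp _) })
    (fun {i k} f => hom_ext' ((Category.comp_id _).trans (Category.id_comp _).symm))

theorem gAug_iff_aug (Q : Sys S) (U : Opens S) :
    QuasiIso (gAug Q (famP Y hb ((Opens.map (btO Y hb).hom).obj U)) (augU Y hb (lv 0) _) (famP_eq Y hb _)) ↔
      QuasiIso (aug (GU Q U) (augSimp Y hb)) := by
  have h := gAug_natural Q (simpO Y hb ⋙ pu U) ((pu U).map ((augSimp Y hb).app (op ⦋0⦌)))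
    (((pu U).map_comp _ _).symm.trans ((congrArg (pu U).map (((augSimp Y hb).naturality (SimplexCategory.δ (0 : Fin 2)).op).trans
      ((augSimp Y hb).naturality (SimplexCategory.δ (1 : Fin 2)).op).symm)).trans ((pu U).map_comp _ _)))
    (famIso (Y := Y) (hb := hb) U).hom (augU Y hb (lv 0) _) (famP_eq Y hb _) (𝟙 _)
    (hom_ext' ((Category.id_comp _).trans (Category.comp_id _).symm))
  replace h := h.trans ((congrArg (· ≫ _) ((GS Q).map_id _)).trans (Category.id_comp _))
  have : IsIso (totMap (dcF.map (gMap Q (famIso (Y := Y) (hb := hb) U).hom))) := by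
    have : IsIso (gMap Q (famIso (Y := Y) (hb := hb) U).hom) :=
      have : ∀ i, IsIso ((gMap Q (famIso (Y := Y) (hb := hb) U).hom).app i) := fun i =>
        inferInstanceAs (IsIso ((GS Q).map ((famIso (Y := Y) (hb := hb) U).hom.app (op i)).op))
      NatIso.isIso_of_isIso_app _
    exact inferInstanceAs (IsIso (totF.map (dcF.map (gMap Q (famIso (Y := Y) (hb := hb) U).hom))))
  rw [← h, quasiIso_iff_comp_right]
  exact Iff.rfl

/-- Transport of descent along isomorphisms. -/
theorem quasiIso_aug_iff_of_iso (G : (Over S)ᵒᵖ ⥤ CochainComplex AddCommGrpCat.{u} ℤ) {K K' : SimplicialObject (Over S)}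
    {X X' : Over S} (η : K ⟶ (SimplicialObject.const _).obj X) (η' : K' ⟶ (SimplicialObject.const _).obj X')
    (e : K' ≅ K) (c : X' ≅ X) (h : e.hom ≫ η = η' ≫ (SimplicialObject.const _).map c.hom) :
    QuasiIso (aug G η) ↔ QuasiIso (aug G η') := by
  have h' := aug_natural G η η' e.hom c.hom h
  have : IsIso ((Ts G).map e.hom.op) := inferInstance
  have : IsIso (G.map c.hom.op) := inferInstance
  rw [← quasiIso_iff_comp_right (aug G η) ((Ts G).map e.hom.op), h', quasiIso_iff_comp_left]

section Cech

variable {X X' : Over S} (f : X ⟶ X')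

/-- The Čech nerve over the base is computed by the one of spaces. -/
noncomputable def cechLeftHom (i : SimplexCategoryᵒᵖ) :
    ((Arrow.mk f).cechNerve.obj i).left ⟶ (Arrow.mk f.left).cechNerve.obj i :=
  WidePullback.lift (WidePullback.base _ : (Arrow.mk f).cechNerve.obj i ⟶ X').left
    (fun j => (WidePullback.π _ j : (Arrow.mk f).cechNerve.obj i ⟶ X).left)
    (fun j => congrArg (fun z => Over.Hom.left z) (WidePullback.π_arrow (fun _ => (Arrow.mk f).hom) j))

/-- The inverse. -/
noncomputable def cechLeftInv (i : SimplexCategoryᵒᵖ) :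
    Over.mk ((WidePullback.base (fun _ : Fin (i.unop.len + 1) => (Arrow.mk f.left).hom) :
      (Arrow.mk f.left).cechNerve.obj i ⟶ X'.left) ≫ X'.hom) ⟶ (Arrow.mk f).cechNerve.obj i :=
  WidePullback.lift (Over.homMk (WidePullback.base _) rfl)
    (fun j => Over.homMk (WidePullback.π (fun _ : Fin (i.unop.len + 1) => (Arrow.mk f.left).hom) j)
      (by
        refine (congrArg (_ ≫ ·) (Over.w f).symm).trans ((Category.assoc _ _ _).symm.trans ?_)
        exact congrArg (· ≫ X'.hom) (WidePullback.π_arrow (fun _ : Fin (i.unop.len + 1) => (Arrow.mk f.left).hom) j)))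
    (fun j => Over.OverMorphism.ext (WidePullback.π_arrow (fun _ : Fin (i.unop.len + 1) => (Arrow.mk f.left).hom) j))

theorem cechInv_hom (i : SimplexCategoryᵒᵖ) : (cechLeftInv f i).left ≫ cechLeftHom f i = 𝟙 _ := by
  refine WidePullback.hom_ext _ _ _ (fun j => ?_) ?_
  · refine ((Category.assoc _ _ _).trans (congrArg (_ ≫ ·) (WidePullback.lift_π _ _ _ _ _))).trans
      (Eq.trans ?_ (Category.id_comp _).symm)
    exact congrArg (fun z => Over.Hom.left z) (WidePullback.lift_π _ _ _ _ j)
  · refine ((Category.assoc _ _ _).trans (congrArg (_ ≫ ·) (WidePullback.lift_base _ _ _ _))).trans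
      (Eq.trans ?_ (Category.id_comp _).symm)
    exact congrArg (fun z => Over.Hom.left z) (WidePullback.lift_base _ _ _ _)

theorem cechHom_inv (i : SimplexCategoryᵒᵖ) : cechLeftHom f i ≫ (cechLeftInv f i).left = 𝟙 _ := by
  let w : (Arrow.mk f).cechNerve.obj i ⟶ Over.mk ((WidePullback.base (fun _ : Fin (i.unop.len + 1) => (Arrow.mk f.left).hom) :
      (Arrow.mk f.left).cechNerve.obj i ⟶ X'.left) ≫ X'.hom) := Over.homMk (cechLeftHom f i) (by
    show cechLeftHom f i ≫ _ ≫ X'.hom = _
    exact (Category.assoc _ _ _).symm.trans ((congrArg (· ≫ X'.hom) (WidePullback.lift_base _ _ _ _)).trans (Over.w _)))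
  suffices h : w ≫ cechLeftInv f i = 𝟙 _ from congrArg (fun z => Over.Hom.left z) h
  refine WidePullback.hom_ext _ _ _ (fun j => ?_) ?_
  · refine ((Category.assoc _ _ _).trans (congrArg (w ≫ ·) (WidePullback.lift_π _ _ _ _ _))).trans
      (Eq.trans ?_ (Category.id_comp _).symm)
    exact Over.OverMorphism.ext (WidePullback.lift_π _ _ _ _ j)
  · refine ((Category.assoc _ _ _).trans (congrArg (w ≫ ·) (WidePullback.lift_base _ _ _ _))).trans
      (Eq.trans ?_ (Category.id_comp _).symm)
    exact Over.OverMorphism.ext (WidePullback.lift_base _ _ _ _)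

/-- The Čech nerve over the base is the family of the Čech nerve of spaces. -/
noncomputable def cechIso : (Arrow.mk f).cechNerve ≅ simpO (FibDesc.cechAug f.left) X'.hom :=
  NatIso.ofComponents (fun i =>
    Over.isoMk
      { hom := cechLeftHom f i
        inv := (cechLeftInv f i).left
        hom_inv_id := cechHom_inv f i
        inv_hom_id := cechInv_hom f i }
      (by
        show cechLeftHom f i ≫ (WidePullback.base _ ≫ X'.hom) = _
        exact (Category.assoc _ _ _).symm.trans ((congrArg (· ≫ X'.hom) (WidePullback.lift_base _ _ _ _)).trans (Over.w _))))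
    (fun {i k} g => Over.OverMorphism.ext (by
      refine WidePullback.hom_ext _ _ _ (fun j => ?_) ?_
      · show (_ ≫ cechLeftHom f k) ≫ _ = (cechLeftHom f i ≫ _) ≫ _
        rw [Category.assoc, Category.assoc]
        erw [WidePullback.lift_π, WidePullback.lift_π, WidePullback.lift_π]
        exact congrArg (fun z => Over.Hom.left z) (WidePullback.lift_π _ _ _ _ j)
      · show (_ ≫ cechLeftHom f k) ≫ _ = (cechLeftHom f i ≫ _) ≫ _
        rw [Category.assoc, Category.assoc]
        erw [WidePullback.lift_base, WidePullback.lift_base, WidePullback.lift_base]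
        exact congrArg (fun z => Over.Hom.left z) (WidePullback.lift_base _ _ _ _)))

/-- A map universally of descent gives descent of sections for its Čech nerve over the base. -/
theorem quasiIso_aug_cech (hf : FibDesc.IsUnivCohDescentMap f.left) {Q : Sys S} (hQ : IsSheafSys Q) (hC : Cart Q)
    (U : Opens S) : QuasiIso (aug (GU Q U) (Arrow.mk f).augmentedCechNerve.hom) := by
  have h₁ : FibDesc.IsCohDescentTop (FibDesc.cechAug f.left) :=
    L09.UnivDescent.isCohDescentMap_of_isPullback hf (IsPullback.of_id_fst (f := f.left))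
  let Y := FibDesc.cechAug f.left
  have h₂ := (gAug_iff_aug (Y := Y) (hb := X'.hom) Q U).1 (quasiIso_gAug_of_isCohDescentTop hQ hC h₁ _)
  let c : X' ≅ btO Y X'.hom := Over.isoMk (Iso.refl _) (by
    show 𝟙 _ ≫ (Over.mk (Y.map (Groth.L10.Descent.toBot (FibDesc.bot SimplexCategory)) ≫ X'.hom)).hom = X'.hom
    exact (Category.id_comp _).trans ((congrArg (· ≫ X'.hom)
      ((congrArg Y.map ((L09.SpaceSite.subsingleton_toBot _).elim _ (𝟙 _))).trans (Y.map_id _))).trans (Category.id_comp _)))
  refine (quasiIso_aug_iff_of_iso (GU Q U) (augSimp Y X'.hom) _ (cechIso f) c ?_).1 h₂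
  refine NatTrans.ext (funext fun i => Over.OverMorphism.ext ?_)
  refine Eq.trans ?_ (Category.comp_id _).symm
  show cechLeftHom f i ≫ Y.map (Groth.L10.Descent.toBot ((FibDesc.toAug SimplexCategory).obj i)) = _
  refine (congrArg (fun z => cechLeftHom f i ≫ Y.map z) ((L09.SpaceSite.subsingleton_toBot _).elim _
    (WithInitial.starInitial.to (WithInitial.of i.unop)).op)).trans ?_
  exact WidePullback.lift_base _ _ _ _

end Cech

end Groth.L10.HDesc
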